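import Mathlib
import Cfsg.Agent.OddCyclic.EmpFFAlt
import Cfsg.Agent.BpAlt.Row
import Cfsg.Agent.S0253
import Cfsg.Agent.Lib.PermCode
import Cfsg.Agent.PLocal.HHBClifford
import Cfsg.Agent.H138.HT.Alt
import Cfsg.Agent.H348.Nonsolvable
import Cfsg.Agent.SignalizersComponents.Components
import Cfsg.Agent.PermutationGroups.AutQuaternion
import Cfsg.Agent.Lib.AutSL2Out
import Cfsg.Agent.S0144
import Cfsg.Prelude.Def_LieChev
import Cfsg.Prelude.Def_Classical
import Cfsg.Agent.FastGrp
import Cfsg.Agent.Prune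
set_option linter.all false

section
prune_inst 0x7ff0ecf98fa829dfdfff7e3fa7f8cffc33800fffe6dff94bffe0699f0bdf03020bc5ab8d09e050fe1ed6601410b87813f97ec23fe06bdc7ffffd5ff41ffbee1fa5e7b508519588340fbc2fff03f0778e7f3fffffffffefffffffffffffffffbeffbdfffffffd

-- part: H828/HT/Def
section
prune_inst 0xf03047004d0002000018050050001c02ec000100004b0000a0220d020d0a58428503262108800c10080080800004002002dc0000400000000a00040000040521808252042364a10434000f800002000000000000010000000000000000041000200000002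
set_option linter.all false
open scoped Cfsg.Agent.FastGrp

/-!
# Half-transitive linear groups: definitions and the pseudocyclic identity (S3540)

`G` is a subgroup of `V ≃ₗ[ZMod p] V`; it acts on `V` by application (`MulAction`), so
`MulAction.stabilizer G v` and `MulAction.orbit G v` may be used.
-/

set_option autoImplicit false

open scoped Classical

namespace Cfsg.Agent.H828.HT

universe u

variable {p : ℕ} [Fact p.Prime] {V : Type u} [AddCommGroup V] [Module (ZMod p) V]

/-- All non-zero vectors have stabilisers of order `h`. -/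
def Half (G : Subgroup (V ≃ₗ[ZMod p] V)) (h : ℕ) : Prop :=
  ∀ v : V, v ≠ 0 → Nat.card (MulAction.stabilizer G v) = h

/-- fixed space of an element -/
def fx (g : V ≃ₗ[ZMod p] V) : Submodule (ZMod p) V :=
  LinearMap.ker ((g : V →ₗ[ZMod p] V) - LinearMap.id)

/-- commutator space `[V, g]` -/
def cm (g : V ≃ₗ[ZMod p] V) : Submodule (ZMod p) V :=
  LinearMap.range ((g : V →ₗ[ZMod p] V) - LinearMap.id)

@[simp] theorem mem_fx {g : V ≃ₗ[ZMod p] V} {v : V} : v ∈ fx g ↔ g v = v := by
  simp [fx, LinearMap.mem_ker, sub_eq_zero]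

theorem mem_cm {g : V ≃ₗ[ZMod p] V} {v : V} : v ∈ cm g ↔ ∃ w, g w = w + v := by
  simp only [cm, LinearMap.mem_range, LinearMap.sub_apply, LinearMap.id_apply,
    LinearEquiv.coe_coe, sub_eq_iff_eq_add]
  constructor
  · rintro ⟨w, h⟩
    exact ⟨w, by rw [h, add_comm]⟩
  · rintro ⟨w, h⟩
    exact ⟨w, by rw [h, add_comm]⟩

theorem mem_stab {G : Subgroup (V ≃ₗ[ZMod p] V)} {g : G} {v : V} :
    g ∈ MulAction.stabilizer G v ↔ (g : V ≃ₗ[ZMod p] V) v = v := Iff.rfl

/-- functionals fixed by `g` -/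
def dfx (g : V ≃ₗ[ZMod p] V) : Submodule (ZMod p) (Module.Dual (ZMod p) V) :=
  (cm g).dualAnnihilator

theorem mem_dfx {g : V ≃ₗ[ZMod p] V} {f : Module.Dual (ZMod p) V} :
    f ∈ dfx g ↔ ∀ w, f (g w) = f w := by
  simp only [dfx, Submodule.mem_dualAnnihilator, cm, LinearMap.mem_range]
  constructor
  · intro h w
    have := h _ ⟨w, rfl⟩
    simpa only [sub_eq_zero, _root_.LinearMap.sub_apply, _root_.LinearEquiv.coe_coe, _root_.LinearMap.id_coe, _root_.id_eq, _root_.map_sub] using this
  · rintro h _ ⟨w, rfl⟩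
    simp [h w]

set_option linter.unusedSectionVars false

section fin

variable [Finite V]

instance finG : Finite (V ≃ₗ[ZMod p] V) :=
  Finite.of_injective (fun g : V ≃ₗ[ZMod p] V => (g : V → V)) DFunLike.coe_injective

instance finFD : Module.Finite (ZMod p) V := Module.Finite.of_finite

instance finD : Finite (Module.Dual (ZMod p) V) := Module.finite_of_finite (ZMod p)

theorem card_cm_mul (g : V ≃ₗ[ZMod p] V) :
    Nat.card (cm g) * Nat.card (fx g) = Nat.card V := by
  have e := ((g : V →ₗ[ZMod p] V) - LinearMap.id).quotKerEquivRange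
  rw [cm, fx, ← Nat.card_congr e.toEquiv, mul_comm]
  exact (Submodule.card_eq_card_quotient_mul_card _).symm

theorem card_eq_pow (W : Type*) [AddCommGroup W] [Module (ZMod p) W] [Finite W] :
    Nat.card W = p ^ Module.finrank (ZMod p) W := by
  have := Module.natCard_eq_pow_finrank (K := ZMod p) (V := W)
  rwa [Nat.card_zmod] at this

theorem card_dfx (g : V ≃ₗ[ZMod p] V) : Nat.card (dfx g) = Nat.card (fx g) := by
  have h1 := Subspace.finrank_add_finrank_dualAnnihilator_eq (cm g)
  have h2 := card_cm_mul g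
  rw [card_eq_pow (p := p), card_eq_pow (p := p), card_eq_pow (p := p) V, ← pow_add] at h2
  have h3 := Nat.pow_right_injective (Fact.out : p.Prime).two_le h2
  rw [card_eq_pow (p := p), card_eq_pow (p := p) (fx g)]
  congr 1
  change Module.finrank (ZMod p) (cm g).dualAnnihilator = _
  omega

theorem card_dual : Nat.card (Module.Dual (ZMod p) V) = Nat.card V := by
  rw [card_eq_pow (p := p), card_eq_pow (p := p) V, Subspace.dual_finrank_eq]

variable {G : Subgroup (V ≃ₗ[ZMod p] V)} {h : ℕ}

/-- the stabiliser of a functional -/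
def dst (G : Subgroup (V ≃ₗ[ZMod p] V)) (f : Module.Dual (ZMod p) V) : Subgroup G where
  carrier := {g | f ∈ dfx (g : V ≃ₗ[ZMod p] V)}
  one_mem' := by
    simp only [Set.mem_ofPred_eq, mem_dfx]
    intro w; rfl
  mul_mem' := by
    intro a b ha hb
    simp only [Set.mem_ofPred_eq, mem_dfx] at *
    intro w
    have : ((a * b : G) : V ≃ₗ[ZMod p] V) w = (a : V ≃ₗ[ZMod p] V) ((b : V ≃ₗ[ZMod p] V) w) := rfl
    rw [this, ha, hb]
  inv_mem' := by
    intro a ha
    simp only [Set.mem_ofPred_eq, mem_dfx] at *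
    intro w
    have : (a : V ≃ₗ[ZMod p] V) (((a⁻¹ : G) : V ≃ₗ[ZMod p] V) w) = w := by
      change ((a * a⁻¹ : G) : V ≃ₗ[ZMod p] V) w = w
      rw [mul_inv_cancel]; rfl
    rw [← ha, this]

theorem mem_dst {f : Module.Dual (ZMod p) V} {g : G} :
    g ∈ dst G f ↔ ∀ w, f ((g : V ≃ₗ[ZMod p] V) w) = f w := by
  change f ∈ dfx (g : V ≃ₗ[ZMod p] V) ↔ _
  exact mem_dfx

/-! ### Counting -/

noncomputable instance ftV : Fintype V := Fintype.ofFinite V
noncomputable instance ftG (G : Subgroup (V ≃ₗ[ZMod p] V)) : Fintype G := Fintype.ofFinite G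
noncomputable instance ftD : Fintype (Module.Dual (ZMod p) V) := Fintype.ofFinite _

theorem sum_card_fx (G : Subgroup (V ≃ₗ[ZMod p] V)) :
    ∑ g : G, Nat.card (fx (g : V ≃ₗ[ZMod p] V)) =
      ∑ v : V, Nat.card (MulAction.stabilizer G v) := by
  have h1 : ∀ g : G, Nat.card (fx (g : V ≃ₗ[ZMod p] V)) =
      ∑ v : V, if (g : V ≃ₗ[ZMod p] V) v = v then 1 else 0 := by
    intro g
    rw [Finset.sum_boole, Nat.cast_id, Nat.card_eq_fintype_card, Fintype.card_subtype]
    congr 1
    ext v
    simp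
  have h2 : ∀ v : V, Nat.card (MulAction.stabilizer G v) =
      ∑ g : G, if (g : V ≃ₗ[ZMod p] V) v = v then 1 else 0 := by
    intro v
    rw [Finset.sum_boole, Nat.cast_id, Nat.card_eq_fintype_card, Fintype.card_subtype]
    congr 1
  simp_rw [h1, h2]
  exact Finset.sum_comm

theorem sum_card_dfx (G : Subgroup (V ≃ₗ[ZMod p] V)) :
    ∑ g : G, Nat.card (dfx (g : V ≃ₗ[ZMod p] V)) =
      ∑ f : Module.Dual (ZMod p) V, Nat.card (dst G f) := by
  have h1 : ∀ g : G, Nat.card (dfx (g : V ≃ₗ[ZMod p] V)) =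
      ∑ f : Module.Dual (ZMod p) V, if f ∈ dfx (g : V ≃ₗ[ZMod p] V) then 1 else 0 := by
    intro g
    rw [Finset.sum_boole, Nat.cast_id, Nat.card_eq_fintype_card, Fintype.card_subtype]
  have h2 : ∀ f : Module.Dual (ZMod p) V, Nat.card (dst G f) =
      ∑ g : G, if f ∈ dfx (g : V ≃ₗ[ZMod p] V) then 1 else 0 := by
    intro f
    rw [Finset.sum_boole, Nat.cast_id, Nat.card_eq_fintype_card, Fintype.card_subtype]
    congr 1
  simp_rw [h1, h2]
  exact Finset.sum_comm

/-- in coprime characteristic a functional fixed by `X` does not vanish on the fixed vectors -/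
theorem exists_fixed (X : Subgroup (V ≃ₗ[ZMod p] V)) (hX : ¬ p ∣ Nat.card X)
    {f : Module.Dual (ZMod p) V} (hf : f ≠ 0) (h : ∀ g ∈ X, ∀ w, f (g w) = f w) :
    ∃ v, f v ≠ 0 ∧ ∀ g ∈ X, g v = v := by
  obtain ⟨w, hw⟩ : ∃ w, f w ≠ 0 := by
    by_contra hc
    push Not at hc
    exact hf (LinearMap.ext hc)
  refine ⟨∑ g : X, (g : V ≃ₗ[ZMod p] V) w, ?_, ?_⟩
  · rw [map_sum]
    have : ∀ g : X, f ((g : V ≃ₗ[ZMod p] V) w) = f w := fun g => h g g.2 w
    simp only [this, Finset.sum_const, Finset.card_univ, nsmul_eq_mul]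
    rw [← Nat.card_eq_fintype_card]
    refine mul_ne_zero ?_ hw
    rwa [Ne, ZMod.natCast_eq_zero_iff]
  · intro g hg
    rw [map_sum]
    exact Fintype.sum_equiv (Equiv.mulLeft (⟨g, hg⟩ : X)) _ _ (fun x => rfl)

theorem dst_le (hG : ¬ p ∣ Nat.card G) (hh : Half G h) {f : Module.Dual (ZMod p) V}
    (hf : f ≠ 0) : Nat.card (dst G f) ≤ h := by
  have hle : Nat.card ((dst G f).map G.subtype) ∣ Nat.card G := by
    rw [Nat.card_congr ((dst G f).equivMapOfInjective _ G.subtype_injective).toEquiv.symm]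
    exact Subgroup.card_subgroup_dvd_card _
  obtain ⟨v, hv, hv'⟩ := exists_fixed ((dst G f).map G.subtype)
    (fun hd => hG (hd.trans hle)) hf (by
      rintro _ ⟨g, hg, rfl⟩ w
      exact mem_dst.1 hg w)
  have hv0 : v ≠ 0 := by
    rintro rfl
    exact hv (map_zero f)
  rw [← hh v hv0]
  refine Subgroup.card_le_of_le ?_
  intro g hg
  exact hv' _ ⟨g, hg, rfl⟩

theorem dst_card (hG : ¬ p ∣ Nat.card G) (hh : Half G h) {f : Module.Dual (ZMod p) V}
    (hf : f ≠ 0) : Nat.card (dst G f) = h := by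
  have h1 := sum_card_fx G
  have h2 := sum_card_dfx G
  simp_rw [card_dfx] at h2
  rw [h1] at h2
  have e1 : ∑ v : V, Nat.card (MulAction.stabilizer G v) =
      Nat.card G + ∑ _v ∈ (Finset.univ.erase (0 : V)), h := by
    rw [← Finset.add_sum_erase _ _ (Finset.mem_univ (0 : V))]
    congr 1
    · have : MulAction.stabilizer G (0 : V) = ⊤ := by
        rw [eq_top_iff]
        intro g _
        exact map_zero (g : V ≃ₗ[ZMod p] V)
      rw [this, Subgroup.card_top]
    · exact Finset.sum_congr rfl (fun v hv => hh v (Finset.ne_of_mem_erase hv))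
  have e2 : ∑ f : Module.Dual (ZMod p) V, Nat.card (dst G f) =
      Nat.card G + ∑ f ∈ (Finset.univ.erase (0 : Module.Dual (ZMod p) V)),
        Nat.card (dst G f) := by
    rw [← Finset.add_sum_erase _ _ (Finset.mem_univ (0 : Module.Dual (ZMod p) V))]
    congr 1
    have : dst G (0 : Module.Dual (ZMod p) V) = ⊤ := by
      rw [eq_top_iff]
      intro g _
      rw [mem_dst]
      intro w; rfl
    rw [this, Subgroup.card_top]
  have e3 : ∑ _v ∈ (Finset.univ.erase (0 : V)), h =
      ∑ _f ∈ (Finset.univ.erase (0 : Module.Dual (ZMod p) V)), h := by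
    rw [Finset.sum_const, Finset.sum_const, Finset.card_erase_of_mem (Finset.mem_univ _),
      Finset.card_erase_of_mem (Finset.mem_univ _), Finset.card_univ, Finset.card_univ,
      ← Nat.card_eq_fintype_card, ← Nat.card_eq_fintype_card, card_dual]
  rw [e1, e2, e3] at h2
  have h3 := Nat.add_left_cancel h2
  have h4 := (Finset.sum_eq_sum_iff_of_le (s := Finset.univ.erase (0 : Module.Dual (ZMod p) V))
    (f := fun f => Nat.card (dst G f)) (g := fun _ => h)
    (fun f hf => dst_le hG hh (Finset.ne_of_mem_erase hf))).1 h3.symm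
  exact h4 f (Finset.mem_erase.2 ⟨hf, Finset.mem_univ _⟩)

/-- evaluation character `f ↦ ψ (f v)` on a space of functionals -/
noncomputable def ev (W : Submodule (ZMod p) (Module.Dual (ZMod p) V)) (v : V) :
    AddChar W ℂ :=
  (ZMod.stdAddChar (N := p)).compAddMonoidHom
    { toFun := fun f => (f : Module.Dual (ZMod p) V) v
      map_zero' := rfl
      map_add' := fun _ _ => rfl }

theorem sum_ev (W : Submodule (ZMod p) (Module.Dual (ZMod p) V)) (v : V) :
    ∑ f : Module.Dual (ZMod p) V, (if f ∈ W then (ZMod.stdAddChar (N := p)) (f v) else 0) =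
      if (∀ f ∈ W, f v = 0) then (Nat.card W : ℂ) else 0 := by
  rw [← Finset.sum_filter]
  have h1 : ∑ f ∈ Finset.univ.filter (fun f : Module.Dual (ZMod p) V => f ∈ W),
      (ZMod.stdAddChar (N := p)) (f v) = ∑ f : W, ev W v f := by
    exact Finset.sum_subtype (Finset.univ.filter (fun f : Module.Dual (ZMod p) V => f ∈ W))
      (p := fun f => f ∈ W) (by simp) (fun f => (ZMod.stdAddChar (N := p)) (f v))
  rw [h1, AddChar.sum_eq_ite]
  have h2 : (ev W v = 0) ↔ (∀ f ∈ W, f v = 0) := by
    constructor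
    · intro h f hf
      have := DFunLike.congr_fun h (⟨f, hf⟩ : W)
      have h3 : (ZMod.stdAddChar (N := p)) (f v) = 1 := this
      rw [← (ZMod.stdAddChar (N := p)).map_zero_eq_one, ZMod.injective_stdAddChar.eq_iff] at h3
      exact h3
    · intro h
      ext f
      change (ZMod.stdAddChar (N := p)) ((f : Module.Dual (ZMod p) V) v) = 1
      rw [h _ f.2, AddChar.map_zero_eq_one]
  by_cases h : ∀ f ∈ W, f v = 0
  · rw [if_pos (h2.2 h), if_pos h, Nat.card_eq_fintype_card]
  · rw [if_neg (fun h' => h (h2.1 h')), if_neg h]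

/-- **Pseudocyclic identity.** -/
theorem ident (hG : ¬ p ∣ Nat.card G) (hh : Half G h) {v : V} (hv : v ≠ 0) :
    (∑ g : G, if v ∈ cm (g : V ≃ₗ[ZMod p] V) then Nat.card (fx (g : V ≃ₗ[ZMod p] V)) else 0)
      + h = Nat.card G := by
  have key : (∑ g : G, (if v ∈ cm (g : V ≃ₗ[ZMod p] V) then
      (Nat.card (fx (g : V ≃ₗ[ZMod p] V)) : ℂ) else 0)) =
      (Nat.card G : ℂ) - h := by
    have h1 : ∀ g : G, (if v ∈ cm (g : V ≃ₗ[ZMod p] V) then
        (Nat.card (fx (g : V ≃ₗ[ZMod p] V)) : ℂ) else 0) =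
        ∑ f : Module.Dual (ZMod p) V, (if f ∈ dfx (g : V ≃ₗ[ZMod p] V) then
          (ZMod.stdAddChar (N := p)) (f v) else 0) := by
      intro g
      rw [sum_ev, card_dfx]
      congr 1
      rw [dfx, eq_iff_iff]
      exact (Subspace.forall_mem_dualAnnihilator_apply_eq_zero_iff _ _).symm
    rw [Finset.sum_congr rfl (fun g _ => h1 g), Finset.sum_comm]
    have h2 : ∀ f : Module.Dual (ZMod p) V,
        (∑ g : G, (if f ∈ dfx (g : V ≃ₗ[ZMod p] V) then
          (ZMod.stdAddChar (N := p)) (f v) else 0)) =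
        (Nat.card (dst G f) : ℂ) * (ZMod.stdAddChar (N := p)) (f v) := by
      intro f
      rw [← Finset.sum_filter, Finset.sum_const, nsmul_eq_mul, Nat.card_eq_fintype_card,
        Fintype.card_subtype]
      rfl
    rw [Finset.sum_congr rfl (fun f _ => h2 f),
      ← Finset.add_sum_erase _ _ (Finset.mem_univ (0 : Module.Dual (ZMod p) V))]
    have h3 : ∑ f ∈ Finset.univ.erase (0 : Module.Dual (ZMod p) V),
        (Nat.card (dst G f) : ℂ) * (ZMod.stdAddChar (N := p)) (f v) =
        (h : ℂ) * ∑ f ∈ Finset.univ.erase (0 : Module.Dual (ZMod p) V),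
          (ZMod.stdAddChar (N := p)) (f v) := by
      rw [Finset.mul_sum]
      exact Finset.sum_congr rfl (fun f hf => by
        rw [dst_card hG hh (Finset.ne_of_mem_erase hf)])
    have h4 : ∑ f : Module.Dual (ZMod p) V, (ZMod.stdAddChar (N := p)) (f v) = 0 := by
      have := sum_ev (⊤ : Submodule (ZMod p) (Module.Dual (ZMod p) V)) v
      simp only [Submodule.mem_top, if_true, true_imp_iff] at this
      rw [this, if_neg]
      intro hc
      exact hv ((Module.forall_dual_apply_eq_zero_iff (ZMod p) v).1 hc)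
    rw [← Finset.add_sum_erase _ _ (Finset.mem_univ (0 : Module.Dual (ZMod p) V))] at h4
    have h5 : (ZMod.stdAddChar (N := p)) ((0 : Module.Dual (ZMod p) V) v) = 1 := by
      rw [LinearMap.zero_apply, AddChar.map_zero_eq_one]
    rw [h5] at h4
    have h6 : dst G (0 : Module.Dual (ZMod p) V) = ⊤ := by
      rw [eq_top_iff]
      intro g _
      rw [mem_dst]
      intro w; rfl
    rw [h3, eq_neg_of_add_eq_zero_right h4, h5, h6, Subgroup.card_top]
    ring
  have h7 : ((∑ g : G, if v ∈ cm (g : V ≃ₗ[ZMod p] V) then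
      Nat.card (fx (g : V ≃ₗ[ZMod p] V)) else 0 : ℕ) : ℂ) + h = Nat.card G := by
    push_cast
    rw [key]
    ring
  exact_mod_cast h7

/-! ### Consequences; `m` is the common orbit length -/

theorem card_transporter {w u : V} (g₀ : G) (hg : (g₀ : V ≃ₗ[ZMod p] V) w = u) :
    Nat.card {g : G // (g : V ≃ₗ[ZMod p] V) w = u} =
      Nat.card (MulAction.stabilizer G w) := by
  refine Nat.card_congr ?_
  refine ⟨fun g => ⟨g₀⁻¹ * g.1, ?_⟩, fun g => ⟨g₀ * g.1, ?_⟩, ?_, ?_⟩
  · rw [MulAction.mem_stabilizer_iff, mul_smul, inv_smul_eq_iff]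
    exact g.2.trans hg.symm
  · have : (g₀ * g.1) • w = u := by
      rw [mul_smul, MulAction.mem_stabilizer_iff.1 g.2]
      exact hg
    exact this
  · intro g; simp only [_root_.mul_inv_cancel_left, _root_.Subtype.coe_eta]
  · intro g; simp only [_root_.inv_mul_cancel_left, _root_.Subtype.coe_eta]

theorem pairs_card (v : V) :
    (∑ g : G, if v ∈ cm (g : V ≃ₗ[ZMod p] V) then Nat.card (fx (g : V ≃ₗ[ZMod p] V)) else 0) =
      ∑ w : V, Nat.card {g : G // (g : V ≃ₗ[ZMod p] V) w = w + v} := by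
  have h1 : ∀ g : G, (if v ∈ cm (g : V ≃ₗ[ZMod p] V) then
      Nat.card (fx (g : V ≃ₗ[ZMod p] V)) else 0) =
      ∑ w : V, if (g : V ≃ₗ[ZMod p] V) w = w + v then 1 else 0 := by
    intro g
    rw [Finset.sum_boole, Nat.cast_id]
    by_cases hv : v ∈ cm (g : V ≃ₗ[ZMod p] V)
    · rw [if_pos hv]
      obtain ⟨w₀, hw₀⟩ := mem_cm.1 hv
      rw [Nat.card_eq_fintype_card, Fintype.card_subtype]
      refine Finset.card_bij (fun w _ => w₀ + w) ?_ ?_ ?_
      · intro w hw
        simp only [Finset.mem_filter, Finset.mem_univ, true_and, mem_fx] at hw ⊢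
        rw [map_add, hw₀, hw]
        abel
      · intro a _ b _ h
        exact add_left_cancel h
      · intro b hb
        simp only [Finset.mem_filter, Finset.mem_univ, true_and] at hb
        refine ⟨b - w₀, ?_, by abel⟩
        simp only [Finset.mem_filter, Finset.mem_univ, true_and, mem_fx]
        rw [map_sub, hw₀, hb]
        abel
    · rw [if_neg hv, eq_comm, Finset.card_eq_zero, Finset.filter_eq_empty_iff]
      intro w _ hw
      exact hv (mem_cm.2 ⟨w, hw⟩)
  have h2 : ∀ w : V, Nat.card {g : G // (g : V ≃ₗ[ZMod p] V) w = w + v} =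
      ∑ g : G, if (g : V ≃ₗ[ZMod p] V) w = w + v then 1 else 0 := by
    intro w
    rw [Finset.sum_boole, Nat.cast_id, Nat.card_eq_fintype_card, Fintype.card_subtype]
  simp_rw [h1, h2]
  exact Finset.sum_comm

theorem exists_mem_cm {g : V ≃ₗ[ZMod p] V} (hg : g ≠ 1) : ∃ v, v ≠ 0 ∧ v ∈ cm g := by
  by_contra hc
  push Not at hc
  apply hg
  ext w
  have h1 : g w - w ∈ cm g := mem_cm.2 ⟨w, by abel⟩
  by_contra hne
  exact hc (g w - w) (sub_ne_zero.2 hne) h1

/-- `|C_V(g)| ≤ m - 1` for `g ≠ 1`. -/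
theorem fx_lt (hG : ¬ p ∣ Nat.card G) (hh : Half G h) (h0 : 0 < h) {m : ℕ}
    (hm : m * h = Nat.card G) {g₀ : G} (hg₀ : g₀ ≠ 1) :
    Nat.card (fx (g₀ : V ≃ₗ[ZMod p] V)) + 1 ≤ m := by
  obtain ⟨v, hv, hv'⟩ := exists_mem_cm (g := (g₀ : V ≃ₗ[ZMod p] V))
    (fun h => hg₀ (Subtype.ext h))
  have h1 := ident hG hh hv
  rw [pairs_card] at h1
  have h2 : h * Nat.card (fx (g₀ : V ≃ₗ[ZMod p] V)) ≤
      ∑ w : V, Nat.card {g : G // (g : V ≃ₗ[ZMod p] V) w = w + v} := by
    have h3 : ∑ w ∈ Finset.univ.filter (fun w : V => (g₀ : V ≃ₗ[ZMod p] V) w = w + v),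
        Nat.card {g : G // (g : V ≃ₗ[ZMod p] V) w = w + v} =
        ∑ _w ∈ Finset.univ.filter (fun w : V => (g₀ : V ≃ₗ[ZMod p] V) w = w + v), h := by
      refine Finset.sum_congr rfl ?_
      intro w hw
      have hw' := (Finset.mem_filter.1 hw).2
      rw [card_transporter g₀ hw']
      apply hh
      rintro rfl
      rw [map_zero, zero_add] at hw'
      exact hv hw'.symm
    have h4 : (Finset.univ.filter (fun w : V => (g₀ : V ≃ₗ[ZMod p] V) w = w + v)).card =
        Nat.card (fx (g₀ : V ≃ₗ[ZMod p] V)) := by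
      obtain ⟨w₀, hw₀⟩ := mem_cm.1 hv'
      rw [Nat.card_eq_fintype_card, Fintype.card_subtype]
      symm
      refine Finset.card_bij (fun w _ => w₀ + w) ?_ ?_ ?_
      · intro w hw
        simp only [Finset.mem_filter, Finset.mem_univ, true_and, mem_fx] at hw ⊢
        rw [map_add, hw₀, hw]
        abel
      · intro a _ b _ h
        exact add_left_cancel h
      · intro b hb
        simp only [Finset.mem_filter, Finset.mem_univ, true_and] at hb
        refine ⟨b - w₀, ?_, by abel⟩
        simp only [Finset.mem_filter, Finset.mem_univ, true_and, mem_fx]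
        rw [map_sub, hw₀, hb]
        abel
    rw [Finset.sum_const, h4, smul_eq_mul, mul_comm] at h3
    rw [← h3]
    exact Finset.sum_le_sum_of_subset (Finset.subset_univ _)
  have h5 : h * (Nat.card (fx (g₀ : V ≃ₗ[ZMod p] V)) + 1) ≤ h * m := by
    rw [mul_comm h m, hm]
    linarith only [h1, h2]
  exact Nat.le_of_mul_le_mul_left h5 h0

theorem fx_one : fx (1 : V ≃ₗ[ZMod p] V) = ⊤ := by
  rw [eq_top_iff]; intro v _; rw [mem_fx]; rfl

/-- `∑_{g ≠ 1} (|C_V(g)| - 1) = (h - 1)(|V| - 1)` in additive form. -/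
theorem sum_fx_half (hh : Half G h) :
    ∑ g : G, Nat.card (fx (g : V ≃ₗ[ZMod p] V)) + h = Nat.card G + h * Nat.card V := by
  rw [sum_card_fx, ← Finset.add_sum_erase _ _ (Finset.mem_univ (0 : V))]
  have h1 : MulAction.stabilizer G (0 : V) = ⊤ := by
    rw [eq_top_iff]
    intro g _
    exact map_zero (g : V ≃ₗ[ZMod p] V)
  have h2 : ∑ v ∈ (Finset.univ.erase (0 : V)), Nat.card (MulAction.stabilizer G v) =
      ∑ _v ∈ (Finset.univ.erase (0 : V)), h :=
    Finset.sum_congr rfl (fun v hv => hh v (Finset.ne_of_mem_erase hv))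
  have h3 : (Finset.univ.erase (0 : V)).card + 1 = Nat.card V := by
    rw [Finset.card_erase_of_mem (Finset.mem_univ _), Finset.card_univ,
      Nat.card_eq_fintype_card]
    exact Nat.sub_add_cancel Fintype.card_pos
  rw [h1, h2, Subgroup.card_top, Finset.sum_const, smul_eq_mul, ← h3]
  ring

/-- **The size bound**: `|V| ≤ 2 m²`. -/
theorem card_le (hG : ¬ p ∣ Nat.card G) (hh : Half G h) (h2 : 2 ≤ h) {m : ℕ}
    (hm : m * h = Nat.card G) : Nat.card V ≤ 2 * m ^ 2 := by
  have h1 := sum_fx_half hh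
  rw [← Finset.add_sum_erase _ _ (Finset.mem_univ (1 : G))] at h1
  have e1 : Nat.card (fx ((1 : G) : V ≃ₗ[ZMod p] V)) = Nat.card V := by
    rw [Subgroup.coe_one, fx_one]
    exact Nat.card_congr Submodule.topEquiv.toEquiv
  have h3 : ∑ g ∈ Finset.univ.erase (1 : G), (Nat.card (fx (g : V ≃ₗ[ZMod p] V)) + 1) ≤
      ∑ _g ∈ Finset.univ.erase (1 : G), m :=
    Finset.sum_le_sum (fun g hg => fx_lt hG hh (by omega) hm (Finset.ne_of_mem_erase hg))
  have h4 : (Finset.univ.erase (1 : G)).card + 1 = Nat.card G := by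
    rw [Finset.card_erase_of_mem (Finset.mem_univ _), Finset.card_univ,
      Nat.card_eq_fintype_card]
    exact Nat.sub_add_cancel Fintype.card_pos
  rw [Finset.sum_add_distrib, Finset.sum_const, Finset.sum_const, smul_eq_mul, smul_eq_mul,
    mul_one] at h3
  rw [e1] at h1
  set S := ∑ g ∈ Finset.univ.erase (1 : G), Nat.card (fx (g : V ≃ₗ[ZMod p] V))
  set c := (Finset.univ.erase (1 : G)).card
  obtain ⟨k, rfl⟩ : ∃ k, h = k + 2 := ⟨h - 2, by omega⟩
  -- `S + |V| + h = |G| + h |V|`, `S + c ≤ c m`, `c + 1 = |G| = m h`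
  have hc : c + 1 = m * (k + 2) := by rw [h4, hm]
  have hS : S + Nat.card V + (k + 2) = m * (k + 2) + (k + 2) * Nat.card V := by
    rw [hm, ← h1]; ring
  obtain ⟨n, rfl⟩ : ∃ n, m = n + 1 := by
    rcases Nat.eq_zero_or_pos m with h | h
    · subst h; simp at hc
    · exact ⟨m - 1, by omega⟩
  have hc' : c = n * (k + 2) + (k + 1) := by linarith only [h4, hm]
  have hS2 : S ≤ c * n := by linarith only [h3]
  have key : (k + 1) * Nat.card V ≤ (k + 1) * (2 * (n + 1) ^ 2) := by
    have : (k + 1) * Nat.card V + n * (k + 2) = S := by linarith only [h1, hm]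
    have h5 : c * n = (n * (k + 2) + (k + 1)) * n := by rw [hc']
    linarith only [h1, h3, h5, Nat.zero_le (k * n), Nat.zero_le (k * n * n)]
  exact Nat.le_of_mul_le_mul_left key (by omega)

end fin

end Cfsg.Agent.H828.HT

private theorem dce_b0eafbd213cc : _root_.True := by
  try have : _root_.True := by simp only [_root_.Cfsg.Agent.H828.HT.fx.eq_1]
  try have : _root_.True := by simp only [_root_.Cfsg.Agent.H828.HT.cm.eq_1]
  try have : _root_.True := by simp only [_root_.Cfsg.Agent.H828.HT.dfx.eq_1]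
  exact _root_.True.intro
end

-- part: H828/HT/Basic
section
prune_inst 0x10000000000000000000000000000002
set_option linter.all false
open scoped Cfsg.Agent.FastGrp

/-!
# Half-transitive linear groups: basic tools (S3540)
-/

set_option autoImplicit false
set_option linter.unusedSectionVars false

open scoped Classical

namespace Cfsg.Agent.H828.HT

universe u

variable {p : ℕ} [Fact p.Prime] {V : Type u} [AddCommGroup V] [Module (ZMod p) V] [Finite V]
variable {G : Subgroup (V ≃ₗ[ZMod p] V)} {h : ℕ}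

/-! ### Orbits -/

theorem orbit_card (hh : Half G h) (h0 : 0 < h) {m : ℕ} (hm : m * h = Nat.card G) {v : V}
    (hv : v ≠ 0) : Nat.card (MulAction.orbit G v) = m := by
  have h1 := MulAction.card_orbit_mul_card_stabilizer_eq_card_group G v
  rw [← Nat.card_eq_fintype_card, ← Nat.card_eq_fintype_card, ← Nat.card_eq_fintype_card,
    hh v hv, ← hm] at h1
  exact Nat.eq_of_mul_eq_mul_right h0 h1

/-- the common orbit length exists -/
theorem exists_m (hh : Half G h) (hV : ∃ v : V, v ≠ 0) : ∃ m, m * h = Nat.card G ∧ 0 < m := by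
  obtain ⟨v, hv⟩ := hV
  have : Nonempty (MulAction.orbit G v) := ⟨⟨v, MulAction.mem_orbit_self v⟩⟩
  refine ⟨Nat.card (MulAction.orbit G v), ?_, Nat.card_pos⟩
  have h1 := MulAction.card_orbit_mul_card_stabilizer_eq_card_group G v
  rw [← Nat.card_eq_fintype_card, ← Nat.card_eq_fintype_card, ← Nat.card_eq_fintype_card,
    hh v hv] at h1
  exact h1

/-- in a `G`-set all of whose orbits have `m` elements, the number of points is divisible
by `m` -/
theorem dvd_card_of_orbits {K X : Type*} [Group K] [MulAction K X] [Finite X] {m : ℕ}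
    (hX : ∀ x : X, Nat.card (MulAction.orbit K x) = m) : m ∣ Nat.card X := by
  rw [Nat.card_congr (MulAction.selfEquivSigmaOrbits K X)]
  rw [Nat.card_sigma]
  exact Finset.dvd_sum (fun ω _ => by rw [hX])

/-- **`m` divides the size of every `G`-invariant set of non-zero vectors.** -/
theorem dvd_invariant (hh : Half G h) (h0 : 0 < h) {m : ℕ} (hm : m * h = Nat.card G)
    (X : Set V) (hX0 : (0 : V) ∉ X) (hX : ∀ g ∈ G, ∀ v ∈ X, g v ∈ X) : m ∣ Nat.card X := by
  let _ : MulAction G X :=
    { smul := fun g x => ⟨(g : V ≃ₗ[ZMod p] V) x, hX g g.2 x x.2⟩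
      one_smul := fun x => Subtype.ext rfl
      mul_smul := fun a b x => Subtype.ext rfl }
  refine dvd_card_of_orbits (K := G) ?_
  intro x
  rw [← orbit_card hh h0 hm (v := (x : V)) (fun h => hX0 (h ▸ x.2))]
  refine Nat.card_congr ⟨fun y => ⟨y.1.1, ?_⟩, fun y => ⟨⟨y.1, ?_⟩, ?_⟩, ?_, ?_⟩
  · obtain ⟨g, hg⟩ := y.2
    exact ⟨g, congrArg Subtype.val hg⟩
  · obtain ⟨g, hg⟩ := y.2
    rw [← hg]
    exact hX g g.2 x x.2
  · obtain ⟨g, hg⟩ := y.2
    exact ⟨g, Subtype.ext hg⟩
  · intro y; rfl
  · intro y; rfl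

theorem dvd_card_sub_one (hh : Half G h) (h0 : 0 < h) {m : ℕ} (hm : m * h = Nat.card G) :
    m ∣ Nat.card V - 1 := by
  have h1 := dvd_invariant hh h0 hm {v : V | v ≠ 0} (by simp) (by
    intro g _ v hv
    simpa using hv)
  have h2 : Nat.card {v : V | v ≠ 0} = Nat.card V - 1 := by
    have : Nat.card {v : V | v ≠ 0} = Nat.card {v : V // v ∈ Finset.univ.erase (0 : V)} :=
      Nat.card_congr (Equiv.subtypeEquivRight (by simp))
    rw [this, Nat.card_eq_fintype_card, Fintype.card_coe,
      Finset.card_erase_of_mem (Finset.mem_univ _), Finset.card_univ, Nat.card_eq_fintype_card]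
  rwa [h2] at h1

/-- **orbits of a normal subgroup**: `|N : N_v|` divides `m`. -/
theorem orbit_normal_dvd (N : Subgroup (V ≃ₗ[ZMod p] V)) (hNG : N ≤ G)
    (hN : ∀ g ∈ G, ∀ n ∈ N, g * n * g⁻¹ ∈ N) (v : V) :
    Nat.card (MulAction.orbit N v) ∣ Nat.card (MulAction.orbit G v) := by
  -- `N` acts on the `G`-orbit of `v`, all its orbits there are translates
  let _ : MulAction N (MulAction.orbit G v) :=
    { smul := fun n x => ⟨(n : V ≃ₗ[ZMod p] V) x, by
        obtain ⟨g, hg⟩ := x.2
        refine ⟨(⟨n, hNG n.2⟩ : G) * g, ?_⟩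
        rw [← hg]
        rfl⟩
      one_smul := fun x => Subtype.ext rfl
      mul_smul := fun a b x => Subtype.ext rfl }
  refine dvd_card_of_orbits (K := N) ?_
  intro x
  obtain ⟨g, hg⟩ := x.2
  refine Nat.card_congr ⟨fun y => ⟨((g⁻¹ : G) : V ≃ₗ[ZMod p] V) y.1.1, ?_⟩,
    fun y => ⟨⟨(g : V ≃ₗ[ZMod p] V) y.1, ?_⟩, ?_⟩, ?_, ?_⟩
  · obtain ⟨n, hn⟩ := y.2
    refine ⟨⟨(g : V ≃ₗ[ZMod p] V)⁻¹ * n * (g : V ≃ₗ[ZMod p] V)⁻¹⁻¹,
      hN _ (G.inv_mem g.2) n n.2⟩, ?_⟩
    have h1 : (y.1 : V) = (n : V ≃ₗ[ZMod p] V) x := (congrArg Subtype.val hn).symm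
    rw [h1, ← hg]
    rfl
  · obtain ⟨n, hn⟩ := y.2
    exact ⟨g * ⟨n, hNG n.2⟩, by rw [← hn]; rfl⟩
  · obtain ⟨n, hn⟩ := y.2
    refine ⟨⟨(g : V ≃ₗ[ZMod p] V) * n * (g : V ≃ₗ[ZMod p] V)⁻¹, hN _ g.2 n n.2⟩,
      Subtype.ext ?_⟩
    change ((g : V ≃ₗ[ZMod p] V) * n * (g : V ≃ₗ[ZMod p] V)⁻¹) (x : V) = _
    have h2 : (x : V) = (g : V ≃ₗ[ZMod p] V) v := hg.symm
    have h3 : (y.1 : V) = (n : V ≃ₗ[ZMod p] V) v := hn.symm
    rw [h2]
    change (g : V ≃ₗ[ZMod p] V) ((n : V ≃ₗ[ZMod p] V)
      (((g : V ≃ₗ[ZMod p] V)⁻¹ * (g : V ≃ₗ[ZMod p] V)) v)) = (g : V ≃ₗ[ZMod p] V) y.1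
    rw [inv_mul_cancel, h3]
    rfl
  · intro y
    refine Subtype.ext (Subtype.ext ?_)
    change ((g : V ≃ₗ[ZMod p] V) * (g : V ≃ₗ[ZMod p] V)⁻¹) y.1.1 = y.1.1
    rw [mul_inv_cancel]; rfl
  · intro y
    refine Subtype.ext ?_
    change ((g : V ≃ₗ[ZMod p] V)⁻¹ * (g : V ≃ₗ[ZMod p] V)) y.1 = y.1
    rw [inv_mul_cancel]; rfl

theorem orbit_normal_dvd_m (hh : Half G h) (h0 : 0 < h) {m : ℕ} (hm : m * h = Nat.card G)
    (N : Subgroup (V ≃ₗ[ZMod p] V)) (hNG : N ≤ G)
    (hN : ∀ g ∈ G, ∀ n ∈ N, g * n * g⁻¹ ∈ N) {v : V} (hv : v ≠ 0) :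
    Nat.card (MulAction.orbit N v) ∣ m := by
  rw [← orbit_card hh h0 hm hv]
  exact orbit_normal_dvd N hNG hN v

/-- a normal subgroup with a regular orbit has order dividing `m` -/
theorem card_normal_dvd_m (hh : Half G h) (h0 : 0 < h) {m : ℕ} (hm : m * h = Nat.card G)
    (N : Subgroup (V ≃ₗ[ZMod p] V)) (hNG : N ≤ G)
    (hN : ∀ g ∈ G, ∀ n ∈ N, g * n * g⁻¹ ∈ N) {v : V} (hv : v ≠ 0)
    (hreg : ∀ n ∈ N, n v = v → n = 1) : Nat.card N ∣ m := by
  have h1 := orbit_normal_dvd_m hh h0 hm N hNG hN hv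
  have h2 := MulAction.card_orbit_mul_card_stabilizer_eq_card_group N v
  rw [← Nat.card_eq_fintype_card, ← Nat.card_eq_fintype_card, ← Nat.card_eq_fintype_card] at h2
  have h3 : MulAction.stabilizer N v = ⊥ := by
    rw [eq_bot_iff]
    intro n hn
    rw [Subgroup.mem_bot]
    exact Subtype.ext (hreg n n.2 hn)
  rw [h3, Subgroup.card_bot, mul_one] at h2
  rwa [h2] at h1

/-! ### Coverage -/

/-- **Coverage.** If the prime power `r ^ a` divides `h`, then
`(r ^ a - 1)(|V| - 1) ≤ ∑ (|C_V(g)| - 1)` over the non-trivial `r`-elements `g` of `G`. -/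
theorem coverage (hh : Half G h) {r a : ℕ} [Fact r.Prime] (hr : r ^ a ∣ h) :
    (r ^ a - 1) * (Nat.card V - 1) ≤
      ∑ g ∈ Finset.univ.filter (fun g : G => g ≠ 1 ∧ ∃ k, orderOf g = r ^ k),
        (Nat.card (fx (g : V ≃ₗ[ZMod p] V)) - 1) := by
  have h1 : ∀ g : G, Nat.card (fx (g : V ≃ₗ[ZMod p] V)) - 1 =
      ∑ v ∈ Finset.univ.erase (0 : V), if (g : V ≃ₗ[ZMod p] V) v = v then 1 else 0 := by
    intro g
    rw [Finset.sum_boole, Nat.cast_id, Nat.card_eq_fintype_card, Fintype.card_subtype]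
    have : Finset.filter (fun v => (g : V ≃ₗ[ZMod p] V) v = v) (Finset.univ.erase (0 : V)) =
        (Finset.univ.filter (fun v : V => v ∈ fx (g : V ≃ₗ[ZMod p] V))).erase 0 := by
      ext v; simp
    rw [this, Finset.card_erase_of_mem (by simp)]
  rw [Finset.sum_congr rfl (fun g _ => h1 g), Finset.sum_comm]
  have h2 : ∀ v ∈ Finset.univ.erase (0 : V), r ^ a - 1 ≤
      ∑ g ∈ Finset.univ.filter (fun g : G => g ≠ 1 ∧ ∃ k, orderOf g = r ^ k),
        (if (g : V ≃ₗ[ZMod p] V) v = v then 1 else 0) := by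
    intro v hv
    have hv0 := Finset.ne_of_mem_erase hv
    rw [Finset.sum_boole, Nat.cast_id, Finset.filter_filter]
    obtain ⟨R, hR⟩ := Sylow.exists_subgroup_card_pow_prime r
      (G := MulAction.stabilizer G v) (n := a) (by rw [hh v hv0]; exact hr)
    have hRp : IsPGroup r R := IsPGroup.of_card hR
    have h3 : (Finset.univ.filter (fun x : R => x ≠ 1)).card = r ^ a - 1 := by
      rw [Finset.filter_ne', Finset.card_erase_of_mem (Finset.mem_univ _), Finset.card_univ,
        ← Nat.card_eq_fintype_card, hR]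
    rw [← h3]
    refine Finset.card_le_card_of_injOn (fun x => ((x : MulAction.stabilizer G v) : G)) ?_ ?_
    · intro x hx
      simp only [Finset.coe_filter, Finset.mem_univ, true_and, Set.mem_ofPred_eq] at hx ⊢
      refine ⟨⟨?_, ?_⟩, x.1.2⟩
      · intro hc
        exact hx (Subtype.ext (Subtype.ext hc))
      · obtain ⟨k, hk⟩ := (IsPGroup.iff_orderOf.1 hRp) x
        refine ⟨k, ?_⟩
        rw [← hk]
        rw [Subgroup.orderOf_coe, Subgroup.orderOf_coe]
    · intro x _ y _ hxy
      exact Subtype.ext (Subtype.ext hxy)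
  have h4 := Finset.sum_le_sum h2
  rw [Finset.sum_const, Finset.card_erase_of_mem (Finset.mem_univ _), Finset.card_univ,
    ← Nat.card_eq_fintype_card, smul_eq_mul, mul_comm] at h4
  exact h4

/-- an element of prime order with a non-zero fixed vector shows `r ∣ h` -/
theorem dvd_h (hh : Half G h) {r : ℕ} {g : G} (hg : orderOf g = r) {v : V} (hv : v ≠ 0)
    (hgv : (g : V ≃ₗ[ZMod p] V) v = v) : r ∣ h := by
  rw [← hh v hv, ← hg]
  have : orderOf (⟨g, hgv⟩ : MulAction.stabilizer G v) = orderOf g := by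
    rw [← Subgroup.orderOf_coe]
  rw [← this]
  exact orderOf_dvd_natCard _

/-- a subgroup fixing a non-zero vector has order dividing `h` -/
theorem card_dvd_h (hh : Half G h) (X : Subgroup (V ≃ₗ[ZMod p] V)) (hX : X ≤ G) {v : V}
    (hv : v ≠ 0) (hXv : ∀ g ∈ X, g v = v) : Nat.card X ∣ h := by
  rw [← hh v hv]
  have h1 : X.subgroupOf G ≤ MulAction.stabilizer G v := fun g hg => hXv _ hg
  rw [Nat.card_congr (Subgroup.subgroupOfEquivOfLe hX).toEquiv.symm]
  exact Subgroup.card_dvd_of_le h1

/-! ### Restriction to a submodule -/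

/-- restriction of a linear equivalence to an invariant submodule -/
def resEquiv (M : Submodule (ZMod p) V) (g : V ≃ₗ[ZMod p] V) (hg : ∀ v, v ∈ M ↔ g v ∈ M) :
    M ≃ₗ[ZMod p] M where
  toFun v := ⟨g v, (hg v).1 v.2⟩
  map_add' _ _ := Subtype.ext (map_add g _ _)
  map_smul' _ _ := Subtype.ext (map_smul g _ _)
  invFun v := ⟨g.symm v, (hg _).2 (by rw [LinearEquiv.apply_symm_apply]; exact v.2)⟩
  left_inv _ := Subtype.ext (g.symm_apply_apply _)
  right_inv _ := Subtype.ext (g.apply_symm_apply _)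

/-- the setwise stabiliser of `M` in `G` -/
def stb (G : Subgroup (V ≃ₗ[ZMod p] V)) (M : Submodule (ZMod p) V) :
    Subgroup (V ≃ₗ[ZMod p] V) where
  carrier := {g | g ∈ G ∧ ∀ v, v ∈ M ↔ g v ∈ M}
  one_mem' := ⟨G.one_mem, fun _ => Iff.rfl⟩
  mul_mem' := fun {a b} ha hb => ⟨G.mul_mem ha.1 hb.1, fun v =>
    (hb.2 v).trans (ha.2 (b v))⟩
  inv_mem' := fun {a} ha => ⟨G.inv_mem ha.1, fun v => by
    have h1 := ha.2 (a⁻¹ v)
    have h2 : a (a⁻¹ v) = v := by
      change (a * a⁻¹) v = v
      rw [mul_inv_cancel]; rfl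
    rw [h2] at h1
    exact h1.symm⟩

theorem stb_le (M : Submodule (ZMod p) V) : stb G M ≤ G := fun _ hg => hg.1

/-- the restriction homomorphism -/
def res (G : Subgroup (V ≃ₗ[ZMod p] V)) (M : Submodule (ZMod p) V) :
    stb G M →* (M ≃ₗ[ZMod p] M) where
  toFun g := resEquiv M g g.2.2
  map_one' := LinearEquiv.ext fun _ => rfl
  map_mul' _ _ := LinearEquiv.ext fun _ => rfl

@[simp] theorem res_apply (M : Submodule (ZMod p) V) (g : stb G M) (v : M) :
    ((res G M g v : M) : V) = (g : V ≃ₗ[ZMod p] V) v := rfl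

/-- the linear group induced on `M` by its stabiliser in `G` -/
def rs (G : Subgroup (V ≃ₗ[ZMod p] V)) (M : Submodule (ZMod p) V) :
    Subgroup (M ≃ₗ[ZMod p] M) := (res G M).range

theorem card_rs_dvd (M : Submodule (ZMod p) V) : Nat.card (rs G M) ∣ Nat.card G :=
  (Subgroup.card_range_dvd (res G M)).trans (Subgroup.card_dvd_of_le (stb_le M))

/-- if stabilisers of vectors of `M` stabilise `M`, the group induced on `M` is
half-transitive -/
theorem half_rs (hh : Half G h) {M : Submodule (ZMod p) V}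
    (hst : ∀ v ∈ M, v ≠ 0 → ∀ g ∈ G, g v = v → ∀ w, w ∈ M ↔ g w ∈ M)
    (hM : M ≠ ⊥) :
    ∃ h', Nat.card (res G M).ker * h' = h ∧ Half (rs G M) h' := by
  have key : ∀ v : M, v ≠ 0 →
      Nat.card (res G M).ker * Nat.card (MulAction.stabilizer (rs G M) v) = h := by
    intro v hv
    have hv' : (v : V) ≠ 0 := fun h => hv (Subtype.ext h)
    -- the stabiliser of `v` in `stb G M`
    let S : Subgroup (stb G M) :=
      (MulAction.stabilizer (rs G M) v).comap (res G M).rangeRestrict
    have hS1 : Nat.card S = h := by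
      rw [← hh (v : V) hv']
      refine Nat.card_congr ⟨fun g => ⟨⟨g.1.1, g.1.2.1⟩, ?_⟩, fun g => ⟨⟨g.1.1, g.1.2,
        hst v v.2 hv' g.1.1 g.1.2 g.2⟩, ?_⟩, ?_, ?_⟩
      · have := g.2
        exact congrArg Subtype.val (show res G M g.1 v = v from this)
      · exact Subtype.ext g.2
      · intro g; rfl
      · intro g; rfl
    have hS2 : (res G M).rangeRestrict.ker ≤ S := by
      intro g hg
      change (res G M).rangeRestrict g ∈ MulAction.stabilizer (rs G M) v
      rw [(MonoidHom.mem_ker).1 hg]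
      exact one_mem _
    have hS3 : S.map (res G M).rangeRestrict = MulAction.stabilizer (rs G M) v :=
      Subgroup.map_comap_eq_self_of_surjective (res G M).rangeRestrict_surjective _
    have h6 : Nat.card (MulAction.stabilizer (rs G M) v) =
        Nat.card (S.map (res G M).rangeRestrict) :=
      (congrArg (fun X : Subgroup (rs G M) => Nat.card X) hS3).symm
    rw [← hS1, h6, ← MonoidHom.ker_rangeRestrict]
    have h4 := Subgroup.card_mul_index
      (((res G M).rangeRestrict.ker).subgroupOf S)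
    rw [Nat.card_congr (Subgroup.subgroupOfEquivOfLe hS2).toEquiv] at h4
    rw [← h4]
    have e := QuotientGroup.quotientKerEquivRange ((res G M).rangeRestrict.comp S.subtype)
    have e1 : ((res G M).rangeRestrict.comp S.subtype).range =
        S.map (res G M).rangeRestrict := by
      rw [MonoidHom.range_comp, Subgroup.range_subtype]
    have e2 : ((res G M).rangeRestrict.comp S.subtype).ker =
        ((res G M).rangeRestrict.ker).subgroupOf S := by
      ext x; rfl
    have h5 : Nat.card (S.map (res G M).rangeRestrict) =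
        (((res G M).rangeRestrict.ker).subgroupOf S).index := by
      rw [← e1, Subgroup.index, ← e2]
      exact (Nat.card_congr e.toEquiv).symm
    rw [h5]
  obtain ⟨v, hvM, hv⟩ := Submodule.exists_mem_ne_zero_of_ne_bot hM
  refine ⟨Nat.card (MulAction.stabilizer (rs G M) (⟨v, hvM⟩ : M)),
    key ⟨v, hvM⟩ (fun h => hv (congrArg Subtype.val h)), ?_⟩
  intro w hw
  have h1 := key w hw
  have h2 := key ⟨v, hvM⟩ (fun h => hv (congrArg Subtype.val h))
  exact Nat.eq_of_mul_eq_mul_left Nat.card_pos (h1.trans h2.symm)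

/-- **Lemma T1.** `N` normal in `G`, `M` an irreducible `N`-submodule: the stabiliser in
`G` of a non-zero vector of `M` stabilises `M`. -/
theorem stab_of_irred (N : Subgroup (V ≃ₗ[ZMod p] V))
    (hN : ∀ g ∈ G, ∀ n ∈ N, g * n * g⁻¹ ∈ N) {M : Submodule (ZMod p) V}
    (hinv : ∀ n ∈ N, ∀ v ∈ M, n v ∈ M)
    (hirr : ∀ W : Submodule (ZMod p) V, W ≤ M → (∀ n ∈ N, ∀ v ∈ W, n v ∈ W) →
      W = ⊥ ∨ W = M) :
    ∀ v ∈ M, v ≠ 0 → ∀ g ∈ G, g v = v → ∀ w, w ∈ M ↔ g w ∈ M := by
  intro v hv hv0 g hg hgv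
  -- `W = M ∩ g M`
  have hinv2 : ∀ n ∈ N, ∀ w ∈ M.map (g : V →ₗ[ZMod p] V), n w ∈ M.map (g : V →ₗ[ZMod p] V) := by
    rintro n hn _ ⟨w, hw, rfl⟩
    have h1 := hN g⁻¹ (G.inv_mem hg) n hn
    refine ⟨(g⁻¹ * n * g⁻¹⁻¹) w, hinv _ h1 w hw, ?_⟩
    change (g * (g⁻¹ * n * g⁻¹⁻¹)) w = n (g w)
    rw [inv_inv, ← mul_assoc, mul_inv_cancel_left]
    rfl
  have h1 := hirr (M ⊓ M.map (g : V →ₗ[ZMod p] V)) inf_le_left (by
    intro n hn w hw
    exact ⟨hinv n hn w hw.1, hinv2 n hn w hw.2⟩)
  have h2 : M ⊓ M.map (g : V →ₗ[ZMod p] V) ≠ ⊥ := by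
    intro hc
    have : v ∈ M ⊓ M.map (g : V →ₗ[ZMod p] V) := ⟨hv, v, hv, hgv⟩
    rw [hc] at this
    exact hv0 ((Submodule.mem_bot _).1 this)
  have h3 : M ≤ M.map (g : V →ₗ[ZMod p] V) := by
    rcases h1 with h | h
    · exact absurd h h2
    · exact inf_eq_left.1 h
  have h4 : M.map (g : V →ₗ[ZMod p] V) = M := by
    refine (Submodule.eq_of_le_of_finrank_eq h3 ?_).symm
    exact (LinearEquiv.finrank_map_eq g M).symm
  intro w
  constructor
  · intro hw
    rw [← h4]
    exact ⟨w, hw, rfl⟩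
  · intro hw
    rw [← h4] at hw
    obtain ⟨u, hu, hu'⟩ := hw
    have : u = w := g.injective hu'
    rwa [← this]

end Cfsg.Agent.H828.HT
end

-- part: H960/HT/TwoF
section
prune_inst 0xe120020109400200001c0500500000854d0001900000000018260e4003075202250228404a800c02082282000004000800cc002000000000000004000000012080a852042340010424000f801082000000000000010000000000000000041000000000002
set_option linter.all false
open scoped Cfsg.Agent.FastGrp

-- part: H960/HT/Two
section
/-! Two blocks of imprimitivity for a half-transitive linear group: the point stabilisers have order 2 and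
an involution outside the block stabiliser inverts many elements of it. -/

set_option autoImplicit false
set_option linter.unusedSectionVars false

namespace Cfsg.Agent.H960.HT

open MulAction

section three

variable {X : Type*} [AddCommGroup X] [Finite X]

theorem three_mul_card_le (hodd : Odd (Nat.card X)) {F : AddSubgroup X} (hF : F ≠ ⊤) :
    3 * Nat.card F ≤ Nat.card X := by
  have h1 := AddSubgroup.card_mul_index F
  have h2 : F.index ≠ 1 := fun h => hF (AddSubgroup.index_eq_one.1 h)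
  have h3 : F.index ≠ 0 := AddSubgroup.index_ne_zero_of_finite
  have h4 : F.index ≠ 2 := by
    intro h
    rw [h] at h1
    rw [← h1] at hodd
    rw [Nat.odd_iff] at hodd
    omega
  nlinarith only [h1, show 3 ≤ F.index by omega]

/-- A finite abelian group of odd order is not a union of three proper subgroups. -/
theorem top_of_three (hodd : Odd (Nat.card X)) (A B C : AddSubgroup X)
    (h : ∀ x, x ∈ A ∨ x ∈ B ∨ x ∈ C) : A = ⊤ ∨ B = ⊤ ∨ C = ⊤ := by
  classical
  by_contra hc
  push Not at hc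
  obtain ⟨hA, hB, hC⟩ := hc
  have := Fintype.ofFinite X
  have a1 := three_mul_card_le hodd hA
  have b1 := three_mul_card_le hodd hB
  have c1 := three_mul_card_le hodd hC
  set! FA := Finset.univ.filter (fun x => x ∈ A) with hFA
  set! FB := Finset.univ.filter (fun x => x ∈ B) with hFB
  set! FC := Finset.univ.filter (fun x => x ∈ C) with hFC
  have ca : Nat.card A = FA.card := by rw [Nat.card_eq_fintype_card]; exact Fintype.card_subtype _
  have cb : Nat.card B = FB.card := by rw [Nat.card_eq_fintype_card]; exact Fintype.card_subtype _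
  have cc : Nat.card C = FC.card := by rw [Nat.card_eq_fintype_card]; exact Fintype.card_subtype _
  have hu : (Finset.univ : Finset X) ⊆ FA ∪ ((FB.erase 0) ∪ (FC.erase 0)) := by
    intro x _
    by_cases hx : x = 0
    · subst hx; simp only [hFA, A.zero_mem, _root_.Finset.mem_union, _root_.Finset.mem_filter, _root_.Finset.mem_univ, _root_.and_self, _root_.Finset.mem_erase, _root_.ne_eq, _root_.not_true_eq_false, _root_.false_and, _root_.or_self, _root_.or_false]
    · simp only [Finset.mem_union, Finset.mem_erase, hFA, hFB, hFC, Finset.mem_filter, Finset.mem_univ,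
        true_and]
      rcases h x with h | h | h
      · exact Or.inl h
      · exact Or.inr (Or.inl ⟨hx, h⟩)
      · exact Or.inr (Or.inr ⟨hx, h⟩)
  have h1 := Finset.card_le_card hu
  have h2 := Finset.card_union_le FA ((FB.erase 0) ∪ (FC.erase 0))
  have h3 := Finset.card_union_le (FB.erase 0) (FC.erase 0)
  have zb : (0 : X) ∈ FB := by simp only [hFB, B.zero_mem, _root_.Finset.mem_filter, _root_.Finset.mem_univ, _root_.and_self]
  have zc : (0 : X) ∈ FC := by simp [hFC, C.zero_mem]
  rw [Finset.card_erase_of_mem zb, Finset.card_erase_of_mem zc] at h3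
  have pb : 0 < FB.card := Finset.card_pos.2 ⟨0, zb⟩
  rw [Finset.card_univ, ← Nat.card_eq_fintype_card] at h1
  omega

end three

variable {V : Type*} [AddCommGroup V] {G : Type*} [Group G] [DistribMulAction G V]

/-- fixed vectors of an element -/
def Fx (V : Type*) [AddCommGroup V] {G : Type*} [Group G] [DistribMulAction G V] (g : G) : AddSubgroup V where
  carrier := {v | g • v = v}
  zero_mem' := smul_zero g
  add_mem' := by
    intro a b ha hb
    change g • (a + b) = a + b
    rw [smul_add, ha, hb]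
  neg_mem' := by
    intro a ha
    change g • (-a) = -a
    rw [smul_neg, ha]

@[simp] theorem mem_Fx {g : G} {v : V} : v ∈ Fx V g ↔ g • v = v := Iff.rfl

theorem odd_sub [Finite V] (hodd : Odd (Nat.card V)) (X : AddSubgroup V) : Odd (Nat.card X) := by
  have := AddSubgroup.card_addSubgroup_dvd_card X
  exact Odd.of_dvd_nat hodd this

/-- If every orbit of `⟨a, b⟩` on `X` is at most a pair, then `a`, `b` or `a⁻¹ b` is trivial on `X`. -/
theorem two_of_orbit [Finite V] (hodd : Odd (Nat.card V)) (X : AddSubgroup V) (a b : G)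
    (h : ∀ x ∈ X, a • x = x ∨ b • x = x ∨ a • x = b • x) :
    (∀ x ∈ X, a • x = x) ∨ (∀ x ∈ X, b • x = x) ∨ (∀ x ∈ X, a • x = b • x) := by
  have h1 := top_of_three (odd_sub hodd X) ((Fx V a).comap X.subtype) ((Fx V b).comap X.subtype)
    ((Fx V (b⁻¹ * a)).comap X.subtype) (by
      intro x
      rcases h x.1 x.2 with h | h | h
      · exact Or.inl h
      · exact Or.inr (Or.inl h)
      · right; right
        change (b⁻¹ * a) • x.1 = x.1
        rw [mul_smul, h, inv_smul_smul])
  rcases h1 with h | h | h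
  · left
    intro x hx
    have : (⟨x, hx⟩ : X) ∈ (Fx V a).comap X.subtype := by rw [h]; trivial
    exact this
  · right; left
    intro x hx
    have : (⟨x, hx⟩ : X) ∈ (Fx V b).comap X.subtype := by rw [h]; trivial
    exact this
  · right; right
    intro x hx
    have : (⟨x, hx⟩ : X) ∈ (Fx V (b⁻¹ * a)).comap X.subtype := by rw [h]; trivial
    have h2 : (b⁻¹ * a) • x = x := this
    rw [mul_smul, inv_smul_eq_iff] at h2
    exact h2

/-- Two blocks swapped by a half-transitive group. -/
structure TwoBlk (G : Type*) {V : Type*} [AddCommGroup V] [Group G] [DistribMulAction G V]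
    (U W : AddSubgroup V) (h : ℕ) : Prop where
  odd : Odd (Nat.card V)
  half : ∀ v : V, v ≠ 0 → Nat.card (stabilizer G v) = h
  h2 : 2 ≤ h
  compl : IsCompl U W
  nbU : U ≠ ⊥
  nbW : W ≠ ⊥
  perm : ∀ g : G, ((∀ u ∈ U, g • u ∈ U) ∧ (∀ w ∈ W, g • w ∈ W)) ∨
    ((∀ u ∈ U, g • u ∈ W) ∧ (∀ w ∈ W, g • w ∈ U))
  swap : ∃ g : G, (∀ u ∈ U, g • u ∈ W) ∧ (∀ w ∈ W, g • w ∈ U)
  irr : ∀ X : AddSubgroup V, (∀ g : G, ∀ x ∈ X, g • x ∈ X) → X = ⊥ ∨ X = ⊤

/-- the stabiliser of the two blocks -/
def bst (G : Type*) {V : Type*} [AddCommGroup V] [Group G] [DistribMulAction G V]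
    (U W : AddSubgroup V) : Subgroup G where
  carrier := {g | (∀ u, g • u ∈ U ↔ u ∈ U) ∧ (∀ w, g • w ∈ W ↔ w ∈ W)}
  one_mem' := by simp
  mul_mem' := by
    intro a b ha hb
    refine ⟨fun u => ?_, fun w => ?_⟩
    · rw [mul_smul, ha.1, hb.1]
    · rw [mul_smul, ha.2, hb.2]
  inv_mem' := by
    intro a ha
    refine ⟨fun u => ?_, fun w => ?_⟩
    · rw [← ha.1, smul_inv_smul]
    · rw [← ha.2, smul_inv_smul]

namespace TwoBlk

variable {U W : AddSubgroup V} {h : ℕ}

theorem symm (H : TwoBlk G U W h) : TwoBlk G W U h where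
  odd := H.odd
  half := H.half
  h2 := H.h2
  compl := H.compl.symm
  nbU := H.nbW
  nbW := H.nbU
  perm := fun g => (H.perm g).imp And.symm And.symm
  swap := H.swap.imp fun _ => And.symm
  irr := H.irr

theorem disj (H : TwoBlk G U W h) {v : V} (hu : v ∈ U) (hw : v ∈ W) : v = 0 := by
  have := H.compl.disjoint
  rw [AddSubgroup.disjoint_def] at this
  exact this hu hw

theorem exU (H : TwoBlk G U W h) : ∃ u ∈ U, u ≠ 0 := (AddSubgroup.bot_or_exists_ne_zero U).resolve_left H.nbU

theorem not_both (H : TwoBlk G U W h) (g : G) (h1 : ∀ u ∈ U, g • u ∈ U) (h2 : ∀ u ∈ U, g • u ∈ W) : False := by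
  obtain ⟨u, hu, hu0⟩ := H.exU
  have := H.disj (h1 u hu) (h2 u hu)
  rw [smul_eq_zero_iff_eq] at this
  exact hu0 this

theorem swap_inv (H : TwoBlk G U W h) {g : G} (hg : (∀ u ∈ U, g • u ∈ W) ∧ (∀ w ∈ W, g • w ∈ U)) :
    (∀ u ∈ U, g⁻¹ • u ∈ W) ∧ (∀ w ∈ W, g⁻¹ • w ∈ U) := by
  rcases H.perm g⁻¹ with h | h
  · exfalso
    obtain ⟨u, hu, hu0⟩ := H.exU
    have h1 := hg.1 _ (h.1 u hu)
    rw [smul_inv_smul] at h1
    exact hu0 (H.disj hu h1)
  · exact h

theorem mem_of_pres (H : TwoBlk G U W h) {g : G} (hg : (∀ u ∈ U, g • u ∈ U) ∧ (∀ w ∈ W, g • w ∈ W)) :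
    g ∈ bst G U W := by
  have hi : (∀ u ∈ U, g⁻¹ • u ∈ U) ∧ (∀ w ∈ W, g⁻¹ • w ∈ W) := by
    rcases H.perm g⁻¹ with h | h
    · exact h
    · exfalso
      obtain ⟨u, hu, hu0⟩ := H.exU
      have h1 := hg.2 _ (h.1 u hu)
      rw [smul_inv_smul] at h1
      exact hu0 (H.disj hu h1)
  refine ⟨fun u => ⟨fun hu => ?_, hg.1 u⟩, fun w => ⟨fun hw => ?_, hg.2 w⟩⟩
  · have := hi.1 _ hu
    rwa [inv_smul_smul] at this
  · have := hi.2 _ hw
    rwa [inv_smul_smul] at this

theorem perm' (H : TwoBlk G U W h) (g : G) : g ∈ bst G U W ∨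
    ((∀ u ∈ U, g • u ∈ W) ∧ (∀ w ∈ W, g • w ∈ U)) :=
  (H.perm g).imp H.mem_of_pres id

theorem not_mem_iff (H : TwoBlk G U W h) (g : G) : g ∉ bst G U W ↔
    ((∀ u ∈ U, g • u ∈ W) ∧ (∀ w ∈ W, g • w ∈ U)) := by
  constructor
  · intro hg
    exact (H.perm' g).resolve_left hg
  · intro hg hg'
    exact H.not_both g (fun u hu => (hg'.1 u).2 hu) hg.1

theorem bst_symm : bst G U W = bst G W U := by
  ext g
  exact And.comm

/-- the product of two swapping elements lies in the block stabiliser -/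
theorem mul_mem (H : TwoBlk G U W h) {g k : G} (hg : g ∉ bst G U W) (hk : k ∉ bst G U W) :
    g * k ∈ bst G U W := by
  rw [H.not_mem_iff] at hg hk
  apply H.mem_of_pres
  refine ⟨fun u hu => ?_, fun w hw => ?_⟩
  · rw [mul_smul]; exact hg.2 _ (hk.1 _ hu)
  · rw [mul_smul]; exact hg.1 _ (hk.2 _ hw)

theorem stab_le (H : TwoBlk G U W h) {u : V} (hu : u ∈ U) (hu0 : u ≠ 0) :
    stabilizer G u ≤ bst G U W := by
  intro g hg
  rcases H.perm' g with h | h
  · exact h
  · exfalso
    have := h.1 u hu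
    rw [mem_stabilizer_iff.1 hg] at this
    exact hu0 (H.disj hu this)

/-- the blocks are irreducible under the block stabiliser -/
theorem irrU (H : TwoBlk G U W h) (X : AddSubgroup V) (hX : X ≤ U)
    (hinv : ∀ a ∈ bst G U W, ∀ x ∈ X, a • x ∈ X) : X = ⊥ ∨ X = U := by
  obtain ⟨s, hs⟩ := H.swap
  have hsn : s ∉ bst G U W := (H.not_mem_iff s).2 hs
  have hsi : s⁻¹ ∉ bst G U W := fun h => hsn (by simpa using (bst G U W).inv_mem h)
  let Y : AddSubgroup V := X ⊔ X.map (DistribSMul.toAddMonoidHom V s)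
  have hY : ∀ g : G, ∀ x ∈ Y, g • x ∈ Y := by
    intro g y hy
    obtain ⟨x, hx, z, hz, rfl⟩ := AddSubgroup.mem_sup.1 hy
    obtain ⟨x', hx', rfl⟩ := AddSubgroup.mem_map.1 hz
    change g • (x + s • x') ∈ Y
    rw [smul_add]
    have mk : ∀ a ∈ X, s • a ∈ Y := fun a ha => AddSubgroup.mem_sup_right (AddSubgroup.mem_map.2 ⟨a, ha, rfl⟩)
    refine Y.add_mem ?_ ?_
    · by_cases hg : g ∈ bst G U W
      · exact AddSubgroup.mem_sup_left (hinv g hg x hx)
      · have := mk _ (hinv _ (H.mul_mem hsi hg) x hx)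
        rwa [smul_smul, mul_inv_cancel_left] at this
    · rw [smul_smul]
      by_cases hg : g ∈ bst G U W
      · have h1 : s⁻¹ * (g * s) ∈ bst G U W := by
          apply H.mul_mem hsi
          intro h2
          exact hsn (by simpa using (bst G U W).mul_mem ((bst G U W).inv_mem hg) h2)
        have := mk _ (hinv _ h1 x' hx')
        rwa [smul_smul, mul_inv_cancel_left] at this
      · exact AddSubgroup.mem_sup_left (hinv _ (H.mul_mem hg hsn) x' hx')
  rcases H.irr Y hY with h | h
  · left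
    rw [eq_bot_iff, ← h]
    exact le_sup_left
  · right
    refine le_antisymm hX ?_
    intro u hu
    have : u ∈ Y := by rw [h]; trivial
    obtain ⟨x, hx, z, hz, rfl⟩ := AddSubgroup.mem_sup.1 this
    obtain ⟨x', hx', rfl⟩ := AddSubgroup.mem_map.1 hz
    change x + s • x' ∈ U at hu
    have h1 : s • x' ∈ U := by simpa using U.sub_mem hu (hX hx)
    have h2 : s • x' = 0 := H.disj h1 (hs.1 _ (hX hx'))
    change x + s • x' ∈ X
    rw [h2, add_zero]; exact hx

theorem _root_.Cfsg.Agent.H960.HT.card_mul_relIndex {D S : Subgroup G} (h : D ≤ S) :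
    Nat.card D * D.relIndex S = Nat.card S := by
  rw [← Subgroup.relIndex_bot_left, ← Subgroup.relIndex_bot_left, Subgroup.relIndex_mul_relIndex _ _ _ bot_le h]

/-- stabilisers of vectors in different blocks -/
theorem pair [Finite G] (H : TwoBlk G U W h) {u w : V} (hu : u ∈ U) (hw : w ∈ W) (hu0 : u ≠ 0) (hw0 : w ≠ 0)
    {a b : G} (ha : a • w = w) (hb : b • w = w) : a • u = u ∨ b • u = u ∨ a • u = b • u := by
  -- D = G_u ∩ G_w has index at most 2 in G_w
  set! D := stabilizer G u ⊓ stabilizer G w with hD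
  have hv : u + w ≠ 0 := by
    intro h
    have : u ∈ W := by
      rw [eq_neg_of_add_eq_zero_left h]
      exact W.neg_mem hw
    exact hu0 (H.disj hu this)
  have e1 : stabilizer G (u + w) ⊓ bst G U W = D := by
    ext g
    simp only [Subgroup.mem_inf, mem_stabilizer_iff, hD]
    constructor
    · rintro ⟨h1, h2⟩
      have h3 : g • u - u ∈ U := U.sub_mem ((h2.1 u).2 hu) hu
      have h4 : g • u - u = w - g • w := by
        rw [smul_add] at h1
        rw [sub_eq_sub_iff_add_eq_add, h1, add_comm]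
      have h5 : g • u - u ∈ W := by rw [h4]; exact W.sub_mem hw ((h2.2 w).2 hw)
      have h6 := H.disj h3 h5
      refine ⟨sub_eq_zero.1 h6, ?_⟩
      rw [h6] at h4
      exact (sub_eq_zero.1 h4.symm).symm
    · rintro ⟨h1, h2⟩
      refine ⟨by rw [smul_add, h1, h2], H.stab_le hu hu0 h1⟩
  have c1 : h ≤ 2 * Nat.card D := by
    rw [← H.half _ hv, ← e1]
    -- index of (bst) in G at most 2
    have h1 : (bst G U W).relIndex (stabilizer G (u + w)) ≤ 2 := by
      have h2 : (bst G U W).index ≤ 2 := by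
        have h3 : (bst G U W).index = 2 := by
          rw [Subgroup.index_eq_two_iff]
          obtain ⟨s, hs⟩ := H.swap
          refine ⟨s, fun b => ?_⟩
          have hsn : s ∉ bst G U W := (H.not_mem_iff s).2 hs
          by_cases hb : b ∈ bst G U W
          · right
            refine ⟨hb, fun h => hsn ?_⟩
            simpa using (bst G U W).mul_mem ((bst G U W).inv_mem hb) h
          · left
            exact ⟨H.mul_mem hb hsn, hb⟩
        exact h3.le
      rw [← Subgroup.relIndex_top_right] at h2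
      exact le_trans (Subgroup.relIndex_le_of_le_right le_top (by
        rw [Subgroup.relIndex_top_right]; exact Subgroup.index_ne_zero_of_finite)) h2
    have h2 := card_mul_relIndex (D := stabilizer G (u + w) ⊓ bst G U W) (S := stabilizer G (u + w))
      (inf_le_left)
    rw [Subgroup.inf_relIndex_left] at h2
    rw [← h2, mul_comm]
    exact Nat.mul_le_mul_right _ h1
  have c2 : Nat.card (stabilizer G w) = h := H.half w hw0
  have c3 : Nat.card D * D.relIndex (stabilizer G w) = h := by
    rw [card_mul_relIndex (D := D) (S := stabilizer G w) inf_le_right, c2]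
  have c4 : D.relIndex (stabilizer G w) ≤ 2 := by
    by_contra hc
    have : 0 < Nat.card D := Nat.card_pos
    nlinarith only [c1, c3, hc, this]
  have c5 : D.relIndex (stabilizer G w) ≠ 0 := by
    intro h0
    rw [h0, mul_zero] at c3
    have := H.h2
    omega
  by_contra hcon
  push Not at hcon
  obtain ⟨hau, hbu, hab⟩ := hcon
  have c6 : D.relIndex (stabilizer G w) ≠ 1 := by
    intro h1
    rw [Subgroup.relIndex_eq_one] at h1
    exact hau (h1 ha).1
  have c7 : (D.subgroupOf (stabilizer G w)).index = 2 := by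
    change D.relIndex (stabilizer G w) = 2
    omega
  have c8 := Subgroup.mul_mem_iff_of_index_two c7 (a := (⟨b, hb⟩ : stabilizer G w)⁻¹) (b := ⟨a, ha⟩)
  simp only [Subgroup.mem_subgroupOf, Subgroup.inv_mem_iff] at c8
  have n1 : (b : G) ∉ D := fun h => hbu h.1
  have n2 : (a : G) ∉ D := fun h => hau h.1
  have c9 : b⁻¹ * a ∈ D := by
    have : ((⟨b, hb⟩ : stabilizer G w)⁻¹ * ⟨a, ha⟩ : stabilizer G w).1 = b⁻¹ * a := rfl
    rw [← this]
    refine c8.2 ?_
    constructor
    · intro h; exact absurd h n1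
    · intro h; exact absurd h n2
  apply hab
  have h1 : (b⁻¹ * a) • u = u := c9.1
  rw [mul_smul, inv_smul_eq_iff] at h1
  exact h1

variable [FaithfulSMul G V]

/-- an element trivial on both blocks is trivial -/
theorem eq_one (H : TwoBlk G U W h) {g : G} (hU : ∀ u ∈ U, g • u = u) (hW : ∀ w ∈ W, g • w = w) : g = 1 := by
  apply FaithfulSMul.eq_of_smul_eq_smul (α := V)
  intro v
  have : v ∈ U ⊔ W := by rw [H.compl.sup_eq_top]; trivial
  obtain ⟨u, hu, w, hw, rfl⟩ := AddSubgroup.mem_sup.1 this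
  rw [smul_add, hU u hu, hW w hw, one_smul]

theorem eq_of (H : TwoBlk G U W h) {a b : G} (hU : ∀ u ∈ U, a • u = b • u) (hW : ∀ w ∈ W, a • w = b • w) :
    a = b := by
  have := H.eq_one (g := b⁻¹ * a) (fun u hu => by rw [mul_smul, hU u hu, inv_smul_smul])
    (fun w hw => by rw [mul_smul, hW w hw, inv_smul_smul])
  rw [inv_mul_eq_one] at this
  exact this.symm

variable [Finite V] [Finite G]

/-- the pointwise stabiliser of a block has at most two elements -/
theorem kern (H : TwoBlk G U W h) {a b : G} (ha : ∀ u ∈ U, a • u = u) (hb : ∀ u ∈ U, b • u = u) :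
    a = 1 ∨ b = 1 ∨ a = b := by
  obtain ⟨u, hu, hu0⟩ := H.exU
  rcases two_of_orbit H.odd W a b (by
    intro w hw
    by_cases hw0 : w = 0
    · subst hw0; left; exact smul_zero a
    · exact H.symm.pair hw hu hw0 hu0 (ha u hu) (hb u hu)) with h | h | h
  · exact Or.inl (H.eq_one ha h)
  · exact Or.inr (Or.inl (H.eq_one hb h))
  · exact Or.inr (Or.inr (H.eq_of (fun u hu => by rw [ha u hu, hb u hu]) h))

omit [FaithfulSMul G V] [Finite V] [Finite G] in
theorem conj_kern (_H : TwoBlk G U W h) {a z : G} (ha : a ∈ bst G U W) (hz : ∀ u ∈ U, z • u = u) :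
    ∀ u ∈ U, (a * z * a⁻¹) • u = u := by
  intro u hu
  rw [mul_smul, mul_smul, hz, smul_inv_smul]
  exact (((bst G U W).inv_mem ha).1 u).2 hu

/-- a non-trivial element trivial on `U` has no fixed points on `W` -/
theorem kern_fpf (H : TwoBlk G U W h) {z : G} (hz : ∀ u ∈ U, z • u = u) (hz1 : z ≠ 1) {w : V} (hw : w ∈ W)
    (hzw : z • w = w) : w = 0 := by
  have hc : ∀ a ∈ bst G U W, a * z * a⁻¹ = z := by
    intro a ha
    have hne : a * z * a⁻¹ ≠ 1 := by
      intro h
      rw [mul_inv_eq_one, mul_eq_left] at h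
      exact hz1 h
    exact ((H.kern (H.conj_kern ha hz) hz).resolve_left hne).resolve_left hz1
  rcases H.symm.irrU (Fx V z ⊓ W) inf_le_right (by
    rintro a ha x ⟨hx1, hx2⟩
    rw [bst_symm] at ha
    refine ⟨?_, (ha.2 x).2 hx2⟩
    change z • a • x = a • x
    have hzx : z • x = x := hx1
    have : z • a • x = (a * z * a⁻¹) • a • x := by rw [hc a ha]
    rw [this, mul_smul, inv_smul_smul, mul_smul, hzx]) with h | h
  · have : w ∈ Fx V z ⊓ W := ⟨hzw, hw⟩
    rw [h] at this
    exact this
  · exfalso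
    apply hz1
    apply H.eq_one hz
    intro x hx
    rw [← h] at hx
    exact hx.1

/-- the point stabilisers have exactly two elements -/
theorem stab_pair (H : TwoBlk G U W h) {w : V} (hw : w ∈ W) (hw0 : w ≠ 0) {a b : G} (ha : a • w = w)
    (hb : b • w = w) : a = 1 ∨ b = 1 ∨ a = b := by
  have key : ∀ c : G, c • w = w → (∀ u ∈ U, c • u = u) → c = 1 := by
    intro c hc hcu
    by_contra hne
    exact hw0 (H.kern_fpf hcu hne hw hc)
  rcases two_of_orbit H.odd U a b (by
    intro u hu
    by_cases hu0 : u = 0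
    · subst hu0; left; exact smul_zero a
    · exact H.pair hu hw hu0 hw0 ha hb) with h | h | h
  · exact Or.inl (key a ha h)
  · exact Or.inr (Or.inl (key b hb h))
  · right; right
    have := key (b⁻¹ * a) (by rw [mul_smul, ha, inv_smul_eq_iff, hb]) (fun u hu => by
      rw [mul_smul, h u hu, inv_smul_smul])
    rw [inv_mul_eq_one] at this
    exact this.symm

theorem h_eq (H : TwoBlk G U W h) : h = 2 := by
  obtain ⟨w, hw, hw0⟩ := H.symm.exU
  have h1 := H.half w hw0
  have h2 := H.h2
  by_contra hne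
  have h3 : 2 < Nat.card (stabilizer G w) := by omega
  have := Fintype.ofFinite (stabilizer G w)
  rw [Nat.card_eq_fintype_card] at h3
  obtain ⟨x, y, z, hxy, hxz, hyz⟩ := Fintype.two_lt_card_iff.1 h3
  -- two of the three are non-trivial, or all
  have key : ∀ a b : stabilizer G w, a = 1 ∨ b = 1 ∨ a = b := by
    intro a b
    rcases H.stab_pair hw hw0 (a := a.1) (b := b.1) a.2 b.2 with h | h | h
    · exact Or.inl (Subtype.ext h)
    · exact Or.inr (Or.inl (Subtype.ext h))
    · exact Or.inr (Or.inr (Subtype.ext h))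
  rcases key x y with h | h | h
  · subst h
    rcases key y z with h | h | h
    · exact hxy h.symm
    · exact hxz h.symm
    · exact hyz h
  · subst h
    rcases key x z with h | h | h
    · exact hxy h
    · exact hyz h.symm
    · exact hxz h
  · exact hxy h

/-- every nonzero vector is fixed by exactly one non-trivial element -/
theorem exists_t (H : TwoBlk G U W h) {v : V} (hv : v ≠ 0) :
    ∃ t : G, t ≠ 1 ∧ t * t = 1 ∧ t • v = v ∧ ∀ s : G, s • v = v → s = 1 ∨ s = t := by
  have h1 : Nat.card (stabilizer G v) = 2 := (H.half v hv).trans H.h_eq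
  rw [Nat.card_eq_two_iff] at h1
  obtain ⟨x, y, hxy, hall⟩ := h1
  have key : ∃ t : stabilizer G v, t ≠ 1 ∧ ∀ s : stabilizer G v, s = 1 ∨ s = t := by
    by_cases hx : x = 1
    · refine ⟨y, fun h => hxy (hx.trans h.symm), fun s => ?_⟩
      have : s ∈ ({x, y} : Set _) := by rw [hall]; trivial
      rcases this with h | h
      · left; rw [h, hx]
      · right; exact h
    · have h1 : (1 : stabilizer G v) ∈ ({x, y} : Set _) := by rw [hall]; trivial
      have hy : y = 1 := by
        rcases h1 with h | h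
        · exact absurd h.symm hx
        · exact h.symm
      refine ⟨x, hx, fun s => ?_⟩
      have : s ∈ ({x, y} : Set _) := by rw [hall]; trivial
      rcases this with h | h
      · right; exact h
      · left; rw [← hy]; exact h
  obtain ⟨t, ht1, ht⟩ := key
  refine ⟨t.1, fun h => ht1 (Subtype.ext h), ?_, t.2, fun s hs => ?_⟩
  · rcases ht (t * t) with h | h
    · exact congrArg Subtype.val h
    · rw [mul_eq_left] at h
      exact absurd h ht1
  · rcases ht ⟨s, hs⟩ with h | h
    · exact Or.inl (congrArg Subtype.val h)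
    · exact Or.inr (congrArg Subtype.val h)

theorem uniq_t (H : TwoBlk G U W h) {v : V} (hv : v ≠ 0) {s t : G} (hs : s • v = v) (ht : t • v = v)
    (hs1 : s ≠ 1) (ht1 : t ≠ 1) : s = t := by
  obtain ⟨r, _, _, _, hr⟩ := H.exists_t hv
  rw [(hr s hs).resolve_left hs1, (hr t ht).resolve_left ht1]

/-- the fixed points of a point stabiliser on the other block -/
theorem fix_sq_le (H : TwoBlk G U W h) {u : V} (hu : u ∈ U) (hu0 : u ≠ 0) {t : G} (ht1 : t ≠ 1)
    (htu : t • u = u) :
    Nat.card (Fx V t ⊓ W : AddSubgroup V) ^ 2 ≤ Nat.card W := by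
  set F : AddSubgroup V := Fx V t ⊓ W with hF
  have hne : F ≠ W := by
    intro h
    apply hu0
    refine H.symm.kern_fpf (z := t) ?_ ht1 hu htu
    intro w hw
    rw [← h] at hw
    exact hw.1
  by_cases hb : F = ⊥
  · rw [hb, AddSubgroup.card_bot]
    have : 0 < Nat.card W := Nat.card_pos
    omega
  obtain ⟨a, ha, x, hx, hax⟩ : ∃ a ∈ bst G U W, ∃ x ∈ F, a • x ∉ F := by
    by_contra hc
    push Not at hc
    rcases H.symm.irrU F inf_le_right (by
      intro a ha x hx
      rw [bst_symm] at ha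
      exact hc a ha x hx) with h | h
    · exact hb h
    · exact hne h
  have hconj : a * t * a⁻¹ ≠ 1 := by
    intro h
    rw [mul_inv_eq_one, mul_eq_left] at h
    exact ht1 h
  let f : F × F → W := fun z => ⟨z.1.1 + a • z.2.1, W.add_mem z.1.2.2 ((ha.2 _).2 z.2.2.2)⟩
  have hf : Function.Injective f := by
    rintro ⟨⟨x₁, hx₁⟩, ⟨y₁, hy₁⟩⟩ ⟨⟨x₂, hx₂⟩, ⟨y₂, hy₂⟩⟩ heq
    have e1 : x₁ + a • y₁ = x₂ + a • y₂ := congrArg Subtype.val heq
    have e2 : x₁ - x₂ = a • (y₂ - y₁) := by
      rw [smul_sub, sub_eq_sub_iff_add_eq_add, e1, add_comm]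
    have h1 : t • (x₁ - x₂) = x₁ - x₂ := by rw [smul_sub, hx₁.1, hx₂.1]
    have h2 : (a * t * a⁻¹) • (x₁ - x₂) = x₁ - x₂ := by
      rw [e2, mul_smul, mul_smul, inv_smul_smul, smul_sub, smul_sub, hy₁.1, hy₂.1, smul_sub]
    by_cases h0 : x₁ - x₂ = 0
    · have h3 : y₂ - y₁ = 0 := by
        rw [h0] at e2
        exact (smul_eq_zero_iff_eq a).1 e2.symm
      have e3 : x₁ = x₂ := sub_eq_zero.1 h0
      have e4 : y₂ = y₁ := sub_eq_zero.1 h3
      subst e3; subst e4; rfl
    · exfalso
      have h3 := H.uniq_t h0 h1 h2 ht1 hconj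
      apply hax
      refine ⟨?_, (ha.2 _).2 hx.2⟩
      change t • a • x = a • x
      have hxx : t • x = x := hx.1
      have : t • a • x = (a * t * a⁻¹) • a • x := by rw [← h3]
      rw [this, mul_smul, inv_smul_smul, mul_smul, hxx]
  have := Nat.card_le_card_of_injective f hf
  rwa [Nat.card_prod, ← sq] at this

/-- swapping involutions -/
theorem card_le_inv (H : TwoBlk G U W h) {u : V} (hu : u ∈ U) (hu0 : u ≠ 0) {t : G} (ht1 : t ≠ 1)
    (htu : t • u = u) :
    Nat.card W ≤ Nat.card (Fx V t ⊓ W : AddSubgroup V) + Nat.card {s : G // s ∉ bst G U W ∧ s * s = 1} := by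
  classical
  set F : AddSubgroup V := Fx V t ⊓ W with hF
  have key : ∀ w : W, w.1 ∈ F ∨ ∃ s : {s : G // s ∉ bst G U W ∧ s * s = 1}, s.1 • u = w.1 := by
    rintro ⟨w, hw⟩
    by_cases hwF : w ∈ F
    · exact Or.inl hwF
    right
    have hw0 : w ≠ 0 := fun h => hwF (by rw [h]; exact F.zero_mem)
    have hv : u + w ≠ 0 := by
      intro h
      have : u ∈ W := by
        rw [eq_neg_of_add_eq_zero_left h]
        exact W.neg_mem hw
      exact hu0 (H.disj hu this)
    obtain ⟨s, hs1, hss, hsv, -⟩ := H.exists_t hv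
    have hsn : s ∉ bst G U W := by
      intro hsA
      have h3 : s • u - u ∈ U := U.sub_mem ((hsA.1 u).2 hu) hu
      have h4 : s • u - u = w - s • w := by
        rw [smul_add] at hsv
        rw [sub_eq_sub_iff_add_eq_add, hsv, add_comm]
      have h5 : s • u - u ∈ W := by rw [h4]; exact W.sub_mem hw ((hsA.2 w).2 hw)
      have h6 := H.disj h3 h5
      have h7 : s • u = u := sub_eq_zero.1 h6
      rw [h6] at h4
      have h8 : s • w = w := (sub_eq_zero.1 h4.symm).symm
      have h9 := H.uniq_t hu0 h7 htu hs1 ht1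
      subst h9
      exact hwF ⟨h8, hw⟩
    refine ⟨⟨s, hsn, hss⟩, ?_⟩
    have hsw := (H.not_mem_iff s).1 hsn
    have h3 : s • u - w ∈ W := W.sub_mem (hsw.1 u hu) hw
    have h4 : s • u - w = u - s • w := by
      rw [smul_add] at hsv
      rw [sub_eq_sub_iff_add_eq_add, hsv, add_comm]
    have h5 : s • u - w ∈ U := by rw [h4]; exact U.sub_mem hu (hsw.2 w hw)
    exact sub_eq_zero.1 (H.disj h5 h3)
  let g : W → F ⊕ {s : G // s ∉ bst G U W ∧ s * s = 1} := fun w =>
    if hw : w.1 ∈ F then Sum.inl ⟨w.1, hw⟩ else Sum.inr ((key w).resolve_left hw).choose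
  have hg : Function.Injective g := by
    intro w w' hww
    by_cases h1 : w.1 ∈ F <;> by_cases h2 : w'.1 ∈ F
    · simp only [g, h1, h2, dif_pos, Sum.inl.injEq, Subtype.mk.injEq] at hww
      exact Subtype.ext hww
    · simp only [g, h1, h2, ↓ _root_.reduceDIte, _root_.reduceCtorEq] at hww
    · simp only [g, h1, h2, ↓ _root_.reduceDIte, _root_.reduceCtorEq] at hww
    · simp only [g, h1, h2, dif_neg, not_false_eq_true, Sum.inr.injEq] at hww
      have e1 := ((key w).resolve_left h1).choose_spec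
      have e2 := ((key w').resolve_left h2).choose_spec
      rw [hww] at e1
      exact Subtype.ext (e1.symm.trans e2)
  have := Nat.card_le_card_of_injective g hg
  rwa [Nat.card_sum] at this

theorem card_eq (H : TwoBlk G U W h) : Nat.card U = Nat.card W := by
  obtain ⟨s, hs⟩ := H.swap
  have hsi := H.swap_inv hs
  refine Nat.card_congr ⟨fun u => ⟨s • u.1, hs.1 _ u.2⟩, fun w => ⟨s⁻¹ • w.1, hsi.2 _ w.2⟩, fun u => ?_, fun w => ?_⟩
  · ext; simp
  · ext; simp

/-- conjugation by a swapping involution -/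
theorem inverted (H : TwoBlk G U W h) {s : G} (hs : s ∉ bst G U W) (hss : s * s = 1) :
    ∃ α : (bst G U W) ≃* (bst G U W), Nat.card {a : bst G U W // α a = a⁻¹} =
      Nat.card {s : G // s ∉ bst G U W ∧ s * s = 1} := by
  have hsi : s⁻¹ = s := inv_eq_of_mul_eq_one_right hss
  have hnorm : ∀ a ∈ bst G U W, s * a * s ∈ bst G U W := by
    intro a ha
    apply H.mul_mem _ hs
    intro h
    exact hs (by simpa using (bst G U W).mul_mem h ((bst G U W).inv_mem ha))
  let α : (bst G U W) ≃* (bst G U W) :=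
    { toFun := fun a => ⟨s * a.1 * s, hnorm _ a.2⟩
      invFun := fun a => ⟨s * a.1 * s, hnorm _ a.2⟩
      left_inv := by
        intro a
        ext
        change s * (s * a.1 * s) * s = a.1
        calc s * (s * a.1 * s) * s = (s * s) * a.1 * (s * s) := by group
          _ = a.1 := by rw [hss, one_mul, mul_one]
      right_inv := by
        intro a
        ext
        change s * (s * a.1 * s) * s = a.1
        calc s * (s * a.1 * s) * s = (s * s) * a.1 * (s * s) := by group
          _ = a.1 := by rw [hss, one_mul, mul_one]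
      map_mul' := by
        intro a b
        ext
        change s * (a.1 * b.1) * s = (s * a.1 * s) * (s * b.1 * s)
        calc s * (a.1 * b.1) * s = s * a.1 * 1 * b.1 * s := by group
          _ = s * a.1 * (s * s) * b.1 * s := by rw [hss]
          _ = (s * a.1 * s) * (s * b.1 * s) := by group }
  refine ⟨α, ?_⟩
  have hα : ∀ a : bst G U W, α a = a⁻¹ ↔ (a.1 * s) * (a.1 * s) = 1 := by
    intro a
    rw [← Subtype.coe_inj]
    change s * a.1 * s = (a.1)⁻¹ ↔ _
    rw [← mul_eq_one_iff_eq_inv']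
    constructor
    · intro h; rw [← h]; group
    · intro h; rw [← h]; group
  refine Nat.card_congr ⟨fun a => ⟨a.1.1 * s, ?_, (hα a.1).1 a.2⟩, fun x => ⟨⟨x.1 * s, H.mul_mem x.2.1 hs⟩, ?_⟩, ?_, ?_⟩
  · intro h
    exact hs (by simpa using (bst G U W).mul_mem ((bst G U W).inv_mem a.1.2) h)
  · rw [hα]
    change (x.1 * s * s) * (x.1 * s * s) = 1
    rw [mul_assoc x.1, hss, mul_one, x.2.2]
  · intro a
    ext
    change a.1.1 * s * s = a.1.1
    rw [mul_assoc, hss, mul_one]
  · intro x
    ext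
    change x.1 * s * s = x.1
    rw [mul_assoc, hss, mul_one]

/-- the block stabiliser has orbits of length `|A| / 2` on a block -/
theorem card_orbit (H : TwoBlk G U W h) {u : V} (hu : u ∈ U) (hu0 : u ≠ 0) :
    Nat.card (orbit (bst G U W) u) * 2 = Nat.card (bst G U W) := by
  have h1 := Nat.card_congr (MulAction.orbitProdStabilizerEquivGroup (bst G U W) u)
  rw [Nat.card_prod] at h1
  rw [← h1]
  congr 1
  have h2 : Nat.card (stabilizer G u) = 2 := (H.half u hu0).trans H.h_eq
  rw [← h2]
  refine Nat.card_congr ⟨fun a => ⟨⟨a.1, H.stab_le hu hu0 a.2⟩, a.2⟩, fun a => ⟨a.1.1, a.2⟩, fun a => rfl, fun a => rfl⟩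

theorem orbit_sub (_H : TwoBlk G U W h) {u : V} (hu : u ∈ U) (hu0 : u ≠ 0) :
    orbit (bst G U W) u ⊆ {x | x ∈ U ∧ x ≠ 0} := by
  rintro _ ⟨a, rfl⟩
  refine ⟨(a.2.1 u).2 hu, ?_⟩
  change a.1 • u ≠ 0
  rw [Ne, smul_eq_zero_iff_eq]
  exact hu0

theorem card_nz : Nat.card {x : V | x ∈ U ∧ x ≠ 0} + 1 = Nat.card U := by
  classical
  have := Fintype.ofFinite V
  have e : {x : V | x ∈ U ∧ x ≠ 0} = (U : Set V) \ {0} := by
    ext x; simp
  rw [Nat.card_coe_set_eq, e, Set.ncard_sdiff_singleton_add_one]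
  · rfl
  · exact U.zero_mem

/-- **Two blocks: summary.** -/
theorem final (H : TwoBlk G U W h) : ∃ (R : ℕ) (α : (bst G U W) ≃* (bst G U W)), R ^ 2 ≤ Nat.card U ∧
    Nat.card U ≤ R + Nat.card {a : bst G U W // α a = a⁻¹} ∧
    ((∀ u ∈ U, ∀ u' ∈ U, u ≠ 0 → u' ≠ 0 → ∃ a ∈ bst G U W, a • u = u') ∧
      Nat.card (bst G U W) + 2 = 2 * Nat.card U ∨ Nat.card (bst G U W) + 1 ≤ Nat.card U) := by
  obtain ⟨u, hu, hu0⟩ := H.exU
  obtain ⟨t, ht1, -, htu, -⟩ := H.exists_t hu0
  have h1 := H.fix_sq_le hu hu0 ht1 htu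
  have h2 := H.card_le_inv hu hu0 ht1 htu
  have hU1 : 1 < Nat.card U := by
    have : Nontrivial U := ⟨⟨⟨u, hu⟩, 0, fun h => hu0 (congrArg Subtype.val h)⟩⟩
    exact Finite.one_lt_card
  set R := Nat.card (Fx V t ⊓ W : AddSubgroup V)
  rw [← H.card_eq] at h1 h2
  obtain ⟨s, hs, hss⟩ : ∃ s : G, s ∉ bst G U W ∧ s * s = 1 := by
    by_contra hc
    push Not at hc
    have : IsEmpty {s : G // s ∉ bst G U W ∧ s * s = 1} := ⟨fun s => hc s.1 s.2.1 s.2.2⟩
    rw [Nat.card_of_isEmpty (α := {s : G // s ∉ bst G U W ∧ s * s = 1})] at h2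
    nlinarith
  obtain ⟨α, hα⟩ := H.inverted hs hss
  refine ⟨R, α, h1, by rw [hα]; exact h2, ?_⟩
  by_cases htr : ∀ u ∈ U, ∀ u' ∈ U, u ≠ 0 → u' ≠ 0 → ∃ a ∈ bst G U W, a • u = u'
  · left
    refine ⟨htr, ?_⟩
    have e : orbit (bst G U W) u = {x | x ∈ U ∧ x ≠ 0} := by
      refine subset_antisymm (H.orbit_sub hu hu0) ?_
      rintro x ⟨hx, hx0⟩
      obtain ⟨a, ha, rfl⟩ := htr u hu x hx hu0 hx0
      exact ⟨⟨a, ha⟩, rfl⟩
    have h3 := H.card_orbit hu hu0
    have h4 := card_nz (U := U)
    rw [← h3, e, ← h4]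
    ring
  · right
    push Not at htr
    obtain ⟨x, hx, y, hy, hx0, hy0, hxy⟩ := htr
    have hd : Disjoint (orbit (bst G U W) x) (orbit (bst G U W) y) := by
      rw [Set.disjoint_left]
      rintro _ ⟨a, rfl⟩ ⟨b, hb⟩
      apply hxy (b⁻¹ * a).1 (b⁻¹ * a).2
      change b.1 • y = a.1 • x at hb
      change (b.1⁻¹ * a.1) • x = y
      rw [mul_smul, ← hb, inv_smul_smul]
    have h3 : Nat.card (orbit (bst G U W) x ∪ orbit (bst G U W) y : Set V) =
        Nat.card (orbit (bst G U W) x) + Nat.card (orbit (bst G U W) y) := by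
      rw [Nat.card_coe_set_eq, Nat.card_coe_set_eq, Nat.card_coe_set_eq]
      exact Set.ncard_union_eq hd (Set.toFinite _) (Set.toFinite _)
    have h4 : Nat.card (orbit (bst G U W) x ∪ orbit (bst G U W) y : Set V) ≤ Nat.card {x : V | x ∈ U ∧ x ≠ 0} := by
      apply Nat.card_mono (Set.toFinite _)
      exact Set.union_subset (H.orbit_sub hx hx0) (H.orbit_sub hy hy0)
    have h5 := H.card_orbit hx hx0
    have h6 := H.card_orbit hy hy0
    have h7 := card_nz (U := U)
    omega

end TwoBlk

end Cfsg.Agent.H960.HT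
end

-- part: H960/HT/Inv
section
/-! Elements inverted by an automorphism: a group with a normal section `A₅` has at most `4/15` of them.
More than `3/4` of them makes the group commutative. -/

namespace Cfsg.Agent.H960.HT

open Equiv

set_option maxRecDepth 100000 in
theorem perm_five_count : ∀ σ : Perm (Fin 5),
    (Finset.univ.filter (fun a : Perm (Fin 5) => a.sign = 1 ∧ σ * a = a⁻¹ * σ)).card ≤ 16 := by
  simp only [↓Cfsg.Agent.PermCode.M, Cfsg.Agent.PermCode.P5.R, Cfsg.Agent.PermCode.B]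
  decide +kernel

theorem alt_five_count (β : MulAut (alternatingGroup (Fin 5))) :
    Nat.card {a : alternatingGroup (Fin 5) // β a = a⁻¹} ≤ 16 := by
  classical
  obtain ⟨σ, hσ⟩ := OddCyclic.EmpFFAlt.exists_conj β
  refine le_trans ?_ (perm_five_count σ)
  rw [← Fintype.card_coe, ← Nat.card_eq_fintype_card]
  refine Nat.card_le_card_of_injective (fun a => ⟨a.1.1, ?_⟩) ?_
  · rw [Finset.mem_filter]
    refine ⟨Finset.mem_univ _, Perm.mem_alternatingGroup.1 a.1.2, ?_⟩
    have h1 := hσ a.1
    rw [a.2] at h1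
    have h2 : (a.1.1 : Perm (Fin 5))⁻¹ = σ * a.1.1 * σ⁻¹ := h1
    rw [h2]
    group
  · intro a b h
    have h' := congrArg Subtype.val h
    exact Subtype.ext (Subtype.ext h')

/-- An automorphism inverting more than three quarters of the elements makes the group commutative. -/
theorem comm_of_three_quarters {X : Type*} [Group X] [Finite X] (α : X ≃* X)
    (h : 3 * Nat.card X < 4 * Nat.card {x : X // α x = x⁻¹}) : ∀ x y : X, x * y = y * x := by
  classical
  have := Fintype.ofFinite X
  set S : Finset X := Finset.univ.filter (fun x => α x = x⁻¹) with hS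
  have hc : Nat.card {x : X // α x = x⁻¹} = S.card := by
    rw [Nat.card_eq_fintype_card, Fintype.card_subtype]
  rw [hc, Nat.card_eq_fintype_card] at h
  have key : ∀ s ∈ S, s ∈ Subgroup.center X := by
    intro s hs
    -- S ∩ s⁻¹ S ≤ C(s)
    have h1 : (S ∩ S.image (fun x => s⁻¹ * x)) ⊆
        Finset.univ.filter (fun x => x ∈ Subgroup.centralizer ({s} : Set X)) := by
      intro t ht
      simp only [Finset.mem_inter, Finset.mem_image, hS, Finset.mem_filter, Finset.mem_univ, true_and] at ht hs ⊢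
      obtain ⟨ht, y, hy, rfl⟩ := ht
      rw [Subgroup.mem_centralizer_singleton_iff]
      have e1 : α (s * (s⁻¹ * y)) = (s * (s⁻¹ * y))⁻¹ := by simpa using hy
      rw [map_mul, ht, hs] at e1
      have e2 := congrArg (·⁻¹) e1
      simpa only [mul_assoc, _root_.mul_inv_cancel_left, _root_.mul_inv_rev, _root_.inv_inv] using e2
    have h2 := Finset.card_le_card h1
    have h3 : (S.image (fun x => s⁻¹ * x)).card = S.card :=
      Finset.card_image_of_injective _ (mul_right_injective _)
    have h4 := Finset.card_union_add_card_inter S (S.image (fun x => s⁻¹ * x))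
    have h5 : (S ∪ S.image (fun x => s⁻¹ * x)).card ≤ Fintype.card X := Finset.card_le_univ _
    have h6 : Fintype.card X < 2 * (Finset.univ.filter (fun x => x ∈ Subgroup.centralizer ({s} : Set X))).card := by
      omega
    have h7 : Nat.card (Subgroup.centralizer ({s} : Set X)) =
        (Finset.univ.filter (fun x => x ∈ Subgroup.centralizer ({s} : Set X))).card := by
      rw [Nat.card_eq_fintype_card, ← Fintype.card_subtype]
    rw [← h7, ← Nat.card_eq_fintype_card] at h6
    have h8 : Subgroup.centralizer ({s} : Set X) = ⊤ := by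
      by_contra hne
      have h9 := Subgroup.card_mul_index (Subgroup.centralizer ({s} : Set X))
      have h10 : (Subgroup.centralizer ({s} : Set X)).index ≠ 1 := fun h => hne (Subgroup.index_eq_one.1 h)
      have h11 : (Subgroup.centralizer ({s} : Set X)).index ≠ 0 := Subgroup.index_ne_zero_of_finite
      have h12 : 2 ≤ (Subgroup.centralizer ({s} : Set X)).index := by omega
      nlinarith only [h6, h9, h12]
    rw [Subgroup.mem_center_iff]
    intro g
    have : g ∈ Subgroup.centralizer ({s} : Set X) := by rw [h8]; trivial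
    rw [Subgroup.mem_centralizer_singleton_iff] at this
    exact this
  have hcen : Subgroup.center X = ⊤ := by
    by_contra hne
    have h9 := Subgroup.card_mul_index (Subgroup.center X)
    have h10 : (Subgroup.center X).index ≠ 1 := fun h => hne (Subgroup.index_eq_one.1 h)
    have h11 : (Subgroup.center X).index ≠ 0 := Subgroup.index_ne_zero_of_finite
    have h12 : 2 ≤ (Subgroup.center X).index := by omega
    have h13 : S.card ≤ Nat.card (Subgroup.center X) := by
      rw [Nat.card_eq_fintype_card, Fintype.card_subtype]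
      exact Finset.card_le_card (fun s hs => by simpa using key s hs)
    rw [Nat.card_eq_fintype_card (α := X)] at h9
    nlinarith only [h, h9, h12, h13]
  intro x y
  have : y ∈ Subgroup.center X := by rw [hcen]; trivial
  exact (Subgroup.mem_center_iff.1 this x)

/-- the number of elements of a group with quotient `A₅` (soluble kernel) inverted by an automorphism -/
theorem inv_quot {L : Type*} [Group L] [Finite L] (π : L →* alternatingGroup (Fin 5))
    (hπ : Function.Surjective π) (hker : Group.IsSolvable π.ker) (β : L ≃* L) :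
    15 * Nat.card {a : L // β a = a⁻¹} ≤ 4 * Nat.card L := by
  classical
  -- the kernel is preserved
  have hsub : ∀ γ : L ≃* L, ∀ x ∈ π.ker, γ x ∈ π.ker := by
    intro γ x hx
    set! N : Subgroup L := π.ker.map γ.toMonoidHom with hN
    have hNn : N.Normal := Subgroup.Normal.map (by infer_instance) _ γ.surjective
    have hN' : (N.map π).Normal := Subgroup.Normal.map hNn _ hπ
    have hs : Group.IsSolvable (N.map π) := by
      have h1 : Group.IsSolvable N :=
        Group.isSolvable_of_surjective (f := (γ.toMonoidHom.subgroupMap π.ker)) (MonoidHom.subgroupMap_surjective _ _)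
      exact Group.isSolvable_of_surjective (f := (π.subgroupMap N)) (MonoidHom.subgroupMap_surjective _ _)
    have h60 : Nat.card (alternatingGroup (Fin 5)) = 60 := by
      rw [nat_card_alternatingGroup]; simp; decide
    have : IsSimpleGroup (alternatingGroup (Fin 5)) := alternatingGroup.isSimpleGroup (by simp)
    rcases hN'.eq_bot_or_eq_top with h | h
    · have h1 : π (γ x) ∈ N.map π := Subgroup.mem_map_of_mem _ (Subgroup.mem_map_of_mem _ hx)
      rw [h, Subgroup.mem_bot] at h1
      exact h1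
    · exfalso
      rw [h] at hs
      have h1 : Group.IsSolvable (alternatingGroup (Fin 5)) :=
        Group.isSolvable_of_surjective (f := (Subgroup.topEquiv (G := alternatingGroup (Fin 5))).toMonoidHom)
          (Subgroup.topEquiv (G := alternatingGroup (Fin 5))).surjective
      have h2 := IsSimpleGroup.comm_iff_isSolvable.2 h1
      revert h2
      decide +kernel
  have hker' : π.ker.map β.toMonoidHom = π.ker := by
    apply le_antisymm
    · rintro _ ⟨x, hx, rfl⟩
      exact hsub β x hx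
    · intro x hx
      exact ⟨β.symm x, hsub β.symm x hx, β.apply_symm_apply x⟩
  let e := QuotientGroup.quotientKerEquivOfSurjective π hπ
  let β' : (L ⧸ π.ker) ≃* (L ⧸ π.ker) := QuotientGroup.congr π.ker π.ker β hker'
  let βb : MulAut (alternatingGroup (Fin 5)) := (e.symm.trans β').trans e
  have hβb : ∀ x : L, βb (π x) = π (β x) := by
    intro x
    change e (β' (e.symm (π x))) = _
    have : e.symm (π x) = (x : L ⧸ π.ker) := by
      rw [MulEquiv.symm_apply_eq]; rfl
    rw [this]
    rfl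
  have h16 := alt_five_count βb
  -- fibres
  have hc1 : Nat.card {a : L // β a = a⁻¹} ≤ Nat.card {x : L // βb (π x) = (π x)⁻¹} := by
    refine Nat.card_le_card_of_injective (fun a => ⟨a.1, ?_⟩) ?_
    · rw [hβb, a.2, map_inv]
    · intro a b h
      have h' := congrArg Subtype.val h
      exact Subtype.ext h'
  have hsec : ∃ s : alternatingGroup (Fin 5) → L, ∀ a, π (s a) = a := ⟨fun a => (hπ a).choose, fun a => (hπ a).choose_spec⟩
  obtain ⟨s, hs⟩ := hsec
  have hc2 : Nat.card {x : L // βb (π x) = (π x)⁻¹} =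
      Nat.card {a : alternatingGroup (Fin 5) // βb a = a⁻¹} * Nat.card π.ker := by
    rw [← Nat.card_prod]
    refine Nat.card_congr ⟨fun x => (⟨π x.1, x.2⟩, ⟨(s (π x.1))⁻¹ * x.1, ?_⟩),
      fun y => ⟨s y.1.1 * y.2.1, ?_⟩, ?_, ?_⟩
    · rw [MonoidHom.mem_ker, map_mul, map_inv, hs, inv_mul_cancel]
    · have h1 : π (s y.1.1 * y.2.1) = y.1.1 := by
        rw [map_mul, hs, MonoidHom.mem_ker.1 y.2.2, mul_one]
      rw [h1]; exact y.1.2
    · intro x
      ext
      simp
    · rintro ⟨⟨a, ha⟩, ⟨k, hk⟩⟩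
      have h1 : π (s a * k) = a := by
        rw [map_mul, hs, MonoidHom.mem_ker.1 hk, mul_one]
      simp only [Prod.mk.injEq, Subtype.mk.injEq]
      refine ⟨h1, ?_⟩
      rw [h1, inv_mul_cancel_left]
  have hc3 : Nat.card L = 60 * Nat.card π.ker := by
    have h60 : Nat.card (alternatingGroup (Fin 5)) = 60 := by
      rw [nat_card_alternatingGroup]; simp; decide
    have := Subgroup.card_eq_card_quotient_mul_card_subgroup π.ker
    rw [this, Nat.card_congr e.toEquiv, h60]
  rw [hc2] at hc1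
  rw [hc3]
  nlinarith only [h16, hc1]

/-- **The `4/15` bound.** -/
theorem inv_bound {X : Type*} [Group X] [Finite X] (α : X ≃* X) (L : Subgroup X) [L.Normal]
    (hL : ∀ x ∈ L, α x ∈ L) (π : L →* alternatingGroup (Fin 5)) (hπ : Function.Surjective π)
    (hker : Group.IsSolvable π.ker) :
    15 * Nat.card {x : X // α x = x⁻¹} ≤ 4 * Nat.card X := by
  classical
  have := Fintype.ofFinite X
  have := Fintype.ofFinite (X ⧸ L)
  have hfib : ∀ c : X ⧸ L, 15 * Nat.card {x : {x : X // α x = x⁻¹} // (x.1 : X ⧸ L) = c} ≤ 4 * Nat.card L := by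
    intro c
    by_cases hne : Nonempty {x : {x : X // α x = x⁻¹} // (x.1 : X ⧸ L) = c}
    · obtain ⟨⟨⟨x₀, hx₀⟩, hc⟩⟩ := hne
      have hmem : ∀ l : L, x₀⁻¹ * α l.1 * x₀ ∈ L := by
        intro l
        have := (inferInstance : L.Normal).conj_mem (α l.1) (hL _ l.2) x₀⁻¹
        simpa only [_root_.inv_inv] using this
      let f : L →* L :=
        { toFun := fun l => ⟨x₀⁻¹ * α l.1 * x₀, hmem l⟩
          map_one' := by ext; simp only [_root_.OneMemClass.coe_one, _root_.map_one, _root_.mul_one, _root_.inv_mul_cancel]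
          map_mul' := by intro a b; ext; simp only [mul_assoc, _root_.Subgroup.coe_mul, _root_.map_mul, _root_.MulMemClass.mk_mul_mk, _root_.mul_inv_cancel_left] }
      have hf : Function.Injective f := by
        intro a b h
        have h1 : x₀⁻¹ * α a.1 * x₀ = x₀⁻¹ * α b.1 * x₀ := congrArg Subtype.val h
        have h2 := mul_left_cancel (mul_right_cancel h1)
        exact Subtype.ext (α.injective h2)
      let β : L ≃* L := MulEquiv.ofBijective f (Finite.injective_iff_bijective.1 hf)
      refine le_trans (Nat.mul_le_mul_left _ ?_) (inv_quot π hπ hker β)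
      refine Nat.card_le_card_of_injective (fun y => ⟨⟨x₀⁻¹ * y.1.1, ?_⟩, ?_⟩) ?_
      · rw [← QuotientGroup.eq, hc, y.2]
      · apply Subtype.ext
        change x₀⁻¹ * α (x₀⁻¹ * y.1.1) * x₀ = (x₀⁻¹ * y.1.1)⁻¹
        rw [map_mul, map_inv, hx₀, y.1.2]
        group
      · intro a b h
        have h1 : x₀⁻¹ * a.1.1 = x₀⁻¹ * b.1.1 := congrArg (fun z => z.1.1) h
        exact Subtype.ext (Subtype.ext (mul_left_cancel h1))
    · rw [not_nonempty_iff] at hne
      rw [Nat.card_of_isEmpty]
      omega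
  have h1 : Nat.card {x : X // α x = x⁻¹} =
      ∑ c : X ⧸ L, Nat.card {x : {x : X // α x = x⁻¹} // (x.1 : X ⧸ L) = c} := by
    rw [← Nat.card_sigma]
    exact Nat.card_congr (Equiv.sigmaFiberEquiv _).symm
  rw [h1, Finset.mul_sum]
  refine le_trans (Finset.sum_le_sum (fun c _ => hfib c)) ?_
  rw [Finset.sum_const, Finset.card_univ, smul_eq_mul, ← Nat.card_eq_fintype_card,
    Subgroup.card_eq_card_quotient_mul_card_subgroup L]
  linarith only []

end Cfsg.Agent.H960.HT
end

-- part: H960/HT/Res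
section
/-! An insoluble finite group with a soluble normal subgroup whose quotient has a normal `SL(2,5)` of small
index: an automorphism inverts at most `4/15` of the elements. -/

set_option autoImplicit false

namespace Cfsg.Agent.H960.HT

universe u

theorem exists_sl_to_alt : ∃ f : Matrix.SpecialLinearGroup (Fin 2) (ZMod 5) →* alternatingGroup (Fin 5),
    Function.Surjective f ∧ Group.IsSolvable f.ker := by
  obtain ⟨e⟩ := S0253.psl_zmod5
  let q : Matrix.SpecialLinearGroup (Fin 2) (ZMod 5) →* Matrix.ProjectiveSpecialLinearGroup (Fin 2) (ZMod 5) :=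
    QuotientGroup.mk' _
  refine ⟨e.toMonoidHom.comp q, e.surjective.comp (QuotientGroup.mk'_surjective _), ?_⟩
  have h1 : (e.toMonoidHom.comp q).ker = Subgroup.center _ := by
    ext x
    rw [MonoidHom.mem_ker]
    change e (q x) = 1 ↔ _
    rw [map_eq_one_iff e e.injective]
    exact QuotientGroup.eq_one_iff x
  rw [h1]
  exact Group.isSolvable_of_comm (fun a b => Subtype.ext ((Subgroup.mem_center_iff.1 a.2 b.1).symm))

theorem resid_bound {A H : Type u} [Group A] [Finite A] [Group H] (φ : A →* H)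
    (hφ : Function.Surjective φ) (hker : Group.IsSolvable φ.ker) (hA : ¬ Group.IsSolvable A)
    (N : Subgroup H) [N.Normal] (hN : Nonempty (N ≃* Matrix.SpecialLinearGroup (Fin 2) (ZMod 5)))
    (hcard : N.index < 60) (α : A ≃* A) :
    15 * Nat.card {x : A // α x = x⁻¹} ≤ 4 * Nat.card A := by
  have : Finite H := Finite.of_surjective φ hφ
  have hq : Group.IsSolvable (H ⧸ N) := BpAlt.solvable_of_lt _ (H ⧸ N) rfl hcard
  obtain ⟨n, hn⟩ := hq.solvable
  have hDN : derivedSeries H n ≤ N := by
    have h1 : (derivedSeries H n).map (QuotientGroup.mk' N) = ⊥ := by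
      rw [← hn]
      exact map_derivedSeries_eq (QuotientGroup.mk'_surjective N) n
    intro x hx
    have : QuotientGroup.mk' N x ∈ (derivedSeries H n).map (QuotientGroup.mk' N) := Subgroup.mem_map_of_mem _ hx
    rw [h1, Subgroup.mem_bot] at this
    exact (QuotientGroup.eq_one_iff x).1 this
  have hmap : (derivedSeries A n).map φ = derivedSeries H n := map_derivedSeries_eq hφ n
  obtain ⟨f, hf, hfk⟩ := exists_sl_to_alt
  obtain ⟨e⟩ := hN
  let φL : derivedSeries A n →* N :=
    { toFun := fun x => ⟨φ x.1, hDN (by rw [← hmap]; exact Subgroup.mem_map_of_mem _ x.2)⟩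
      map_one' := by ext; simp only [_root_.OneMemClass.coe_one, _root_.map_one]
      map_mul' := by intro a b; ext; simp only [_root_.Subgroup.coe_mul, _root_.map_mul, _root_.MulMemClass.mk_mul_mk] }
  let π : derivedSeries A n →* alternatingGroup (Fin 5) := (f.comp e.toMonoidHom).comp φL
  -- the kernel is soluble
  have hk1 : Group.IsSolvable (f.comp e.toMonoidHom).ker := by
    have : Group.IsSolvable f.ker := hfk
    let g : (f.comp e.toMonoidHom).ker →* f.ker :=
      { toFun := fun x => ⟨e x.1, x.2⟩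
        map_one' := Subtype.ext (map_one e)
        map_mul' := fun a b => Subtype.ext (map_mul e _ _) }
    refine Group.isSolvable_of_isSolvable_injective (f := g) ?_
    intro a b h
    have h1 : e a.1 = e b.1 := congrArg Subtype.val h
    exact Subtype.ext (e.injective h1)
  have hk2 : Group.IsSolvable φL.ker := by
    let g : φL.ker →* φ.ker :=
      { toFun := fun x => ⟨x.1.1, congrArg Subtype.val x.2⟩
        map_one' := by ext; simp only [_root_.OneMemClass.coe_one]
        map_mul' := by intro a b; ext; simp only [_root_.Subgroup.coe_mul] }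
    refine Group.isSolvable_of_isSolvable_injective (f := g) ?_
    intro a b h
    have h1 : a.1.1 = b.1.1 := congrArg (fun z => z.1) h
    exact Subtype.ext (Subtype.ext h1)
  have hπk : Group.IsSolvable π.ker := by
    let g : π.ker →* (f.comp e.toMonoidHom).ker :=
      { toFun := fun x => ⟨φL x.1, x.2⟩
        map_one' := Subtype.ext (map_one φL)
        map_mul' := fun a b => Subtype.ext (map_mul φL _ _) }
    let i : φL.ker →* π.ker :=
      { toFun := fun x => ⟨x.1, by
          rw [MonoidHom.mem_ker]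
          change (f.comp e.toMonoidHom) (φL x.1) = 1
          rw [MonoidHom.mem_ker.1 x.2, map_one]⟩
        map_one' := by ext; simp only [_root_.OneMemClass.coe_one]
        map_mul' := by intro a b; ext; simp only [_root_.Subgroup.coe_mul, _root_.MulMemClass.mk_mul_mk] }
    refine Group.isSolvable_of_ker_le_range i g ?_
    intro x hx
    refine ⟨⟨x.1, ?_⟩, rfl⟩
    exact congrArg Subtype.val (MonoidHom.mem_ker.1 hx)
  -- surjectivity
  have hπ : Function.Surjective π := by
    have : IsSimpleGroup (alternatingGroup (Fin 5)) := alternatingGroup.isSimpleGroup (by simp)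
    rw [← MonoidHom.range_eq_top]
    -- the image of `φL` is normal in `N`
    have hn1 : φL.range.Normal := by
      constructor
      rintro _ ⟨x, rfl⟩ y
      have h1 : (derivedSeries H n).Normal := by infer_instance
      have h2 : y.1 * φ x.1 * y.1⁻¹ ∈ derivedSeries H n :=
        h1.conj_mem _ (by rw [← hmap]; exact Subgroup.mem_map_of_mem _ x.2) _
      rw [← hmap] at h2
      obtain ⟨z, hz, hz'⟩ := h2
      exact ⟨⟨z, hz⟩, Subtype.ext hz'⟩
    have hn2 : π.range.Normal := by
      have h1 : π.range = φL.range.map (f.comp e.toMonoidHom) := MonoidHom.range_comp _ _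
      rw [h1]
      exact Subgroup.Normal.map hn1 _ (hf.comp e.surjective)
    refine hn2.eq_bot_or_eq_top.resolve_left ?_
    intro hbot
    apply hA
    have h1 : Group.IsSolvable (derivedSeries A n) := by
      have h2 : π.ker = ⊤ := by
        rw [eq_top_iff]
        intro x _
        have : π x ∈ π.range := ⟨x, rfl⟩
        rw [hbot] at this
        exact this
      rw [h2] at hπk
      exact Group.isSolvable_of_surjective (f := (Subgroup.topEquiv (G := derivedSeries A n)).toMonoidHom)
        (Subgroup.topEquiv (G := derivedSeries A n)).surjective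
    have h3 : Group.IsSolvable (A ⧸ derivedSeries A n) := by
      rw [Group.isSolvable_def]
      refine ⟨n, ?_⟩
      rw [← map_derivedSeries_eq (QuotientGroup.mk'_surjective (derivedSeries A n)) n]
      rw [Subgroup.map_eq_bot_iff, QuotientGroup.ker_mk']
    refine Group.isSolvable_of_ker_le_range (derivedSeries A n).subtype (QuotientGroup.mk' (derivedSeries A n)) ?_
    rw [QuotientGroup.ker_mk', Subgroup.range_subtype]
  have hchar : ∀ x ∈ derivedSeries A n, α x ∈ derivedSeries A n := by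
    intro x hx
    have := map_derivedSeries_eq (f := α.toMonoidHom) α.surjective n
    rw [← this]
    exact Subgroup.mem_map_of_mem _ hx
  exact inv_bound α (derivedSeries A n) hchar π hπ hπk

end Cfsg.Agent.H960.HT
end

-- part: H960/HT/TwoF
section
/-! Two blocks: the contradiction for insoluble coprime half-transitive groups (with Hering's theorem as a
hypothesis `HerHyp`). -/

set_option autoImplicit false

namespace Cfsg.Agent.H960.HT

open MulAction Cfsg.Agent.H828.HT

universe u

/-- Hering's theorem for insoluble transitive linear groups of order prime to `p` (from S3695). -/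
def HerHyp : Prop := ∀ (p : ℕ) [Fact p.Prime] (U : Type u) [AddCommGroup U] [Module (ZMod p) U] [Finite U]
    [Nontrivial U] (H : Subgroup (Equiv.Perm U)), (∀ h ∈ H, ∀ v w : U, h (v + w) = h v + h w) →
    (∀ v w : U, v ≠ 0 → w ≠ 0 → ∃ h ∈ H, h v = w) → ¬ p ∣ Nat.card H → ¬ Group.IsSolvable H →
    Module.finrank (ZMod p) U = 2 ∧ (p = 11 ∨ p = 19 ∨ p = 29 ∨ p = 59) ∧
      ∃ N : Subgroup H, N.Normal ∧ Nonempty (N ≃* Matrix.SpecialLinearGroup (Fin 2) (ZMod 5))

/-- `G` acts irreducibly. -/
def Irr {p : ℕ} [Fact p.Prime] {V : Type u} [AddCommGroup V] [Module (ZMod p) V]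
    (G : Subgroup (V ≃ₗ[ZMod p] V)) : Prop :=
  ∀ W : Submodule (ZMod p) V, (∀ g ∈ G, ∀ v ∈ W, g v ∈ W) → W = ⊥ ∨ W = ⊤

variable {p : ℕ} [Fact p.Prime] {V : Type u} [AddCommGroup V] [Module (ZMod p) V] [Finite V]

theorem two_false (hHer : HerHyp.{u}) (hp2 : p ≠ 2) {G : Subgroup (V ≃ₗ[ZMod p] V)} {h : ℕ} (hh : Half G h)
    (h2 : 2 ≤ h) (hG : ¬ p ∣ Nat.card G) (hirr : Irr G) (hins : ¬ Group.IsSolvable G)
    {U W : Submodule (ZMod p) V} (hc : IsCompl U W) (hU : U ≠ ⊥) (hW : W ≠ ⊥)
    (hperm : ∀ g ∈ G, ((∀ u ∈ U, g u ∈ U) ∧ (∀ w ∈ W, g w ∈ W)) ∨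
      ((∀ u ∈ U, g u ∈ W) ∧ (∀ w ∈ W, g w ∈ U)))
    (hswap : ∃ g ∈ G, (∀ u ∈ U, g u ∈ W) ∧ (∀ w ∈ W, g w ∈ U)) : False := by
  classical
  have hp3 : 3 ≤ p := by
    have := (Fact.out : p.Prime).two_le
    omega
  have H : TwoBlk G U.toAddSubgroup W.toAddSubgroup h :=
    { odd := by
        rw [card_eq_pow (p := p)]
        exact ((Fact.out : p.Prime).odd_of_ne_two hp2).pow
      half := hh
      h2 := h2
      compl := by
        refine ⟨?_, ?_⟩
        · rw [AddSubgroup.disjoint_def]
          intro x hx hx'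
          exact (Submodule.disjoint_def.1 hc.disjoint) x hx hx'
        · rw [codisjoint_iff, eq_top_iff]
          intro x _
          have : x ∈ U ⊔ W := by rw [hc.sup_eq_top]; trivial
          obtain ⟨u, hu, w, hw, rfl⟩ := Submodule.mem_sup.1 this
          exact AddSubgroup.mem_sup.2 ⟨u, hu, w, hw, rfl⟩
      nbU := by
        intro h
        apply hU
        rw [eq_bot_iff]
        intro x hx
        have : x ∈ U.toAddSubgroup := hx
        rw [h] at this
        exact this
      nbW := by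
        intro h
        apply hW
        rw [eq_bot_iff]
        intro x hx
        have : x ∈ W.toAddSubgroup := hx
        rw [h] at this
        exact this
      perm := fun g => hperm g.1 g.2
      swap := by
        obtain ⟨g, hg, h⟩ := hswap
        exact ⟨⟨g, hg⟩, h⟩
      irr := by
        intro X hX
        rcases hirr (AddSubgroup.toZModSubmodule p X) (fun g hg v hv => hX ⟨g, hg⟩ v hv) with h | h
        · left
          rw [eq_bot_iff]
          intro x hx
          have : x ∈ AddSubgroup.toZModSubmodule p X := hx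
          rw [h] at this
          exact this
        · right
          rw [eq_top_iff]
          intro x _
          have : x ∈ AddSubgroup.toZModSubmodule p X := by rw [h]; trivial
          exact this }
  have hfin := H.final
  set A : Subgroup G := bst G U.toAddSubgroup W.toAddSubgroup with hA
  set q : ℕ := Nat.card U.toAddSubgroup with hq
  obtain ⟨R, α, hR, hcard, hcase⟩ := hfin
  -- `A` is insoluble
  have hAn : A.Normal := by
    constructor
    intro a ha g
    by_cases hg : g ∈ A
    · exact A.mul_mem (A.mul_mem hg ha) (A.inv_mem hg)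
    · have hgi : g⁻¹ ∉ A := fun h => hg (by simpa using A.inv_mem h)
      refine H.mul_mem ?_ hgi
      intro h
      exact hg (by simpa only [_root_.mul_inv_cancel_right] using A.mul_mem h (A.inv_mem ha))
  have hAins : ¬ Group.IsSolvable A := by
    intro hs
    apply hins
    have h1 : Group.IsSolvable (G ⧸ A) := by
      refine Group.isSolvable_of_comm ?_
      have key : ∀ x : G ⧸ A, ∀ y : G ⧸ A, x = 1 ∨ y = 1 ∨ x * y = 1 := by
        intro x y
        obtain ⟨x, rfl⟩ := QuotientGroup.mk_surjective x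
        obtain ⟨y, rfl⟩ := QuotientGroup.mk_surjective y
        by_cases hx : x ∈ A
        · exact Or.inl ((QuotientGroup.eq_one_iff x).2 hx)
        by_cases hy : y ∈ A
        · exact Or.inr (Or.inl ((QuotientGroup.eq_one_iff y).2 hy))
        right; right
        rw [← QuotientGroup.mk_mul]
        exact (QuotientGroup.eq_one_iff _).2 (H.mul_mem hx hy)
      intro a b
      rcases key a b with h | h | h
      · rw [h, one_mul, mul_one]
      · rw [h, one_mul, mul_one]
      · rw [h]
        rw [mul_eq_one_iff_eq_inv] at h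
        rw [h, mul_inv_cancel]
    refine Group.isSolvable_of_ker_le_range A.subtype (QuotientGroup.mk' A) ?_
    rw [QuotientGroup.ker_mk', Subgroup.range_subtype]
  have h60 : 60 ≤ Nat.card A := by
    by_contra hlt
    push Not at hlt
    exact hAins (BpAlt.solvable_of_lt _ A rfl hlt)
  rcases hcase with ⟨htr, hcA⟩ | hcA
  · -- transitive case
    -- the permutation group on `U`
    let f : A →* Equiv.Perm U :=
      { toFun := fun a =>
          { toFun := fun u => ⟨a.1.1 u.1, (a.2.1 u.1).2 u.2⟩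
            invFun := fun u => ⟨(a.1⁻¹).1 u.1, ((A.inv_mem a.2).1 u.1).2 u.2⟩
            left_inv := by
              intro u
              apply Subtype.ext
              change (a.1⁻¹ * a.1) • u.1 = u.1
              rw [inv_mul_cancel, one_smul]
            right_inv := by
              intro u
              apply Subtype.ext
              change (a.1 * a.1⁻¹) • u.1 = u.1
              rw [mul_inv_cancel, one_smul] }
        map_one' := by ext u; rfl
        map_mul' := by intro a b; ext u; rfl }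
    have hker : Group.IsSolvable f.ker := by
      refine Group.isSolvable_of_comm ?_
      have key : ∀ x : f.ker, ∀ u ∈ U.toAddSubgroup, x.1.1 • u = u := by
        intro x u hu
        have h1 : f x.1 = 1 := x.2
        have h2 := congrArg (fun e : Equiv.Perm U => (e ⟨u, hu⟩).1) h1
        exact h2
      intro a b
      rcases H.kern (key a) (key b) with h | h | h
      · have : a = 1 := Subtype.ext (Subtype.ext h)
        rw [this, one_mul, mul_one]
      · have : b = 1 := Subtype.ext (Subtype.ext h)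
        rw [this, one_mul, mul_one]
      · have : a = b := Subtype.ext (Subtype.ext h)
        rw [this]
    have hins2 : ¬ Group.IsSolvable f.range := by
      intro hs
      apply hAins
      refine Group.isSolvable_of_ker_le_range f.ker.subtype f.rangeRestrict ?_
      rw [Subgroup.range_subtype, MonoidHom.ker_rangeRestrict]
    have hUnt : Nontrivial U := Submodule.nontrivial_iff_ne_bot.2 hU
    obtain ⟨hfr, hpp, N, hN, hNe⟩ := hHer p U f.range (by
        rintro _ ⟨a, rfl⟩ v w
        exact Subtype.ext (map_add a.1.1 v.1 w.1)) (by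
        intro v w hv hw
        obtain ⟨a, ha, hav⟩ := htr v.1 v.2 w.1 w.2 (fun h => hv (Subtype.ext h)) (fun h => hw (Subtype.ext h))
        exact ⟨f ⟨a, ha⟩, ⟨_, rfl⟩, Subtype.ext hav⟩) (by
        intro hd
        exact hG ((hd.trans (Subgroup.card_range_dvd f)).trans (Subgroup.card_subgroup_dvd_card A))) hins2
    have hqp : q = p ^ 2 := by
      have : Nat.card U = p ^ 2 := by rw [card_eq_pow (p := p), hfr]
      exact this
    have hN120 : Nat.card N = 120 := by
      obtain ⟨e⟩ := hNe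
      rw [Nat.card_congr e.toEquiv, Nat.card_eq_fintype_card]
      decide +kernel
    have hidx : N.index < 60 := by
      have h1 := Subgroup.card_mul_index N
      have h3 : Nat.card f.range ≤ Nat.card A := Nat.card_le_card_of_surjective f.rangeRestrict f.rangeRestrict_surjective
      rw [hN120] at h1
      rcases hpp with rfl | rfl | rfl | rfl <;> omega
    have h15 := resid_bound f.rangeRestrict f.rangeRestrict_surjective (by rw [MonoidHom.ker_rangeRestrict]; exact hker)
      hAins N hNe hidx α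
    set! I := Nat.card {a : A // α a = a⁻¹} with hset8; rewrite [← hset8] at h15 hcard; clear hset8
    have hRp : R ≤ p := by
      rw [hqp] at hR
      exact (Nat.pow_le_pow_iff_left (by norm_num)).1 hR
    rcases hpp with rfl | rfl | rfl | rfl <;> omega
  · -- intransitive case
    have hcom := comm_of_three_quarters α (by
      set! I := Nat.card {a : A // α a = a⁻¹} with hset8; rewrite [← hset8] at hcard ⊢; clear hset8
      by_contra hle
      push Not at hle
      have h1 : 4 * (q - R) ≤ 3 * Nat.card A := by omega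
      nlinarith only [hR, h60, hcA, hcard, hle])
    exact hAins (Group.isSolvable_of_comm hcom)

end Cfsg.Agent.H960.HT
end
end

-- part: H960/HT/Imp
section
prune_inst 0xf03063056d4002000004050020002085790001900040000069260f420b0b1242850220404a800c1208268080100400000090003000000000000004000000012080a2120421740c0424000f000080000000000000010000000000000000041000000000000
set_option linter.all false
open scoped Cfsg.Agent.FastGrp

/-! Imprimitive half-transitive coprime linear groups are soluble (or semiregular). -/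

set_option autoImplicit false
set_option linter.unusedSectionVars false

namespace Cfsg.Agent.H960.HT

open MulAction Cfsg.Agent.H828.HT

universe u


theorem three_pow_gt (j : ℕ) : 2 * (j + 6) ^ 2 < 3 ^ (j + 4) := by
  induction j with
  | zero => norm_num
  | succ j ih =>
    rw [show j + 1 + 4 = (j + 4) + 1 from rfl, pow_succ 3 (j + 4)]
    have := Nat.zero_le (j * j)
    linarith only [ih, _root_.mul_self_nonneg (↑j : ℤ), _root_.Nat.cast_nonneg (α := ℤ) (j)]

theorem num_k {p n k m : ℕ} (hp : p.Prime) (hp2 : p ≠ 2) (hn : 1 ≤ n) (hk : 3 ≤ k)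
    (h1 : m ∣ k * (p ^ n - 1)) (h2 : m ∣ (p ^ n) ^ k - 1) (h3 : (p ^ n) ^ k ≤ 2 * m ^ 2) : n = 1 ∧ k ≤ 4 := by
  have hp3 : 3 ≤ p := by have := hp.two_le; omega
  have hq3 : 3 ≤ p ^ n := le_trans hp3 (by simpa using Nat.pow_le_pow_right hp.pos hn)
  have hm : m ≤ k * (p ^ n - 1) := Nat.le_of_dvd (Nat.mul_pos (by omega) (by omega)) h1
  -- small `q` forces `n = 1` or `q = 9`
  have hsm : p ^ n ≤ 15 → n = 1 ∨ (p = 3 ∧ n = 2) := by
    intro h15
    by_cases hn1 : n = 1
    · exact Or.inl hn1
    right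
    have h9 : p ^ 2 ≤ 15 := le_trans (Nat.pow_le_pow_right hp.pos (by omega)) h15
    have hp' : p = 3 := by nlinarith only [hp3, h9]
    subst hp'
    refine ⟨rfl, ?_⟩
    by_contra hne
    have : 3 ^ 3 ≤ 3 ^ n := Nat.pow_le_pow_right (by norm_num) (by omega)
    omega
  obtain ⟨q, hq⟩ : ∃ q, p ^ n = q := ⟨_, rfl⟩
  rw [hq] at h1 h2 h3 hm hq3 hsm
  obtain ⟨r, rfl⟩ : ∃ r, q = r + 1 := ⟨q - 1, by omega⟩
  simp only [Nat.add_sub_cancel] at h1 hm
  rcases Nat.lt_or_ge k 6 with hk6 | hk6
  · interval_cases k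
    · -- `k = 3`
      have hr : r + 1 ≤ 15 := by
        by_contra hc
        push Not at hc
        have h4 : m ^ 2 ≤ (3 * r) ^ 2 := Nat.pow_le_pow_left hm 2
        nlinarith only [h3, hc, h4]
      rcases hsm hr with h | ⟨rfl, rfl⟩
      · exact ⟨h, by norm_num⟩
      · exfalso
        have hr8 : r = 8 := by omega
        subst hr8
        have h5 : m ∣ Nat.gcd (3 * 8) ((8 + 1) ^ 3 - 1) := Nat.dvd_gcd h1 h2
        have h6 : Nat.gcd (3 * 8) ((8 + 1) ^ 3 - 1) = 8 := by norm_num
        rw [h6] at h5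
        have h7 := Nat.le_of_dvd (by norm_num) h5
        nlinarith only [h3, h7]
    · -- `k = 4`
      have hr : r + 1 ≤ 4 := by
        by_contra hc
        push Not at hc
        have h4 : m ^ 2 ≤ (4 * r) ^ 2 := Nat.pow_le_pow_left hm 2
        have h5 : (r + 1) ^ 4 ≤ 32 * r ^ 2 := by linarith only [h3, h4]
        have h6 : 32 * r ^ 2 < (r + 1) ^ 4 := by
          have : 4 ≤ r := by omega
          nlinarith only [hc, Nat.mul_le_mul this this]
        omega
      rcases hsm (by omega) with h | ⟨rfl, rfl⟩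
      · exact ⟨h, by norm_num⟩
      · omega
    · exfalso
      have h4 : m ^ 2 ≤ (5 * r) ^ 2 := Nat.pow_le_pow_left hm 2
      have h5 : (r + 1) ^ 5 ≤ 50 * r ^ 2 := by linarith only [h3, h4]
      have h6 : 50 * r ^ 2 < (r + 1) ^ 5 := by
        have h2r : 2 ≤ r := by omega
        have e1 : 27 * (r + 1) ^ 2 ≤ (r + 1) ^ 5 := by
          have : 3 ^ 3 ≤ (r + 1) ^ 3 := Nat.pow_le_pow_left (by omega) 3
          calc 27 * (r + 1) ^ 2 = 3 ^ 3 * (r + 1) ^ 2 := by norm_num
            _ ≤ (r + 1) ^ 3 * (r + 1) ^ 2 := Nat.mul_le_mul_right _ this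
            _ = (r + 1) ^ 5 := by ring
        rcases Nat.lt_or_ge r 3 with h | h
        · have : r = 2 := by omega
          subst this; norm_num
        · have : 4 ^ 3 ≤ (r + 1) ^ 3 := Nat.pow_le_pow_left (by omega) 3
          have e2 : 64 * (r + 1) ^ 2 ≤ (r + 1) ^ 5 := by
            calc 64 * (r + 1) ^ 2 = 4 ^ 3 * (r + 1) ^ 2 := by norm_num
              _ ≤ (r + 1) ^ 3 * (r + 1) ^ 2 := Nat.mul_le_mul_right _ this
              _ = (r + 1) ^ 5 := by ring
          linarith only [e1, h, e2]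
      omega
  · exfalso
    obtain ⟨j, rfl⟩ : ∃ j, k = j + 6 := ⟨k - 6, by omega⟩
    have h4 : m ^ 2 ≤ ((j + 6) * r) ^ 2 := Nat.pow_le_pow_left hm 2
    have h5 : (r + 1) ^ (j + 6) ≤ (2 * (j + 6) ^ 2) * r ^ 2 := by
      calc (r + 1) ^ (j + 6) ≤ 2 * m ^ 2 := h3
        _ ≤ 2 * ((j + 6) * r) ^ 2 := Nat.mul_le_mul_left _ h4
        _ = (2 * (j + 6) ^ 2) * r ^ 2 := by ring
    have h6 : (3 : ℕ) ^ (j + 4) ≤ (r + 1) ^ (j + 4) := Nat.pow_le_pow_left (by omega) _
    have h7 := three_pow_gt j
    have h8 : (2 * (j + 6) ^ 2) * r ^ 2 < (r + 1) ^ (j + 6) := by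
      calc (2 * (j + 6) ^ 2) * r ^ 2 < (r + 1) ^ (j + 4) * r ^ 2 :=
            Nat.mul_lt_mul_of_pos_right (lt_of_lt_of_le h7 h6) (pow_pos (by omega) 2)
        _ ≤ (r + 1) ^ (j + 4) * (r + 1) ^ 2 := Nat.mul_le_mul_left _ (Nat.pow_le_pow_left (by omega) 2)
        _ = (r + 1) ^ (j + 6) := by rw [← pow_add]
    omega

variable {p : ℕ} [Fact p.Prime] {V : Type u} [AddCommGroup V] [Module (ZMod p) V] [Finite V]

/-- A system of imprimitivity. -/
structure Sys (G : Subgroup (V ≃ₗ[ZMod p] V)) (B : Set (Submodule (ZMod p) V)) : Prop where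
  ne : ∀ X ∈ B, X ≠ ⊥
  ind : sSupIndep B
  perm : ∀ g ∈ G, ∀ X ∈ B, X.map (g : V →ₗ[ZMod p] V) ∈ B
  nt : B.Nontrivial

namespace Sys

variable {G : Subgroup (V ≃ₗ[ZMod p] V)} {B : Set (Submodule (ZMod p) V)}

theorem iSup_top (H : Sys G B) (hirr : Irr G) {C : Set (Submodule (ZMod p) V)} (hC : C ⊆ B) (hne : C.Nonempty)
    (hinv : ∀ g ∈ G, ∀ X ∈ C, X.map (g : V →ₗ[ZMod p] V) ∈ C) : sSup C = ⊤ := by
  rcases hirr (sSup C) (by
    intro g hg v hv
    have h1 : (sSup C).map (g : V →ₗ[ZMod p] V) ≤ sSup C := by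
      rw [sSup_eq_iSup, Submodule.map_iSup]
      refine iSup_le fun X => ?_
      rw [Submodule.map_iSup]
      refine iSup_le fun hX => ?_
      rw [← sSup_eq_iSup]
      exact le_sSup (hinv g hg X hX)
    exact h1 ⟨v, hv, rfl⟩) with h | h
  · exfalso
    obtain ⟨X, hX⟩ := hne
    apply H.ne X (hC hX)
    rw [eq_bot_iff, ← h]
    exact le_sSup hX
  · exact h

/-- the blocks are permuted transitively -/
theorem trans (H : Sys G B) (hirr : Irr G) {X Y : Submodule (ZMod p) V} (hX : X ∈ B) (hY : Y ∈ B) :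
    ∃ g ∈ G, X.map (g : V →ₗ[ZMod p] V) = Y := by
  by_contra hcon
  push Not at hcon
  set C : Set (Submodule (ZMod p) V) := {Z | ∃ g ∈ G, X.map (g : V →ₗ[ZMod p] V) = Z} with hCdef
  have h1 : sSup C = ⊤ := by
    refine H.iSup_top hirr ?_ ⟨X, 1, G.one_mem, ?_⟩ ?_
    · rintro _ ⟨g, hg, rfl⟩
      exact H.perm g hg X hX
    · exact Submodule.map_id X
    · rintro g hg _ ⟨k, hk, rfl⟩
      refine ⟨g * k, G.mul_mem hg hk, ?_⟩
      rw [← Submodule.map_comp]
      rfl
  have h2 : Y ∉ C := fun ⟨g, hg, h⟩ => hcon g hg h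
  have h3 : C ⊆ B \ {Y} := by
    rintro Z hZ
    refine ⟨?_, fun h => h2 (h ▸ hZ)⟩
    obtain ⟨g, hg, rfl⟩ := hZ
    exact H.perm g hg X hX
  have h4 := H.ind hY
  have h5 : sSup (B \ {Y}) = ⊤ := by
    rw [eq_top_iff, ← h1]
    exact sSup_le_sSup h3
  rw [h5, disjoint_top] at h4
  exact H.ne Y hY h4

theorem card_block (H : Sys G B) (hirr : Irr G) {X Y : Submodule (ZMod p) V} (hX : X ∈ B) (hY : Y ∈ B) :
    Module.finrank (ZMod p) X = Module.finrank (ZMod p) Y := by
  obtain ⟨g, _, rfl⟩ := H.trans hirr hX hY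
  exact (LinearEquiv.finrank_map_eq g X).symm

theorem finrank_eq (H : Sys G B) (hirr : Irr G) {n : ℕ} (hn : ∀ X ∈ B, Module.finrank (ZMod p) X = n) :
    Module.finrank (ZMod p) V = B.ncard * n := by
  classical
  have hBf : B.Finite := Set.toFinite B
  have : Fintype B := hBf.fintype
  have h1 : iSupIndep (fun X : B => X.1) := (sSupIndep_iff B).1 H.ind
  have h2 : ⨆ X : B, X.1 = ⊤ := by
    rw [← sSup_eq_iSup']
    exact H.iSup_top hirr subset_rfl H.nt.nonempty H.perm
  have h3 := DirectSum.isInternal_submodule_of_iSupIndep_of_iSup_eq_top h1 h2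
  have e := LinearEquiv.ofBijective (DirectSum.coeLinearMap (fun X : B => X.1)) h3
  rw [← e.finrank_eq, Module.finrank_directSum]
  rw [Finset.sum_congr rfl (fun X _ => hn X.1 X.2), Finset.sum_const, Finset.card_univ, smul_eq_mul,
    ← Nat.card_eq_fintype_card, Nat.card_coe_set_eq]

/-- the union of the blocks -/
theorem card_union (H : Sys G B) {n : ℕ} (hn : ∀ X ∈ B, Module.finrank (ZMod p) X = n) :
    Nat.card {v : V | v ≠ 0 ∧ ∃ X ∈ B, v ∈ X} = B.ncard * (p ^ n - 1) := by
  classical
  have hBf : B.Finite := Set.toFinite B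
  have : Fintype B := hBf.fintype
  have huniq : ∀ X ∈ B, ∀ Y ∈ B, ∀ v ∈ X, v ∈ Y → v ≠ 0 → X = Y := by
    intro X hX Y hY v hvX hvY hv
    by_contra hne
    have h1 := H.ind.pairwiseDisjoint hX hY hne
    exact hv ((Submodule.disjoint_def.1 h1) v hvX hvY)
  let f : (Σ X : B, {v : X.1 // v ≠ 0}) → {v : V | v ≠ 0 ∧ ∃ X ∈ B, v ∈ X} := fun x =>
    ⟨x.2.1.1, fun h => x.2.2 (Subtype.ext h), x.1.1, x.1.2, x.2.1.2⟩
  have hf : Function.Bijective f := by
    constructor
    · rintro ⟨⟨X, hX⟩, ⟨⟨v, hvX⟩, hv⟩⟩ ⟨⟨Y, hY⟩, ⟨⟨w, hwY⟩, hw⟩⟩ heq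
      have h1 : v = w := congrArg Subtype.val heq
      subst h1
      have h2 : X = Y := huniq X hX Y hY v hvX hwY (fun h => hv (Subtype.ext h))
      subst h2
      rfl
    · rintro ⟨v, hv, X, hX, hvX⟩
      exact ⟨⟨⟨X, hX⟩, ⟨⟨v, hvX⟩, fun h => hv (congrArg Subtype.val h)⟩⟩, rfl⟩
  rw [← Nat.card_congr (Equiv.ofBijective f hf), Nat.card_sigma]
  have hc : ∀ X : B, Nat.card {v : X.1 // v ≠ 0} = p ^ n - 1 := by
    intro X
    have h1 : Nat.card X.1 = p ^ n := by rw [card_eq_pow (p := p), hn X.1 X.2]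
    have := Fintype.ofFinite X.1
    rw [Nat.card_eq_fintype_card, Fintype.card_subtype_compl, ← Nat.card_eq_fintype_card, h1]
    simp
  rw [Finset.sum_congr rfl (fun X _ => hc X), Finset.sum_const, Finset.card_univ, smul_eq_mul,
    ← Nat.card_eq_fintype_card, Nat.card_coe_set_eq]

/-- **Few one-dimensional blocks: soluble.** -/
theorem solvable_of_one (H : Sys G B) (hirr : Irr G) (hn : ∀ X ∈ B, Module.finrank (ZMod p) X = 1)
    (hB : B.ncard ≤ 4) : Group.IsSolvable G := by
  classical
  have hBf : B.Finite := Set.toFinite B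
  have : Fintype B := hBf.fintype
  let mv : G → B → B := fun g X => ⟨X.1.map (g.1 : V →ₗ[ZMod p] V), H.perm g.1 g.2 X.1 X.2⟩
  have mv_mul : ∀ (a b : G) (X : B), mv a (mv b X) = mv (a * b) X := by
    intro a b X
    apply Subtype.ext
    change (X.1.map (b.1 : V →ₗ[ZMod p] V)).map (a.1 : V →ₗ[ZMod p] V) = X.1.map ((a * b : G).1 : V →ₗ[ZMod p] V)
    rw [← Submodule.map_comp]; rfl
  have mv_one : ∀ X : B, mv 1 X = X := by
    intro X
    apply Subtype.ext
    exact Submodule.map_id X.1
  let f : G →* Equiv.Perm B :=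
    { toFun := fun g =>
        { toFun := mv g
          invFun := mv g⁻¹
          left_inv := fun X => by rw [mv_mul, inv_mul_cancel, mv_one]
          right_inv := fun X => by rw [mv_mul, mul_inv_cancel, mv_one] }
      map_one' := by ext1 X; exact mv_one X
      map_mul' := by intro a b; ext1 X; exact (mv_mul a b X).symm }
  have hker : Group.IsSolvable f.ker := by
    refine Group.isSolvable_of_comm ?_
    intro a b
    apply Subtype.ext
    apply Subtype.ext
    apply LinearEquiv.ext
    intro v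
    -- enough on the blocks
    have hblk : ∀ X ∈ B, ∀ x ∈ X, (a.1.1 * b.1.1) x = (b.1.1 * a.1.1) x := by
      intro X hX x hx
      have hs : ∀ c : f.ker, ∃ t : ZMod p, ∀ y ∈ X, c.1.1 y = t • y := by
        intro c
        have h1 : f c.1 = 1 := c.2
        have h2 := congrArg (fun e : Equiv.Perm B => (e ⟨X, hX⟩).1) h1
        have h3 : X.map (c.1.1 : V →ₗ[ZMod p] V) = X := h2
        obtain ⟨x₀, hx₀, hgen⟩ := finrank_eq_one_iff'.1 (hn X hX)
        have h4 : c.1.1 x₀.1 ∈ X := by
          have : c.1.1 x₀.1 ∈ X.map (c.1.1 : V →ₗ[ZMod p] V) := ⟨x₀.1, x₀.2, rfl⟩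
          rwa [h3] at this
        obtain ⟨t, ht⟩ := hgen ⟨_, h4⟩
        refine ⟨t, fun y hy => ?_⟩
        obtain ⟨s, hs⟩ := hgen ⟨y, hy⟩
        have e1 : y = s • x₀.1 := (congrArg Subtype.val hs).symm
        have e2 : c.1.1 x₀.1 = t • x₀.1 := (congrArg Subtype.val ht).symm
        rw [e1, map_smul, e2, smul_comm]
      obtain ⟨s, hs1⟩ := hs a
      obtain ⟨t, ht1⟩ := hs b
      change a.1.1 (b.1.1 x) = b.1.1 (a.1.1 x)
      rw [ht1 x hx, hs1 x hx, map_smul, map_smul, hs1 x hx, ht1 x hx, smul_comm]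
    have htop : sSup B = ⊤ := H.iSup_top hirr subset_rfl H.nt.nonempty H.perm
    have hv : v ∈ sSup B := by rw [htop]; trivial
    have hle : sSup B ≤ LinearMap.eqLocus ((a.1.1 * b.1.1 : V ≃ₗ[ZMod p] V) : V →ₗ[ZMod p] V)
        ((b.1.1 * a.1.1 : V ≃ₗ[ZMod p] V) : V →ₗ[ZMod p] V) := by
      refine sSup_le ?_
      intro X hX x hx
      exact hblk X hX x hx
    exact hle hv
  have hran : Group.IsSolvable f.range := by
    refine BpAlt.solvable_of_lt _ f.range rfl ?_
    have h1 : Nat.card f.range ≤ Nat.card (Equiv.Perm B) := Nat.card_le_card_of_injective _ f.range.subtype_injective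
    rw [Nat.card_perm, Nat.card_coe_set_eq] at h1
    have h2 : (B.ncard).factorial ≤ Nat.factorial 4 := Nat.factorial_le hB
    have h3 : Nat.factorial 4 = 24 := rfl
    omega
  refine Group.isSolvable_of_ker_le_range f.ker.subtype f.rangeRestrict ?_
  rw [Subgroup.range_subtype, MonoidHom.ker_rangeRestrict]

/-- **Imprimitive coprime half-transitive linear groups with `h ≥ 2` are soluble.** -/
theorem imp_false (H : Sys G B) (hHer : HerHyp.{u}) (hp2 : p ≠ 2) {h : ℕ} (hh : Half G h)
    (h2 : 2 ≤ h) (hG : ¬ p ∣ Nat.card G) (hirr : Irr G) (hins : ¬ Group.IsSolvable G) : False := by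
  classical
  obtain ⟨X, hX⟩ := H.nt.nonempty
  obtain ⟨n, hnX⟩ : ∃ n, Module.finrank (ZMod p) X = n := ⟨_, rfl⟩
  have hn : ∀ Y ∈ B, Module.finrank (ZMod p) Y = n := fun Y hY => by rw [H.card_block hirr hY hX, hnX]
  have hn1 : 1 ≤ n := by
    rw [← hnX]
    have : Nontrivial X := Submodule.nontrivial_iff_ne_bot.2 (H.ne X hX)
    exact Module.finrank_pos
  obtain ⟨x, hxX, hx0⟩ := Submodule.exists_mem_ne_zero_of_ne_bot (H.ne X hX)
  obtain ⟨m, hm, hm0⟩ := exists_m hh ⟨x, hx0⟩
  have hBf : B.Finite := Set.toFinite B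
  have hk2 : 2 ≤ B.ncard := Set.one_lt_ncard_iff_nontrivial.2 H.nt
  rcases Nat.lt_or_ge 2 B.ncard with hk | hk
  · -- at least three blocks
    have c1 : m ∣ B.ncard * (p ^ n - 1) := by
      rw [← H.card_union hn]
      refine dvd_invariant hh (by omega) hm _ (fun h => h.1 rfl) ?_
      rintro g hg v ⟨hv0, Y, hY, hvY⟩
      refine ⟨fun h => hv0 ((LinearEquiv.map_eq_zero_iff g).1 h), _, H.perm g hg Y hY, ⟨v, hvY, rfl⟩⟩
    have hV : Nat.card V = (p ^ n) ^ B.ncard := by
      rw [card_eq_pow (p := p), H.finrank_eq hirr hn, mul_comm, pow_mul]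
    have c2 : m ∣ (p ^ n) ^ B.ncard - 1 := by
      rw [← hV]
      exact dvd_card_sub_one hh (by omega) hm
    have c3 : (p ^ n) ^ B.ncard ≤ 2 * m ^ 2 := by
      rw [← hV]
      exact card_le hG hh h2 hm
    obtain ⟨rfl, hk4⟩ := num_k (Fact.out : p.Prime) hp2 hn1 hk c1 c2 c3
    exact hins (H.solvable_of_one hirr hn hk4)
  · -- two blocks
    have hk' : B.ncard = 2 := by omega
    obtain ⟨U, W, hUW, rfl⟩ := Set.ncard_eq_two.1 hk'
    have hUB : U ∈ ({U, W} : Set (Submodule (ZMod p) V)) := Or.inl rfl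
    have hWB : W ∈ ({U, W} : Set (Submodule (ZMod p) V)) := Or.inr rfl
    have hcompl : IsCompl U W := by
      refine ⟨H.ind.pairwiseDisjoint hUB hWB hUW, ?_⟩
      rw [codisjoint_iff]
      have := H.iSup_top hirr subset_rfl H.nt.nonempty H.perm
      rwa [sSup_pair] at this
    refine two_false hHer hp2 hh h2 hG hirr hins hcompl (H.ne U hUB) (H.ne W hWB) ?_ ?_
    · intro g hg
      have hinj : Function.Injective (Submodule.map (g : V →ₗ[ZMod p] V)) := Submodule.map_injective_of_injective g.injective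
      rcases H.perm g hg U hUB with h | h
      · left
        have h' : W.map (g : V →ₗ[ZMod p] V) = W := by
          rcases H.perm g hg W hWB with h'' | h''
          · exact absurd (hinj (h.trans h''.symm)) hUW
          · exact h''
        refine ⟨fun u hu => ?_, fun w hw => ?_⟩
        · rw [← h]; exact ⟨u, hu, rfl⟩
        · rw [← h']; exact ⟨w, hw, rfl⟩
      · right
        have hh' : U.map (g : V →ₗ[ZMod p] V) = W := h
        have h' : W.map (g : V →ₗ[ZMod p] V) = U := by
          rcases H.perm g hg W hWB with h'' | h''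
          · exact h''
          · exact absurd (hinj (hh'.trans (show W.map (g : V →ₗ[ZMod p] V) = W from h'').symm)) hUW
        refine ⟨fun u hu => ?_, fun w hw => ?_⟩
        · rw [← hh']; exact ⟨u, hu, rfl⟩
        · rw [← h']; exact ⟨w, hw, rfl⟩
    · obtain ⟨g, hg, hgU⟩ := H.trans hirr hUB hWB
      have hinj : Function.Injective (Submodule.map (g : V →ₗ[ZMod p] V)) := Submodule.map_injective_of_injective g.injective
      have h' : W.map (g : V →ₗ[ZMod p] V) = U := by
        rcases H.perm g hg W hWB with h'' | h''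
        · exact h''
        · exact absurd (hinj (hgU.trans (show W.map (g : V →ₗ[ZMod p] V) = W from h'').symm)) hUW
      refine ⟨g, hg, fun u hu => ?_, fun w hw => ?_⟩
      · rw [← hgU]; exact ⟨u, hu, rfl⟩
      · rw [← h']; exact ⟨w, hw, rfl⟩

end Sys

end Cfsg.Agent.H960.HT
end

-- part: H960/HT/Clif
section
prune_inst 0xf12023056d400200001c050060001cc7fb000100004b000028440f02078b1c42a5072e61f2e00c1208b20c4400340048131000300228000000000400400005a180801006a108a10020000f000000000000000000010000000000000000041000200000000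
set_option linter.all false
open scoped Cfsg.Agent.FastGrp

/-! Clifford's theorem for linear groups over `ZMod p` in the language of invariant subspaces. -/

set_option autoImplicit false
set_option linter.unusedSectionVars false

namespace Cfsg.Agent.H960.HT

open MulAction Cfsg.Agent.H828.HT Cfsg.Agent.PLocal.HHBClifford

universe u

variable {p : ℕ} [Fact p.Prime] {V : Type u} [AddCommGroup V] [Module (ZMod p) V]

/-- an irreducible `N`-submodule -/
structure NIrr (N : Subgroup (V ≃ₗ[ZMod p] V)) (M : Submodule (ZMod p) V) : Prop where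
  ne : M ≠ ⊥
  inv : ∀ n ∈ N, ∀ v ∈ M, n v ∈ M
  irr : ∀ W : Submodule (ZMod p) V, W ≤ M → (∀ n ∈ N, ∀ v ∈ W, n v ∈ W) → W = ⊥ ∨ W = M

/-- the enveloping algebra -/
def env (N : Subgroup (V ≃ₗ[ZMod p] V)) : Subalgebra (ZMod p) (Module.End (ZMod p) V) :=
  Algebra.adjoin (ZMod p) {a | ∃ n ∈ N, a = (n : V →ₗ[ZMod p] V)}

/-- invariant subspaces as modules over the enveloping algebra -/
def toE (N : Subgroup (V ≃ₗ[ZMod p] V)) (M : Submodule (ZMod p) V) (h : ∀ n ∈ N, ∀ v ∈ M, n v ∈ M) :
    Submodule (env N) V where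
  carrier := M
  add_mem' := M.add_mem
  zero_mem' := M.zero_mem
  smul_mem' := by
    rintro ⟨a, ha⟩ v hv
    change a v ∈ M
    have : ∀ v ∈ M, a v ∈ M := by
      refine Algebra.adjoin_induction (p := fun a _ => ∀ v ∈ M, a v ∈ M) ?_ ?_ ?_ ?_ ha
      · rintro _ ⟨n, hn, rfl⟩ v hv
        exact h n hn v hv
      · intro r v hv
        exact M.smul_mem r hv
      · intro x y _ _ hx hy v hv
        exact M.add_mem (hx v hv) (hy v hv)
      · intro x y _ _ hx hy v hv
        exact hx _ (hy v hv)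
    exact this v hv

@[simp] theorem mem_toE {N : Subgroup (V ≃ₗ[ZMod p] V)} {M : Submodule (ZMod p) V}
    {h : ∀ n ∈ N, ∀ v ∈ M, n v ∈ M} {v : V} : v ∈ toE N M h ↔ v ∈ M := Iff.rfl

/-- the underlying subspace -/
def toV {N : Subgroup (V ≃ₗ[ZMod p] V)} (M : Submodule (env N) V) : Submodule (ZMod p) V where
  carrier := M
  add_mem' := M.add_mem
  zero_mem' := M.zero_mem
  smul_mem' := by
    intro c v hv
    have := M.smul_mem (⟨algebraMap (ZMod p) _ c, (env N).algebraMap_mem c⟩ : env N) hv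
    exact this

@[simp] theorem mem_toV {N : Subgroup (V ≃ₗ[ZMod p] V)} {M : Submodule (env N) V} {v : V} :
    v ∈ toV M ↔ v ∈ M := Iff.rfl

theorem toV_inv {N : Subgroup (V ≃ₗ[ZMod p] V)} (M : Submodule (env N) V) :
    ∀ n ∈ N, ∀ v ∈ toV M, n v ∈ toV M := by
  intro n hn v hv
  exact M.smul_mem (⟨(n : V →ₗ[ZMod p] V), Algebra.subset_adjoin ⟨n, hn, rfl⟩⟩ : env N) hv

theorem toV_injective {N : Subgroup (V ≃ₗ[ZMod p] V)} : Function.Injective (toV (N := N)) := by
  intro M M' h
  ext v
  rw [← mem_toV, h, mem_toV]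

theorem toV_toE {N : Subgroup (V ≃ₗ[ZMod p] V)} (M : Submodule (ZMod p) V) (h : ∀ n ∈ N, ∀ v ∈ M, n v ∈ M) :
    toV (toE N M h) = M := by ext; rfl

theorem toV_mono {N : Subgroup (V ≃ₗ[ZMod p] V)} {M M' : Submodule (env N) V} (h : M ≤ M') : toV M ≤ toV M' :=
  fun _ hv => h hv

theorem simple_iff {N : Subgroup (V ≃ₗ[ZMod p] V)} (M : Submodule (env N) V) :
    IsSimpleModule (env N) M ↔ NIrr N (toV M) := by
  rw [isSimpleModule_iff_isAtom]
  constructor
  · intro h
    refine ⟨?_, toV_inv M, ?_⟩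
    · intro hb
      apply h.1
      rw [eq_bot_iff]
      intro v hv
      have : v ∈ toV M := hv
      rw [hb] at this
      exact this
    · intro W hW hinv
      have h1 : toE N W hinv ≤ M := fun v hv => hW hv
      rcases h.le_iff.1 h1 with h2 | h2
      · left
        rw [eq_bot_iff]
        intro v hv
        have : v ∈ toE N W hinv := hv
        rw [h2] at this
        exact this
      · right
        rw [← h2, toV_toE]
  · intro h
    refine ⟨?_, ?_⟩
    · rintro rfl
      apply h.ne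
      rw [eq_bot_iff]
      intro v hv
      exact hv
    · intro W hW
      rcases h.irr (toV W) (toV_mono hW.le) (toV_inv W) with h1 | h1
      · rw [eq_bot_iff]
        intro v hv
        have : v ∈ toV W := hv
        rw [h1] at this
        exact this
      · exact absurd (toV_injective h1) hW.ne

/-- a linear automorphism as a unit -/
def unitOf (g : V ≃ₗ[ZMod p] V) : (Module.End (ZMod p) V)ˣ :=
  (LinearMap.GeneralLinearGroup.generalLinearEquiv (ZMod p) V).symm g

theorem unitOf_inv_apply (g : V ≃ₗ[ZMod p] V) (v : V) :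
    (((unitOf g)⁻¹ : (Module.End (ZMod p) V)ˣ) : Module.End (ZMod p) V) v = g⁻¹ v := rfl

theorem nrm_of {N : Subgroup (V ≃ₗ[ZMod p] V)} {g : V ≃ₗ[ZMod p] V} (h1 : ∀ n ∈ N, g * n * g⁻¹ ∈ N)
    (h2 : ∀ n ∈ N, g⁻¹ * n * g ∈ N) : Nrm (env N) (unitOf g) := by
  have key : ∀ k : V ≃ₗ[ZMod p] V, (∀ n ∈ N, k * n * k⁻¹ ∈ N) → ∀ a ∈ env N,
      (unitOf k : Module.End (ZMod p) V) * a * (((unitOf k)⁻¹ : (Module.End (ZMod p) V)ˣ) : Module.End (ZMod p) V) ∈ env N := by
    intro k hk a ha
    refine Algebra.adjoin_induction (p := fun a _ => (unitOf k : Module.End (ZMod p) V) * a *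
      (((unitOf k)⁻¹ : (Module.End (ZMod p) V)ˣ) : Module.End (ZMod p) V) ∈ env N) ?_ ?_ ?_ ?_ ha
    · rintro _ ⟨n, hn, rfl⟩
      refine Algebra.subset_adjoin ⟨k * n * k⁻¹, hk n hn, ?_⟩
      rfl
    · intro r
      rw [← Algebra.commutes, mul_assoc, Units.mul_inv, mul_one]
      exact (env N).algebraMap_mem r
    · intro x y _ _ hx hy
      rw [mul_add, add_mul]
      exact (env N).add_mem hx hy
    · intro x y _ _ hx hy
      have : (unitOf k : Module.End (ZMod p) V) * (x * y) * (((unitOf k)⁻¹ : (Module.End (ZMod p) V)ˣ) : Module.End (ZMod p) V) =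
          ((unitOf k : Module.End (ZMod p) V) * x * (((unitOf k)⁻¹ : (Module.End (ZMod p) V)ˣ) : Module.End (ZMod p) V)) *
          ((unitOf k : Module.End (ZMod p) V) * y * (((unitOf k)⁻¹ : (Module.End (ZMod p) V)ˣ) : Module.End (ZMod p) V)) := by
        simp only [mul_assoc, Units.inv_mul_cancel_left]
      rw [this]
      exact (env N).mul_mem hx hy
  refine ⟨key g h1, ?_⟩
  intro a ha
  have := key g⁻¹ (by intro n hn; rw [inv_inv]; exact h2 n hn) a ha
  exact this

variable [Finite V] {G N : Subgroup (V ≃ₗ[ZMod p] V)}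

theorem exists_nirr (N : Subgroup (V ≃ₗ[ZMod p] V)) {W : Submodule (ZMod p) V} (hW : W ≠ ⊥)
    (hinv : ∀ n ∈ N, ∀ v ∈ W, n v ∈ W) : ∃ M ≤ W, NIrr N M := by
  classical
  have hfin : Finite (Submodule (ZMod p) V) := Finite.of_injective (fun W : Submodule (ZMod p) V => (W : Set V)) SetLike.coe_injective
  have hwf : WellFounded ((· < ·) : Submodule (ZMod p) V → Submodule (ZMod p) V → Prop) := Finite.to_wellFoundedLT.wf
  obtain ⟨M, ⟨hM1, hM2, hM3⟩, hmin⟩ := hwf.has_min {M : Submodule (ZMod p) V | M ≤ W ∧ M ≠ ⊥ ∧ ∀ n ∈ N, ∀ v ∈ M, n v ∈ M}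
    ⟨W, le_refl _, hW, hinv⟩
  refine ⟨M, hM1, hM2, hM3, ?_⟩
  intro X hX hXinv
  by_cases hX0 : X = ⊥
  · exact Or.inl hX0
  · right
    by_contra hne
    exact hmin X ⟨hX.trans hM1, hX0, hXinv⟩ (lt_of_le_of_ne hX hne)

theorem nirr_map (hN : ∀ g ∈ G, ∀ n ∈ N, g * n * g⁻¹ ∈ N) {g : V ≃ₗ[ZMod p] V} (hg : g ∈ G)
    {M : Submodule (ZMod p) V} (hM : NIrr N M) : NIrr N (M.map (g : V →ₗ[ZMod p] V)) := by
  have key : ∀ k ∈ G, ∀ X : Submodule (ZMod p) V, (∀ n ∈ N, ∀ v ∈ X, n v ∈ X) →
      ∀ n ∈ N, ∀ v ∈ X.map (k : V →ₗ[ZMod p] V), n v ∈ X.map (k : V →ₗ[ZMod p] V) := by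
    rintro k hk X hX n hn _ ⟨w, hw, rfl⟩
    have h1 := hN k⁻¹ (G.inv_mem hk) n hn
    refine ⟨(k⁻¹ * n * k⁻¹⁻¹) w, hX _ h1 w hw, ?_⟩
    change (k * (k⁻¹ * n * k⁻¹⁻¹)) w = n (k w)
    rw [inv_inv, ← mul_assoc, mul_inv_cancel_left]
    rfl
  have hcomp : ∀ X : Submodule (ZMod p) V, (X.map ((g⁻¹ : V ≃ₗ[ZMod p] V) : V →ₗ[ZMod p] V)).map (g : V →ₗ[ZMod p] V) = X := by
    intro X
    rw [← Submodule.map_comp]
    have : ((g : V →ₗ[ZMod p] V)).comp ((g⁻¹ : V ≃ₗ[ZMod p] V) : V →ₗ[ZMod p] V) = LinearMap.id := by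
      ext v
      change (g * g⁻¹) v = v
      rw [mul_inv_cancel]; rfl
    rw [this, Submodule.map_id]
  refine ⟨?_, key g hg M hM.inv, ?_⟩
  · intro hb
    apply hM.ne
    rw [eq_bot_iff]
    intro v hv
    have : g v ∈ M.map (g : V →ₗ[ZMod p] V) := ⟨v, hv, rfl⟩
    rw [hb, Submodule.mem_bot] at this
    exact (LinearEquiv.map_eq_zero_iff g).1 this
  · intro W hW hinv
    have h1 : W.map ((g⁻¹ : V ≃ₗ[ZMod p] V) : V →ₗ[ZMod p] V) ≤ M := by
      rintro _ ⟨w, hw, rfl⟩
      obtain ⟨v, hv, rfl⟩ := hW hw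
      change (g⁻¹ * g) v ∈ M
      rw [inv_mul_cancel]; exact hv
    rcases hM.irr _ h1 (key g⁻¹ (G.inv_mem hg) W hinv) with h | h
    · left
      rw [← hcomp W, h, Submodule.map_bot]
    · right
      rw [← hcomp W, h]

/-- the irreducible `N`-submodules span -/
theorem sSup_nirr (hirr : Irr G) (hN : ∀ g ∈ G, ∀ n ∈ N, g * n * g⁻¹ ∈ N) [Nontrivial V] :
    sSup {M : Submodule (ZMod p) V | NIrr N M} = ⊤ := by
  obtain ⟨M, -, hM⟩ := exists_nirr N (W := ⊤) top_ne_bot (fun _ _ _ _ => trivial)
  rcases hirr (sSup {M : Submodule (ZMod p) V | NIrr N M}) (by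
    intro g hg v hv
    have h1 : (sSup {M : Submodule (ZMod p) V | NIrr N M}).map (g : V →ₗ[ZMod p] V) ≤
        sSup {M : Submodule (ZMod p) V | NIrr N M} := by
      rw [sSup_eq_iSup, Submodule.map_iSup]
      refine iSup_le fun X => ?_
      rw [Submodule.map_iSup]
      refine iSup_le fun hX => ?_
      rw [← sSup_eq_iSup]
      exact le_sSup (nirr_map hN hg hX)
    exact h1 ⟨v, hv, rfl⟩) with h | h
  · exfalso
    apply hM.ne
    rw [eq_bot_iff, ← h]
    exact le_sSup hM
  · exact h

/-- `V|_N` is homogeneous -/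
def Homog (N : Subgroup (V ≃ₗ[ZMod p] V)) : Prop :=
  ∀ M M' : Submodule (ZMod p) V, NIrr N M → NIrr N M' →
    ∃ e : M ≃ₗ[ZMod p] M', ∀ n ∈ N, ∀ v w : M, (w : V) = n v → (e w : V) = n (e v)

/-- **Clifford's theorem.** -/
theorem clifford (_hirr : Irr G) (hN : ∀ g ∈ G, ∀ n ∈ N, g * n * g⁻¹ ∈ N) [Nontrivial V] :
    Homog N ∨ ∃ B, Sys G B := by
  classical
  by_cases hsub : (isotypicComponents (env N) V).Subsingleton
  · left
    intro M M' hM hM'
    have hs : IsSimpleModule (env N) (toE N M hM.inv) := by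
      rw [simple_iff, toV_toE]; exact hM
    have hs' : IsSimpleModule (env N) (toE N M' hM'.inv) := by
      rw [simple_iff, toV_toE]; exact hM'
    have h1 : isotypicComponent (env N) V (toE N M hM.inv) ∈ isotypicComponents (env N) V := ⟨_, hs, rfl⟩
    have h2 : isotypicComponent (env N) V (toE N M' hM'.inv) ∈ isotypicComponents (env N) V := ⟨_, hs', rfl⟩
    have h3 := hsub h1 h2
    have h4 : toE N M hM.inv ≤ isotypicComponent (env N) V (toE N M' hM'.inv) := by
      rw [← h3]; exact Submodule.le_isotypicComponent _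
    obtain ⟨e⟩ := isIsotypicOfType_submodule_iff.mp (.isotypicComponent (env N) V (toE N M' hM'.inv)) _ h4
    let e' : M ≃ₗ[ZMod p] M' :=
      { toFun := fun v => ⟨(e ⟨v.1, v.2⟩).1, (e ⟨v.1, v.2⟩).2⟩
        invFun := fun v => ⟨(e.symm ⟨v.1, v.2⟩).1, (e.symm ⟨v.1, v.2⟩).2⟩
        left_inv := by
          intro v
          apply Subtype.ext
          change (e.symm (e ⟨v.1, v.2⟩)).1 = v.1
          rw [e.symm_apply_apply]
        right_inv := by
          intro v
          apply Subtype.ext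
          change (e (e.symm ⟨v.1, v.2⟩)).1 = v.1
          rw [e.apply_symm_apply]
        map_add' := by
          intro v w
          apply Subtype.ext
          exact congrArg Subtype.val (map_add e ⟨v.1, v.2⟩ ⟨w.1, w.2⟩)
        map_smul' := by
          intro c v
          apply Subtype.ext
          exact congrArg Subtype.val
            (e.map_smul (⟨algebraMap (ZMod p) _ c, (env N).algebraMap_mem c⟩ : env N) ⟨v.1, v.2⟩) }
    refine ⟨e', ?_⟩
    intro n hn v w hw
    have h5 := e.map_smul (⟨(n : V →ₗ[ZMod p] V), Algebra.subset_adjoin ⟨n, hn, rfl⟩⟩ : env N) ⟨v.1, v.2⟩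
    have h6 := congrArg Subtype.val h5
    refine Eq.trans ?_ h6
    change (e ⟨w.1, w.2⟩).1 = _
    congr 2
    exact Subtype.ext hw
  · right
    rw [Set.not_subsingleton_iff] at hsub
    refine ⟨toV '' isotypicComponents (env N) V, ?_, ?_, ?_, hsub.image toV_injective⟩
    · rintro _ ⟨c, hc, rfl⟩ hb
      apply (bot_lt_isotypicComponents hc).ne'
      rw [eq_bot_iff]
      intro v hv
      have : v ∈ toV c := hv
      rw [hb] at this
      exact this
    · rintro _ ⟨c, hc, rfl⟩
      have h1 := sSupIndep_isotypicComponents (R := env N) (M := V) hc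
      have h2 : sSup (toV '' isotypicComponents (env N) V \ {toV c}) ≤
          toV (sSup (isotypicComponents (env N) V \ {c})) := by
        refine sSup_le ?_
        rintro _ ⟨⟨d, hd, rfl⟩, hne⟩
        refine toV_mono (le_sSup ⟨hd, fun h => hne ?_⟩)
        rw [h]; rfl
      refine Disjoint.mono_right h2 ?_
      rw [Submodule.disjoint_def]
      intro v hv hv'
      exact (Submodule.disjoint_def.1 h1) v hv hv'
    · rintro g hg _ ⟨c, ⟨S, hS, rfl⟩, rfl⟩
      have hnrm : Nrm (env N) (unitOf g) := nrm_of (hN g hg) (by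
        intro n hn
        have := hN g⁻¹ (G.inv_mem hg) n hn
        rwa [inv_inv] at this)
      refine ⟨tw hnrm (isotypicComponent (env N) V S), ⟨tw hnrm S, isSimple_tw hnrm hS, tw_isotypicComponent hnrm S⟩, ?_⟩
      ext v
      rw [mem_toV, mem_tw, Submodule.mem_map]
      constructor
      · intro h
        refine ⟨g⁻¹ v, h, ?_⟩
        change (g * g⁻¹) v = v
        rw [mul_inv_cancel]; rfl
      · rintro ⟨w, hw, rfl⟩
        have : (((unitOf g)⁻¹ : (Module.End (ZMod p) V)ˣ) : Module.End (ZMod p) V) (g w) = w := by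
          rw [unitOf_inv_apply]
          change (g⁻¹ * g) w = w
          rw [inv_mul_cancel]; rfl
        change _ ∈ isotypicComponent (env N) V S
        exact this.symm ▸ hw

/-- in the homogeneous case `N` is faithful on every irreducible submodule -/
theorem Homog.faithful (hH : Homog N) (hirr : Irr G) (hN : ∀ g ∈ G, ∀ n ∈ N, g * n * g⁻¹ ∈ N) [Nontrivial V]
    {M : Submodule (ZMod p) V} (hM : NIrr N M) {n : V ≃ₗ[ZMod p] V} (hn : n ∈ N) (h : ∀ v ∈ M, n v = v) :
    n = 1 := by
  have h1 : ∀ M' : Submodule (ZMod p) V, NIrr N M' → ∀ v ∈ M', n v = v := by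
    intro M' hM' v hv
    obtain ⟨e, he⟩ := hH M' M hM' hM
    have h2 := he n hn ⟨v, hv⟩ ⟨n v, hM'.inv n hn v hv⟩ rfl
    rw [h _ (e ⟨v, hv⟩).2] at h2
    have h3 := e.injective (Subtype.ext h2)
    exact congrArg Subtype.val h3
  have h2 : (⊤ : Submodule (ZMod p) V) ≤ LinearMap.eqLocus (n : V →ₗ[ZMod p] V) LinearMap.id := by
    rw [← sSup_nirr hirr hN]
    exact sSup_le (fun M' hM' v hv => h1 M' hM' v hv)
  apply LinearEquiv.ext
  intro v
  exact h2 (Submodule.mem_top (x := v))

/-- Maschke: an invariant complement -/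
theorem exists_compl (hG : ¬ p ∣ Nat.card G) {W : Submodule (ZMod p) V} (hW : ∀ g ∈ G, ∀ v ∈ W, g v ∈ W) :
    ∃ K : Submodule (ZMod p) V, IsCompl W K ∧ ∀ g ∈ G, ∀ v ∈ K, g v ∈ K := by
  classical
  obtain ⟨f, hf1, hf2⟩ : ∃ f : V →ₗ[ZMod p] V, (∀ v, f v ∈ W) ∧ (∀ v ∈ W, f v = v) := by
    obtain ⟨q, hq⟩ := Submodule.exists_isCompl W
    refine ⟨W.subtype.comp (Submodule.projectionOnto W q hq), fun v => ?_, fun v hv => ?_⟩
    · exact (Submodule.projectionOnto W q hq v).2
    · change ((Submodule.projectionOnto W q hq v : W) : V) = v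
      rw [show v = ((⟨v, hv⟩ : W) : V) from rfl, Submodule.projectionOnto_apply_left]
  let F : V →ₗ[ZMod p] V := ∑ g : G, ((g.1 : V →ₗ[ZMod p] V)).comp (f.comp ((g⁻¹ : G).1 : V →ₗ[ZMod p] V))
  have hFv : ∀ v, F v = ∑ g : G, g.1 (f ((g⁻¹ : G).1 v)) := by
    intro v
    simp only [F, LinearMap.sum_apply]
    rfl
  have hF1 : ∀ v, F v ∈ W := by
    intro v
    rw [hFv]
    exact W.sum_mem (fun g _ => hW g.1 g.2 _ (hf1 _))
  have hF2 : ∀ v ∈ W, F v = (Nat.card G : ZMod p) • v := by
    intro v hv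
    rw [hFv]
    have : ∀ g : G, g.1 (f ((g⁻¹ : G).1 v)) = v := by
      intro g
      rw [hf2 _ (hW _ (g⁻¹).2 v hv)]
      change (g * g⁻¹ : G).1 v = v
      rw [mul_inv_cancel]; rfl
    rw [Finset.sum_congr rfl (fun g _ => this g), Finset.sum_const, Finset.card_univ,
      Nat.card_eq_fintype_card, Nat.cast_smul_eq_nsmul]
  have hF3 : ∀ k : G, ∀ v, F (k.1 v) = k.1 (F v) := by
    intro k v
    rw [hFv, hFv, map_sum]
    refine Fintype.sum_equiv (Equiv.mulLeft k⁻¹) _ _ ?_
    intro g
    change g.1 (f ((g⁻¹ : G).1 (k.1 v))) = k.1 ((k⁻¹ * g : G).1 (f (((k⁻¹ * g)⁻¹ : G).1 v)))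
    have e1 : ((k⁻¹ * g)⁻¹ : G) = g⁻¹ * k := by group
    have e2 : ∀ w, k.1 ((k⁻¹ * g : G).1 w) = g.1 w := by
      intro w
      change (k * (k⁻¹ * g) : G).1 w = g.1 w
      rw [mul_inv_cancel_left]
    rw [e2, e1]
    rfl
  have hc0 : (Nat.card G : ZMod p) ≠ 0 := by
    rwa [Ne, ZMod.natCast_eq_zero_iff]
  refine ⟨LinearMap.ker F, ⟨?_, ?_⟩, ?_⟩
  · rw [Submodule.disjoint_def]
    intro v hv hv'
    rw [LinearMap.mem_ker, hF2 v hv] at hv'
    exact (smul_eq_zero.1 hv').resolve_left hc0
  · rw [codisjoint_iff, eq_top_iff]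
    intro v _
    refine Submodule.mem_sup.2 ⟨(Nat.card G : ZMod p)⁻¹ • F v, W.smul_mem _ (hF1 v),
      v - (Nat.card G : ZMod p)⁻¹ • F v, ?_, by abel⟩
    rw [LinearMap.mem_ker, map_sub, map_smul, hF2 _ (hF1 v), smul_smul, inv_mul_cancel₀ hc0, one_smul, sub_self]
  · intro g hg v hv
    rw [LinearMap.mem_ker] at hv ⊢
    rw [hF3 ⟨g, hg⟩ v, hv, map_zero]

/-- **Reducible coprime half-transitive groups are semiregular.** -/
theorem irr_of_half (hG : ¬ p ∣ Nat.card G) {h : ℕ} (hh : Half G h) (h2 : 2 ≤ h) : Irr G := by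
  classical
  intro W hW
  by_contra hcon
  push Not at hcon
  obtain ⟨hb, ht⟩ := hcon
  obtain ⟨K, hK, hKinv⟩ := exists_compl hG hW
  have hKb : K ≠ ⊥ := by
    rintro rfl
    exact ht (by simpa using hK.sup_eq_top)
  obtain ⟨w₀, hw₀, hw₀0⟩ := Submodule.exists_mem_ne_zero_of_ne_bot hb
  obtain ⟨k₀, hk₀, hk₀0⟩ := Submodule.exists_mem_ne_zero_of_ne_bot hKb
  have hdis : ∀ x, x ∈ W → x ∈ K → x = 0 := Submodule.disjoint_def.1 hK.disjoint
  have key : ∀ w ∈ W, w ≠ 0 → ∀ k ∈ K, k ≠ 0 → stabilizer G w = stabilizer G k := by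
    intro w hw hw0 k hk hk0
    have hs : w + k ≠ 0 := by
      intro h
      have : w ∈ K := by
        rw [eq_neg_of_add_eq_zero_left h]
        exact K.neg_mem hk
      exact hw0 (hdis w hw this)
    have hsub : ∀ g : G, g • (w + k) = w + k → g • w = w ∧ g • k = k := by
      intro g hg
      rw [smul_add] at hg
      have h1 : g • w - w = k - g • k := by rw [sub_eq_sub_iff_add_eq_add, hg, add_comm]
      have h2 : g • w - w ∈ W := W.sub_mem (hW g.1 g.2 w hw) hw
      have h3 : g • w - w ∈ K := by rw [h1]; exact K.sub_mem hk (hKinv g.1 g.2 k hk)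
      have h4 := hdis _ h2 h3
      refine ⟨sub_eq_zero.1 h4, ?_⟩
      rw [h4] at h1
      exact (sub_eq_zero.1 h1.symm).symm
    have e1 : stabilizer G (w + k) = stabilizer G w := by
      apply Subgroup.eq_of_le_of_card_ge
      · intro g hg; exact (hsub g hg).1
      · rw [hh _ hs, hh _ hw0]
    have e2 : stabilizer G (w + k) = stabilizer G k := by
      apply Subgroup.eq_of_le_of_card_ge
      · intro g hg; exact (hsub g hg).2
      · rw [hh _ hs, hh _ hk0]
    rw [← e1, e2]
  have hone : stabilizer G w₀ = ⊥ := by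
    rw [eq_bot_iff]
    intro g hg
    rw [Subgroup.mem_bot]
    have hk : ∀ k ∈ K, g • k = k := by
      intro k hk
      by_cases hk0 : k = 0
      · rw [hk0, smul_zero]
      · have : g ∈ stabilizer G k := by rw [← key w₀ hw₀ hw₀0 k hk hk0]; exact hg
        exact this
    have hw : ∀ w ∈ W, g • w = w := by
      intro w hw
      by_cases hw0 : w = 0
      · rw [hw0, smul_zero]
      · have : g ∈ stabilizer G w := by
          rw [key w hw hw0 k₀ hk₀ hk₀0, ← key w₀ hw₀ hw₀0 k₀ hk₀ hk₀0]; exact hg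
        exact this
    apply Subtype.ext
    apply LinearEquiv.ext
    intro v
    have hv : v ∈ W ⊔ K := by rw [hK.sup_eq_top]; trivial
    obtain ⟨w, hw', k, hk', rfl⟩ := Submodule.mem_sup.1 hv
    change g • (w + k) = w + k
    rw [smul_add, hw w hw', hk k hk']
  have := hh w₀ hw₀0
  rw [hone, Subgroup.card_bot] at this
  omega

end Cfsg.Agent.H960.HT
end

-- part: H337/HT/QS
section
set_option linter.all false

/-!
# S3540, quasisimple rows: the setting

`QS p K V G L h`: `G` is a half-transitive `p'`-group of `𝔽_p`-linear maps of `V` with stabilisers of order `h ≥ 2`,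
`L ⊴ G` is quasisimple, acts irreducibly on `V` over `𝔽_p`, and the field `K` is the centraliser of `L` in
`End_{𝔽_p}(V)`.  The goal of the quasisimple part is `Module.finrank K V = 2`.
-/

set_option autoImplicit false

universe u w

namespace Cfsg.Agent.H337.HT

open Cfsg.Agent.H828.HT

/-- the setting of the quasisimple rows -/
structure QS (p : ℕ) [Fact p.Prime] (K : Type w) [Field K] (V : Type u) [AddCommGroup V] [Module (ZMod p) V]
    [Module K V] (G L : Subgroup (V ≃ₗ[ZMod p] V)) (h : ℕ) : Prop where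
  half : Half G h
  two_le : 2 ≤ h
  cop : ¬ p ∣ Nat.card G
  le : L ≤ G
  nrm : ∀ g ∈ G, ∀ l ∈ L, g * l * g⁻¹ ∈ L
  perf : commutator L = ⊤
  simple : IsSimpleGroup (L ⧸ Subgroup.center L)
  nonab : ∃ a ∈ L, ∃ b ∈ L, a * b ≠ b * a
  lin : ∀ l ∈ L, ∀ (c : K) (v : V), l (c • v) = c • l v
  endo : ∀ f : V →ₗ[ZMod p] V, (∀ l ∈ L, ∀ v, f (l v) = l (f v)) → ∃ c : K, ∀ v, f v = c • v
  irr : ∀ W : Submodule (ZMod p) V, (∀ l ∈ L, ∀ v ∈ W, l v ∈ W) → W = ⊥ ∨ W = ⊤

end Cfsg.Agent.H337.HT
end

-- part: H960/HT/Asm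
section
prune_inst 0xf02061050c000200001c000040000085390000000040000048240e00020000420501204108000410080288000000002810cc00300000000000000000000004018000420403400104040009000000000000000000000000000000000000000000200000000
set_option linter.all false
open scoped Cfsg.Agent.FastGrp

-- part: H960/HT/Five
section
/-! `SL(2,5)` as a normal subgroup: perfect subgroups; semiregular linear groups as fixed-point-free groups. -/

set_option autoImplicit false
set_option linter.unusedSectionVars false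

namespace Cfsg.Agent.H960.HT

open MulAction Cfsg.Agent.H828.HT Cfsg.Agent.PermutationGroups.AutSL25
open scoped commutatorElement

universe u

/-- a diagonal matrix -/
def D5 : SL25 := ⟨!![2, 0; 0, 3], by decide⟩

theorem sl_perfect : commutator SL25 = ⊤ := by
  have hT : T ∈ commutator SL25 := by
    have h1 : ⁅D5, T⁆ ∈ commutator SL25 :=
      Subgroup.commutator_mem_commutator (Subgroup.mem_top _) (Subgroup.mem_top _)
    have h2 : ⁅D5, T⁆ * ⁅D5, T⁆ = T := by
      decide +kernel
    rw [← h2]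
    exact (commutator SL25).mul_mem h1 h1
  have hS : S ∈ commutator SL25 := by
    have h1 : T⁻¹ * (S * T⁻¹ * S⁻¹) * T⁻¹ = S := by decide +kernel
    rw [← h1]
    have h2 := (commutator SL25).inv_mem hT
    have h3 : (commutator SL25).Normal := inferInstance
    exact (commutator SL25).mul_mem ((commutator SL25).mul_mem h2 (h3.conj_mem _ h2 _)) h2
  rw [eq_top_iff, ← closure_eq_top, Subgroup.closure_le]
  rintro x (rfl | rfl)
  · exact hS
  · exact hT

theorem not_solvable_of_perfect {G : Type*} [Group G] {X : Subgroup G} (hX : ⁅X, X⁆ = X) (hne : X ≠ ⊥) :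
    ¬ Group.IsSolvable X := by
  intro hs
  have h1 := Subgroup.map_subtype_commutator X
  have h2 : commutator X = ⊤ := by
    apply Subgroup.map_injective X.subtype_injective
    rw [h1, hX, ← MonoidHom.range_eq_map, Subgroup.range_subtype]
  have h3 : Nontrivial X := (Subgroup.nontrivial_iff_ne_bot X).2 hne
  exact (Group.IsSolvable.commutator_lt_top_of_nontrivial X).ne h2

theorem perfect_eq_top {X : Subgroup SL25} (hX : ⁅X, X⁆ = X) (hne : X ≠ ⊥) : X = ⊤ := by
  have h1 := not_solvable_of_perfect hX hne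
  have h60 : 60 ≤ Nat.card X := by
    by_contra hlt
    push Not at hlt
    exact h1 (BpAlt.solvable_of_lt _ X rfl hlt)
  have h2 := Subgroup.card_mul_index X
  rw [natCard] at h2
  have h3 : X.index ≤ 2 := by
    by_contra h
    push Not at h
    nlinarith
  have h4 : X.index ≠ 0 := Subgroup.index_ne_zero_of_finite
  rcases (show X.index = 1 ∨ X.index = 2 by omega) with h5 | h5
  · exact Subgroup.index_eq_one.1 h5
  · exfalso
    have hn : X.Normal := Subgroup.normal_of_index_eq_two h5
    have hle : commutator SL25 ≤ X := by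
      have : IsCyclic (SL25 ⧸ X) := by
        have : Nat.card (SL25 ⧸ X) = 2 := h5
        have : Fact (Nat.Prime 2) := ⟨Nat.prime_two⟩
        exact isCyclic_of_prime_card (p := 2) (by assumption)
      have hcomm : ∀ a b : SL25 ⧸ X, a * b = b * a := fun a b => by
        let _ := IsCyclic.commGroup (α := SL25 ⧸ X)
        exact mul_comm a b
      rw [commutator_def, Subgroup.commutator_le]
      intro a _ b _
      rw [← QuotientGroup.eq_one_iff, commutatorElement_def]
      change (a : SL25 ⧸ X) * (b : SL25 ⧸ X) * (a : SL25 ⧸ X)⁻¹ * (b : SL25 ⧸ X)⁻¹ = 1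
      rw [hcomm a b]
      group
    rw [sl_perfect, top_le_iff] at hle
    rw [hle, Subgroup.index_top] at h5
    omega

theorem index_le_two {G : Type*} [Group G] [Finite G] (L : Subgroup G) [L.Normal] (e : L ≃* SL25) :
    (L ⊔ Subgroup.centralizer (L : Set G)).index = 1 ∨ (L ⊔ Subgroup.centralizer (L : Set G)).index = 2 := by
  set C := Subgroup.centralizer (L : Set G) with hC
  have hCn : C.Normal := inferInstance
  have hLcard : Nat.card L = 120 := by rw [Nat.card_congr e.toEquiv, natCard]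
  have hCL : Nat.card (C ⊓ L : Subgroup G) = 2 := by
    have h1 : (C ⊓ L : Subgroup G) = (Subgroup.center L).map L.subtype := by
      ext x
      rw [Subgroup.mem_inf, hC, Subgroup.mem_centralizer_iff]
      constructor
      · rintro ⟨h1, h2⟩
        refine ⟨⟨x, h2⟩, ?_, rfl⟩
        rw [SetLike.mem_coe, Subgroup.mem_center_iff]
        rintro ⟨y, hy⟩
        exact Subtype.ext (h1 y hy)
      · rintro ⟨⟨y, hy⟩, hz, rfl⟩
        rw [SetLike.mem_coe, Subgroup.mem_center_iff] at hz
        exact ⟨fun w hw => congrArg Subtype.val (hz ⟨w, hw⟩), hy⟩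
    rw [h1, Subgroup.card_map_of_injective L.subtype_injective]
    rw [← card_center]
    exact Nat.card_congr (Subgroup.centerCongr e).toEquiv
  have hindex : (L ⊔ C).index * 60 = C.index := by
    have h1 := Subgroup.relIndex_mul_index (H := C) (K := L ⊔ C) le_sup_right
    have h2 : C.relIndex (L ⊔ C) = 60 := by
      rw [Subgroup.relIndex_sup_right]
      have h3 := Subgroup.relIndex_mul_relIndex (⊥ : Subgroup G) (C ⊓ L) L bot_le inf_le_right
      rw [Subgroup.relIndex_bot_left, Subgroup.relIndex_bot_left, hCL, hLcard,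
        Subgroup.inf_relIndex_right] at h3
      omega
    rw [← h1, h2, mul_comm]
  have h1 : C.index ≤ 120 := by
    have h2 := Subgroup.index_ker (MulAut.conjNormal : G →* MulAut L)
    rw [H348.ker_conjNormal L, ← hC] at h2
    rw [h2]
    have : Finite (MulAut L) := inferInstance
    refine (Nat.card_le_card_of_injective _
      (Subgroup.subtype_injective (MulAut.conjNormal : G →* MulAut L).range)).trans ?_
    have h3 : Nat.card (MulAut L) = Nat.card (MulAut SL25) :=
      Nat.card_congr (MulAut.congr e).toEquiv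
    rw [h3]
    exact card_mulAut_le
  have h2 : (L ⊔ C).index ≠ 0 := Subgroup.index_ne_zero_of_finite
  omega

/-- A perfect subgroup of a group with a normal `SL(2,5)` whose centraliser is commutative is inside it. -/
theorem perfect_le {G : Type*} [Group G] [Finite G] (L : Subgroup G) [L.Normal] (e : L ≃* SL25)
    (hC : ∀ a ∈ Subgroup.centralizer (L : Set G), ∀ b ∈ Subgroup.centralizer (L : Set G), a * b = b * a)
    {X : Subgroup G} (hX : ⁅X, X⁆ = X) : X ≤ L := by
  set C := Subgroup.centralizer (L : Set G) with hCdef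
  have hn : (L ⊔ C).Normal := inferInstance
  have hcyc : ∀ a b : G ⧸ (L ⊔ C), a * b = b * a := by
    have : IsCyclic (G ⧸ (L ⊔ C)) := by
      rcases index_le_two L e with h | h
      · have h' : Nat.card (G ⧸ (L ⊔ C)) = 1 := h
        have := (Nat.card_eq_one_iff_unique.1 h').1
        exact isCyclic_of_subsingleton
      · have h' : Nat.card (G ⧸ (L ⊔ C)) = 2 := h
        have : Fact (Nat.Prime 2) := ⟨Nat.prime_two⟩
        exact isCyclic_of_prime_card (p := 2) h'
    intro a b
    let _ := IsCyclic.commGroup (α := G ⧸ (L ⊔ C))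
    exact mul_comm a b
  have h1 : X ≤ L ⊔ C := by
    rw [← hX, Subgroup.commutator_le]
    intro a _ b _
    rw [← QuotientGroup.eq_one_iff, commutatorElement_def]
    change (a : G ⧸ (L ⊔ C)) * (b : G ⧸ (L ⊔ C)) * (a : G ⧸ (L ⊔ C))⁻¹ * (b : G ⧸ (L ⊔ C))⁻¹ = 1
    rw [hcyc a b]
    group
  rw [← hX, Subgroup.commutator_le]
  intro a ha b hb
  obtain ⟨s, hs, c, hc, rfl⟩ := Subgroup.mem_sup_of_normal_left.1 (h1 ha)
  obtain ⟨s', hs', c', hc', rfl⟩ := Subgroup.mem_sup_of_normal_left.1 (h1 hb)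
  have e1 : c * s' = s' * c := ((Subgroup.mem_centralizer_iff.1 hc) s' hs').symm
  have e2 : c * c' = c' * c := hC c hc c' hc'
  have e3 : c' * s = s * c' := ((Subgroup.mem_centralizer_iff.1 hc') s hs).symm
  have : ⁅s * c, s' * c'⁆ = ⁅s, s'⁆ := by
    rw [commutatorElement_def, commutatorElement_def]
    have : s * c * (s' * c') = s * s' * (c * c') := by
      calc s * c * (s' * c') = s * (c * s') * c' := by group
        _ = s * s' * (c * c') := by rw [e1]; group
    have h2 : s' * c' * (s * c) = s' * s * (c * c') := by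
      calc s' * c' * (s * c) = s' * (c' * s) * c := by group
        _ = s' * s * (c' * c) := by rw [e3]; group
        _ = s' * s * (c * c') := by rw [e2]
    calc s * c * (s' * c') * (s * c)⁻¹ * (s' * c')⁻¹ = s * c * (s' * c') * (s' * c' * (s * c))⁻¹ := by group
      _ = s * s' * (c * c') * (s' * s * (c * c'))⁻¹ := by rw [this, h2]
      _ = s * s' * s⁻¹ * s'⁻¹ := by group
  rw [this, commutatorElement_def]
  exact L.mul_mem (L.mul_mem (L.mul_mem hs hs') (L.inv_mem hs)) (L.inv_mem hs')

/-- ... and it is trivial or the whole `SL(2,5)` -/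
theorem perfect_eq {G : Type*} [Group G] (L : Subgroup G) (e : L ≃* SL25)
    {X : Subgroup G} (hXL : X ≤ L) (hX : ⁅X, X⁆ = X) (hne : X ≠ ⊥) : X = L := by
  have h1 : ⁅X.subgroupOf L, X.subgroupOf L⁆ = X.subgroupOf L := by
    apply Subgroup.map_injective L.subtype_injective
    rw [Subgroup.map_commutator, Subgroup.subgroupOf_map_subtype, inf_eq_left.2 hXL, hX]
  have h2 : ⁅(X.subgroupOf L).map e.toMonoidHom, (X.subgroupOf L).map e.toMonoidHom⁆ =
      (X.subgroupOf L).map e.toMonoidHom := by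
    rw [← Subgroup.map_commutator, h1]
  have h3 : (X.subgroupOf L).map e.toMonoidHom ≠ ⊥ := by
    rw [Ne, Subgroup.map_eq_bot_iff_of_injective _ e.injective, Subgroup.subgroupOf_eq_bot]
    intro hd
    apply hne
    rw [eq_bot_iff]
    intro x hx
    exact (Subgroup.disjoint_def.1 hd) hx (hXL hx)
  have h4 := perfect_eq_top h2 h3
  refine le_antisymm hXL ?_
  intro x hx
  have h5 : e ⟨x, hx⟩ ∈ (X.subgroupOf L).map e.toMonoidHom := by rw [h4]; trivial
  obtain ⟨y, hy, hye⟩ := h5
  have h6 : y = ⟨x, hx⟩ := e.injective hye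
  rw [h6] at hy
  exact hy

/-- semiregular linear groups act fixed-point-freely -/
theorem fpf_of_semireg {p : ℕ} [Fact p.Prime] {M : Type u} [AddCommGroup M] [Module (ZMod p) M] [Finite M]
    [Nontrivial M] (H : Subgroup (M ≃ₗ[ZMod p] M)) (hsr : ∀ g ∈ H, ∀ v : M, v ≠ 0 → g v = v → g = 1) :
    H348.HasFPF H := by
  have e : M ≃ₗ[ZMod p] (Fin (Module.finrank (ZMod p) M) → ZMod p) := (Module.finBasis (ZMod p) M).equivFun
  have hnt : Nontrivial (Fin (Module.finrank (ZMod p) M) → ZMod p) := e.symm.toEquiv.nontrivial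
  refine ⟨Multiplicative (Fin (Module.finrank (ZMod p) M) → ZMod p), inferInstance, inferInstance, inferInstance, ?_⟩
  let φ : H →* MulAut (Multiplicative (Fin (Module.finrank (ZMod p) M) → ZMod p)) :=
    { toFun := fun g =>
        { toFun := fun x => Multiplicative.ofAdd (e (g.1 (e.symm (Multiplicative.toAdd x))))
          invFun := fun x => Multiplicative.ofAdd (e (g.1⁻¹ (e.symm (Multiplicative.toAdd x))))
          left_inv := by
            intro x
            change Multiplicative.ofAdd (e (g.1⁻¹ (e.symm (e (g.1 (e.symm (Multiplicative.toAdd x))))))) = x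
            rw [e.symm_apply_apply]
            change Multiplicative.ofAdd (e ((g.1⁻¹ * g.1) (e.symm (Multiplicative.toAdd x)))) = x
            rw [inv_mul_cancel]
            change Multiplicative.ofAdd (e (e.symm (Multiplicative.toAdd x))) = x
            rw [e.apply_symm_apply]; rfl
          right_inv := by
            intro x
            change Multiplicative.ofAdd (e (g.1 (e.symm (e (g.1⁻¹ (e.symm (Multiplicative.toAdd x))))))) = x
            rw [e.symm_apply_apply]
            change Multiplicative.ofAdd (e ((g.1 * g.1⁻¹) (e.symm (Multiplicative.toAdd x)))) = x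
            rw [mul_inv_cancel]
            change Multiplicative.ofAdd (e (e.symm (Multiplicative.toAdd x))) = x
            rw [e.apply_symm_apply]; rfl
          map_mul' := by
            intro x y
            change Multiplicative.ofAdd (e (g.1 (e.symm (Multiplicative.toAdd x + Multiplicative.toAdd y)))) = _
            rw [map_add, map_add, map_add]; rfl }
      map_one' := by
        apply MulEquiv.ext
        intro x
        change Multiplicative.ofAdd (e (e.symm (Multiplicative.toAdd x))) = x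
        rw [e.apply_symm_apply]; rfl
      map_mul' := by
        intro a b
        apply MulEquiv.ext
        intro x
        change Multiplicative.ofAdd (e (a.1 (b.1 (e.symm (Multiplicative.toAdd x))))) =
          Multiplicative.ofAdd (e (a.1 (e.symm (e (b.1 (e.symm (Multiplicative.toAdd x)))))))
        rw [e.symm_apply_apply] }
  refine ⟨φ, ?_⟩
  intro a ha v hv
  have h1 : e (a.1 (e.symm (Multiplicative.toAdd v))) = Multiplicative.toAdd v := hv
  have h2 : a.1 (e.symm (Multiplicative.toAdd v)) = e.symm (Multiplicative.toAdd v) := by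
    have := congrArg e.symm h1
    rwa [e.symm_apply_apply] at this
  by_contra hv1
  apply ha
  apply Subtype.ext
  refine hsr a.1 a.2 _ ?_ h2
  intro h0
  apply hv1
  have h3 : Multiplicative.toAdd v = 0 := by
    rw [← e.apply_symm_apply (Multiplicative.toAdd v), h0, map_zero]
  exact h3

end Cfsg.Agent.H960.HT
end

-- part: H960/HT/Schur
section
/-! Schur's lemma for irreducible linear groups over `ZMod p`; the field of endomorphisms; the quasisimple
setting `QS`; dimension 2 over the field of endomorphisms. -/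

set_option autoImplicit false
set_option linter.unusedSectionVars false
set_option linter.unusedVariables false

namespace Cfsg.Agent.H960.HT

open MulAction Cfsg.Agent.H828.HT Cfsg.Agent.PermutationGroups.AutSL25
open scoped commutatorElement

universe u

variable {p : ℕ} [Fact p.Prime] {V : Type u} [AddCommGroup V] [Module (ZMod p) V]

/-- a linear map commuting with `L` commutes with the enveloping algebra -/
theorem comm_env {L : Subgroup (V ≃ₗ[ZMod p] V)} {f : V →ₗ[ZMod p] V} (hf : ∀ l ∈ L, ∀ v, f (l v) = l (f v))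
    {x : Module.End (ZMod p) V} (hx : x ∈ env L) : ∀ v, f (x v) = x (f v) := by
  refine Algebra.adjoin_induction (p := fun x _ => ∀ v, f (x v) = x (f v)) ?_ ?_ ?_ ?_ hx
  · rintro _ ⟨n, hn, rfl⟩ v
    exact hf n hn v
  · intro r v
    exact map_smul f r v
  · intro x y _ _ hx hy v
    change f (x v + y v) = x (f v) + y (f v)
    rw [map_add, hx, hy]
  · intro x y _ _ hx hy v
    change f (x (y v)) = x (y (f v))
    rw [hx, hy]

/-- ... as an endomorphism over the enveloping algebra -/
def endOf {L : Subgroup (V ≃ₗ[ZMod p] V)} (f : V →ₗ[ZMod p] V) (hf : ∀ l ∈ L, ∀ v, f (l v) = l (f v)) :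
    Module.End (env L) V where
  toFun := f
  map_add' := map_add f
  map_smul' := fun x v => comm_env hf x.2 v

theorem isSimple_env {L : Subgroup (V ≃ₗ[ZMod p] V)} (hL : Irr L) [Nontrivial V] : IsSimpleModule (env L) V := by
  rw [isSimpleModule_iff]
  refine { exists_pair_ne := ⟨⊥, ⊤, bot_ne_top⟩, eq_bot_or_eq_top := ?_ }
  intro W
  rcases hL (toV W) (fun g hg v hv => toV_inv W g hg v hv) with h | h
  · left
    rw [eq_bot_iff]
    intro v hv
    have : v ∈ toV W := hv
    rw [h] at this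
    exact this
  · right
    rw [eq_top_iff]
    intro v _
    have : v ∈ toV W := by rw [h]; trivial
    exact this

variable [Finite V]

/-- the field of endomorphisms of an irreducible group -/
@[reducible] noncomputable def endField {L : Subgroup (V ≃ₗ[ZMod p] V)} (hL : Irr L) [Nontrivial V] :
    Field (Module.End (env L) V) := by
  classical
  have := isSimple_env hL
  have : Finite (Module.End (env L) V) := Finite.of_injective (fun f => (f : V → V)) DFunLike.coe_injective
  exact littleWedderburn _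

theorem end_comm {L : Subgroup (V ≃ₗ[ZMod p] V)} (hL : Irr L) [Nontrivial V] {a b : V →ₗ[ZMod p] V}
    (ha : ∀ l ∈ L, ∀ v, a (l v) = l (a v)) (hb : ∀ l ∈ L, ∀ v, b (l v) = l (b v)) (v : V) :
    a (b v) = b (a v) := by
  have h1 := (endField hL).mul_comm (endOf a ha) (endOf b hb)
  exact congrArg (fun f : Module.End (env L) V => f v) h1

/-- the centraliser of an irreducible group is commutative -/
theorem cent_comm {L : Subgroup (V ≃ₗ[ZMod p] V)} (hL : Irr L) [Nontrivial V] {a b : V ≃ₗ[ZMod p] V}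
    (ha : ∀ l ∈ L, a * l = l * a) (hb : ∀ l ∈ L, b * l = l * b) : a * b = b * a := by
  apply LinearEquiv.ext
  intro v
  exact end_comm hL (a := (a : V →ₗ[ZMod p] V)) (b := (b : V →ₗ[ZMod p] V))
    (fun l hl v => congrArg (fun f : V ≃ₗ[ZMod p] V => f v) (ha l hl))
    (fun l hl v => congrArg (fun f : V ≃ₗ[ZMod p] V => f v) (hb l hl)) v

/-- `V` as a vector space over the field of endomorphisms -/
@[reducible] noncomputable def endModule {L : Subgroup (V ≃ₗ[ZMod p] V)} (hL : Irr L) [Nontrivial V] :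
    @Module (Module.End (env L) V) V (endField hL).toDivisionRing.toDivisionSemiring.toSemiring _ :=
  letI := endField hL
  { smul := fun c v => c v
    one_smul := fun v => rfl
    mul_smul := fun a b v => rfl
    smul_zero := fun a => map_zero a
    smul_add := fun a v w => map_add a v w
    add_smul := fun a b v => rfl
    zero_smul := fun v => rfl }

/-- a perfect `p'`-group of `K`-linear maps of a two-dimensional space is semiregular -/
theorem semireg_of_two {K : Type u} [Field K] [Module K V] {L : Subgroup (V ≃ₗ[ZMod p] V)}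
    (hlin : ∀ l ∈ L, ∀ (c : K) (v : V), l (c • v) = c • l v) (hperf : commutator L = ⊤)
    (hp : ¬ p ∣ Nat.card L) (h2 : Module.finrank K V = 2) :
    ∀ g ∈ L, ∀ v : V, v ≠ 0 → g v = v → g = 1 := by
  classical
  intro g hg v hv hgv
  -- `K`-linear version
  let toK : L →* (V ≃ₗ[K] V) :=
    { toFun := fun l =>
        { toFun := l.1
          invFun := l.1.symm
          left_inv := l.1.left_inv
          right_inv := l.1.right_inv
          map_add' := map_add l.1
          map_smul' := fun c v => hlin l.1 l.2 c v }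
      map_one' := rfl
      map_mul' := fun a b => rfl }
  have hdet : ∀ l : L, LinearEquiv.det (toK l) = 1 := by
    intro l
    have h1 : commutator L ≤ (LinearEquiv.det.comp toK).ker := Abelianization.commutator_subset_ker _
    rw [hperf] at h1
    exact h1 (Subgroup.mem_top l)
  -- characteristic
  have hchar : (p : K) = 0 := by
    have h1 : (p : K) • v = 0 := by
      rw [Nat.cast_smul_eq_nsmul]
      have : (p : ℕ) • v = ((p : ZMod p)) • v := (Nat.cast_smul_eq_nsmul (ZMod p) p v).symm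
      rw [this, ZMod.natCast_self, zero_smul]
    exact (smul_eq_zero.1 h1).resolve_right hv
  have hfin : FiniteDimensional K V := Module.finite_of_finrank_pos (by omega)
  obtain ⟨w, hw⟩ := exists_linearIndependent_pair_of_one_lt_finrank (by omega : 1 < Module.finrank K V) hv
  let b : Module.Basis (Fin 2) K V := basisOfLinearIndependentOfCardEqFinrank hw (by rw [Fintype.card_fin, h2])
  have hb0 : b 0 = v := by simp [b]
  have hb1 : b 1 = w := by simp [b]
  set G : V ≃ₗ[K] V := toK ⟨g, hg⟩ with hG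
  have hGv : G v = v := hgv
  have hrep : G w = b.repr (G w) 0 • v + b.repr (G w) 1 • w := by
    have := b.sum_repr (G w)
    rw [Fin.sum_univ_two, hb0, hb1] at this
    exact this.symm
  set a := b.repr (G w) 0
  set c := b.repr (G w) 1
  have hc : c = 1 := by
    have h1 : LinearMap.det (G : V →ₗ[K] V) = 1 := by
      have := congrArg Units.val (hdet ⟨g, hg⟩)
      rw [LinearEquiv.coe_det] at this
      exact this
    rw [← LinearMap.det_toMatrix b, Matrix.det_fin_two] at h1
    simp only [LinearMap.toMatrix_apply, LinearEquiv.coe_coe, hb0, hb1, hGv] at h1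
    have e1 : b.repr v 0 = 1 := by rw [← hb0, b.repr_self]; simp
    have e2 : b.repr v 1 = 0 := by rw [← hb0, b.repr_self]; simp
    rw [e1, e2, one_mul, mul_zero, sub_zero] at h1
    exact h1
  rw [hc, one_smul] at hrep
  have hpow : ∀ n : ℕ, (g ^ n) w = ((n : K) * a) • v + w := by
    intro n
    induction n with
    | zero => simp
    | succ n ih =>
      rw [pow_succ']
      change g ((g ^ n) w) = _
      rw [ih, map_add, hlin g hg, hgv]
      have : g w = a • v + w := hrep
      rw [this, ← add_assoc, ← add_smul]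
      push_cast
      ring_nf
  have hord := hpow (orderOf g)
  rw [pow_orderOf_eq_one] at hord
  have h3 : ((orderOf g : K) * a) • v = 0 := by
    have : w = ((orderOf g : K) * a) • v + w := hord
    exact add_eq_right.1 this.symm
  have h4 := (smul_eq_zero.1 h3).resolve_right hv
  have h5 : (orderOf g : K) ≠ 0 := by
    intro h0
    have hpp : p.Prime := Fact.out
    have h6 : Nat.Coprime (orderOf g) p := by
      rw [Nat.coprime_comm, hpp.coprime_iff_not_dvd]
      intro hd
      apply hp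
      have h7 : orderOf (⟨g, hg⟩ : L) ∣ Nat.card L := orderOf_dvd_natCard _
      rw [← Subgroup.orderOf_coe] at h7
      exact hd.trans h7
    have h8 := Nat.gcd_eq_gcd_ab (orderOf g) p
    rw [h6] at h8
    have h9 : ((1 : ℕ) : K) = 0 := by
      have : (((1 : ℕ) : ℤ) : K) = ((orderOf g * (orderOf g).gcdA p + p * (orderOf g).gcdB p : ℤ) : K) := by rw [h8]
      push_cast at this
      rw [h0, hchar, zero_mul, zero_mul, add_zero] at this
      simp at this
    simp at h9
  have ha : a = 0 := (mul_eq_zero.1 h4).resolve_left h5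
  rw [ha, zero_smul, zero_add] at hrep
  apply LinearEquiv.ext
  intro x
  have hx := b.sum_repr x
  rw [Fin.sum_univ_two, hb0, hb1] at hx
  rw [← hx, map_add, hlin g hg, hlin g hg, hgv]
  have : g w = w := hrep
  rw [this]
  rfl

end Cfsg.Agent.H960.HT
end

-- part: H960/HT/Perf
section
/-! In the exceptional cases every nontrivial perfect subgroup is the normal `SL(2,5)`. -/

set_option autoImplicit false
set_option linter.unusedSectionVars false
set_option linter.unusedVariables false

namespace Cfsg.Agent.H960.HT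

open MulAction Cfsg.Agent.H828.HT Cfsg.Agent.PermutationGroups.AutSL25
open scoped commutatorElement

universe u

/-- the list of exceptional parameters -/
def Lst (p : ℕ) (V : Type u) [AddCommGroup V] [Module (ZMod p) V] : Prop :=
  (Module.finrank (ZMod p) V = 2 ∧ (p = 11 ∨ p = 19 ∨ p = 29)) ∨ (Module.finrank (ZMod p) V = 4 ∧ p = 13)

variable {p : ℕ} [Fact p.Prime] {V : Type u} [AddCommGroup V] [Module (ZMod p) V] [Finite V]

theorem sl_noncomm : ∃ a b : SL25, a * b ≠ b * a := ⟨S, T, by decide +kernel⟩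

theorem pow_mod_five {c d : ℕ} (hc : c ≤ d) (hd : d ≤ 3) (h : 13 ^ d ≡ 13 ^ c [MOD 5]) : c = d := by
  have : c ≤ 3 := hc.trans hd
  interval_cases d <;> interval_cases c <;> first | rfl | (exfalso; revert h; decide)

/-- an element of order 5 is trivial on a small invariant subspace in characteristic 13 -/
theorem five_trivial {V : Type u} [AddCommGroup V] [Fact (Nat.Prime 13)] [Module (ZMod 13) V] [Finite V]
    {x : V ≃ₗ[ZMod 13] V} (hx : x ^ 5 = 1) {M : Submodule (ZMod 13) V} (hM : ∀ v ∈ M, x v ∈ M)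
    (hd : Module.finrank (ZMod 13) M ≤ 3) : ∀ v ∈ M, x v = v := by
  classical
  let f : M →ₗ[ZMod 13] M := (x : V →ₗ[ZMod 13] V).restrict hM
  have hf : (f : Module.End (ZMod 13) M) ^ 5 = 1 := by
    apply LinearMap.ext
    intro v
    apply Subtype.ext
    have : ∀ n : ℕ, (((f : Module.End (ZMod 13) M) ^ n) v : V) = (x ^ n) v.1 := by
      intro n
      induction n with
      | zero => rfl
      | succ n ih =>
        rw [pow_succ', pow_succ']
        change x (((f : Module.End (ZMod 13) M) ^ n) v).1 = x ((x ^ n) v.1)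
        rw [ih]
    rw [this 5, hx]
    rfl
  let F : Function.End M := fun v => f v
  have hF : F ^ 5 ^ 1 = 1 := by
    have : ∀ n : ℕ, ∀ v, (F ^ n) v = ((f : Module.End (ZMod 13) M) ^ n) v := by
      intro n
      induction n with
      | zero => intro v; rfl
      | succ n ih =>
        intro v
        rw [pow_succ', pow_succ']
        change F ((F ^ n) v) = f (((f : Module.End (ZMod 13) M) ^ n) v)
        rw [ih]
    funext v
    rw [pow_one, this, hf]
    rfl
  have : Fact (Nat.Prime 5) := ⟨by norm_num⟩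
  have := Fintype.ofFinite M
  have h1 := Equiv.Perm.card_fixedPoints_modEq hF
  have h2 : Fintype.card F.fixedPoints = Nat.card (LinearMap.ker (f - LinearMap.id)) := by
    rw [← Nat.card_eq_fintype_card]
    refine Nat.card_congr (Equiv.subtypeEquivRight ?_)
    intro v
    rw [LinearMap.mem_ker, LinearMap.sub_apply, sub_eq_zero]
    rfl
  rw [h2, ← Nat.card_eq_fintype_card, card_eq_pow (p := 13), card_eq_pow (p := 13)] at h1
  have h3 := pow_mod_five (Submodule.finrank_le _) hd h1
  have h4 := Submodule.eq_top_of_finrank_eq h3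
  intro v hv
  have h5 : (⟨v, hv⟩ : M) ∈ LinearMap.ker (f - LinearMap.id) := by rw [h4]; trivial
  rw [LinearMap.mem_ker, LinearMap.sub_apply, sub_eq_zero] at h5
  exact congrArg Subtype.val h5

/-- irreducibility of the normal `SL(2,5)` in the exceptional cases -/
theorem irr_of_lst {S' : Subgroup (V ≃ₗ[ZMod p] V)} (e : S' ≃* SL25) (hl : Lst p V)
    (hfaith : ∀ M : Submodule (ZMod p) V, NIrr S' M → ∀ n ∈ S', (∀ v ∈ M, n v = v) → n = 1) : Irr S' := by
  classical
  intro W hW
  by_contra hcon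
  push Not at hcon
  obtain ⟨M, hMW, hM⟩ := exists_nirr S' hcon.1 hW
  have hMt : M ≠ ⊤ := fun h => hcon.2 (top_le_iff.1 (h ▸ hMW))
  have hlt : Module.finrank (ZMod p) M < Module.finrank (ZMod p) V := Submodule.finrank_lt hMt
  rcases hl with ⟨h2, hp⟩ | ⟨h4, hp⟩
  · -- one-dimensional
    have h1 : Module.finrank (ZMod p) M = 1 := by
      have : Nontrivial M := Submodule.nontrivial_iff_ne_bot.2 hM.ne
      have : 0 < Module.finrank (ZMod p) M := Module.finrank_pos
      omega
    have hscal : ∀ g ∈ S', ∃ c : ZMod p, ∀ v ∈ M, g v = c • v := by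
      intro g hg
      obtain ⟨x₀, hx₀, hgen⟩ := finrank_eq_one_iff'.1 h1
      obtain ⟨t, ht⟩ := hgen ⟨_, hM.inv g hg x₀.1 x₀.2⟩
      refine ⟨t, fun y hy => ?_⟩
      obtain ⟨s, hs⟩ := hgen ⟨y, hy⟩
      have e1 : y = s • x₀.1 := (congrArg Subtype.val hs).symm
      have e2 : g x₀.1 = t • x₀.1 := (congrArg Subtype.val ht).symm
      rw [e1, map_smul, e2, smul_comm]
    obtain ⟨a, b, hab⟩ := sl_noncomm
    apply hab
    have ha := (e.symm a).2
    have hb := (e.symm b).2
    obtain ⟨c, hc⟩ := hscal _ ha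
    obtain ⟨d, hd⟩ := hscal _ hb
    have h3 : ((e.symm b).1 * (e.symm a).1)⁻¹ * ((e.symm a).1 * (e.symm b).1) = 1 := by
      refine hfaith M hM _ (S'.mul_mem (S'.inv_mem (S'.mul_mem hb ha)) (S'.mul_mem ha hb)) ?_
      intro v hv
      have e1 : ((e.symm a).1 * (e.symm b).1) v = ((e.symm b).1 * (e.symm a).1) v := by
        change (e.symm a).1 ((e.symm b).1 v) = (e.symm b).1 ((e.symm a).1 v)
        rw [hd v hv, hc v hv, map_smul, map_smul, hd v hv, hc v hv, smul_comm]
      change ((e.symm b).1 * (e.symm a).1)⁻¹ (((e.symm a).1 * (e.symm b).1) v) = v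
      rw [e1]
      change (((e.symm b).1 * (e.symm a).1)⁻¹ * ((e.symm b).1 * (e.symm a).1)) v = v
      rw [inv_mul_cancel]; rfl
    rw [inv_mul_eq_one] at h3
    have h4 : e.symm b * e.symm a = e.symm a * e.symm b := Subtype.ext h3
    rw [← map_mul, ← map_mul] at h4
    exact (e.symm.injective h4).symm
  · subst hp
    have hx5 : ((e.symm T).1) ^ 5 = 1 := by
      have : (e.symm T) ^ 5 = 1 := by
        rw [← map_pow]
        have : T ^ 5 = 1 := by decide +kernel
        rw [this, map_one]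
      exact congrArg Subtype.val this
    have h5 := five_trivial hx5 (M := M) (fun v hv => hM.inv _ (e.symm T).2 v hv) (by omega)
    have h6 := hfaith M hM _ (e.symm T).2 h5
    have h7 : e.symm T = 1 := Subtype.ext h6
    rw [map_eq_one_iff _ e.symm.injective] at h7
    exact T_ne h7

/-- **perfect subgroups in the exceptional cases** -/
theorem perf_of_lst {G S' : Subgroup (V ≃ₗ[ZMod p] V)} (hS : S' ≤ G) (hnorm : ∀ g ∈ G, ∀ s ∈ S', g * s * g⁻¹ ∈ S')
    (e : S' ≃* SL25) (hl : Lst p V)
    (hfaith : ∀ M : Submodule (ZMod p) V, NIrr S' M → ∀ n ∈ S', (∀ v ∈ M, n v = v) → n = 1)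
    {X : Subgroup (V ≃ₗ[ZMod p] V)} (hXG : X ≤ G) (hX : ⁅X, X⁆ = X) (hne : X ≠ ⊥) : X = S' := by
  classical
  have hirr := irr_of_lst e hl hfaith
  have hnt : Nontrivial V := by
    have : 0 < Module.finrank (ZMod p) V := by rcases hl with ⟨h, _⟩ | ⟨h, _⟩ <;> omega
    exact Module.nontrivial_of_finrank_pos this
  -- inside `G`
  have hn : (S'.subgroupOf G).Normal := by
    constructor
    intro s hs g
    exact hnorm g.1 g.2 s.1 hs
  let e' : S'.subgroupOf G ≃* SL25 := (Subgroup.subgroupOfEquivOfLe hS).trans e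
  have hcent : ∀ a ∈ Subgroup.centralizer (S'.subgroupOf G : Set G), ∀ b ∈ Subgroup.centralizer (S'.subgroupOf G : Set G),
      a * b = b * a := by
    intro a ha b hb
    apply Subtype.ext
    refine cent_comm hirr (a := a.1) (b := b.1) ?_ ?_
    · intro l hl
      exact (congrArg Subtype.val ((Subgroup.mem_centralizer_iff.1 ha) ⟨l, hS hl⟩ hl)).symm
    · intro l hl
      exact (congrArg Subtype.val ((Subgroup.mem_centralizer_iff.1 hb) ⟨l, hS hl⟩ hl)).symm
  have hXG' : ⁅X.subgroupOf G, X.subgroupOf G⁆ = X.subgroupOf G := by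
    apply Subgroup.map_injective G.subtype_injective
    rw [Subgroup.map_commutator, Subgroup.subgroupOf_map_subtype, inf_eq_left.2 hXG, hX]
  have h1 := perfect_le (S'.subgroupOf G) e' hcent hXG'
  have h2 : X ≤ S' := by
    intro x hx
    exact h1 (show (⟨x, hXG hx⟩ : G) ∈ X.subgroupOf G from hx)
  exact perfect_eq S' e h2 hX hne

end Cfsg.Agent.H960.HT
end

-- part: H960/HT/Asm
section
/-! S3540: the induction (reduction to the quasisimple rows, several components, `E(G) = 1` and `SL(2,5)`). -/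

set_option autoImplicit false
set_option linter.unusedSectionVars false
set_option linter.unusedVariables false

namespace Cfsg.Agent.H960.HT

open MulAction Cfsg.Agent.H828.HT Cfsg.Agent.PermutationGroups.AutSL25 Cfsg.Agent.H337.HT
open Cfsg.Agent.SignalizersComponents.Components
open scoped commutatorElement

universe u

/-- The quasisimple rows. -/
def QSRow : Prop := ∀ (p : ℕ) [Fact p.Prime] (V : Type u) [AddCommGroup V] [Module (ZMod p) V] [Finite V]
  (K : Type u) [Field K] [Module K V] (G L : Subgroup (V ≃ₗ[ZMod p] V)) (h : ℕ), QS p K V G L h →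
  Module.finrank K V = 2

/-- Several components. -/
def CompsRow : Prop := ∀ (p : ℕ) [Fact p.Prime] (V : Type u) [AddCommGroup V] [Module (ZMod p) V] [Finite V]
  (G : Subgroup (V ≃ₗ[ZMod p] V)) (h : ℕ), p ≠ 2 → Half G h → 2 ≤ h → ¬ p ∣ Nat.card G →
  ∀ (k : ℕ), 2 ≤ k → ∀ (L : Fin k → Subgroup (V ≃ₗ[ZMod p] V)), Function.Injective L → (∀ i, L i ≤ G) →
  (∀ i, Cfsg.IsQuasisimple (L i)) → (∀ i j, i ≠ j → ∀ x ∈ L i, ∀ y ∈ L j, x * y = y * x) →
  (∀ g ∈ G, ∀ i, ∃ j, ∀ x ∈ L i, g * x * g⁻¹ ∈ L j) → (∀ i j, ∃ g ∈ G, ∀ x ∈ L i, g * x * g⁻¹ ∈ L j) →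
  Irr (⨆ i, L i : Subgroup (V ≃ₗ[ZMod p] V)) → False

/-- `G` has only homogeneous normal subgroups. -/
def AllHomog {p : ℕ} [Fact p.Prime] {V : Type u} [AddCommGroup V] [Module (ZMod p) V]
    (G : Subgroup (V ≃ₗ[ZMod p] V)) : Prop :=
  ∀ N ≤ G, (∀ g ∈ G, ∀ n ∈ N, g * n * g⁻¹ ∈ N) → Homog N

/-- `E(G) = 1`. -/
def E1Row : Prop := ∀ (p : ℕ) [Fact p.Prime] (V : Type u) [AddCommGroup V] [Module (ZMod p) V] [Finite V]
  (G : Subgroup (V ≃ₗ[ZMod p] V)) (h : ℕ), p ≠ 2 → Half G h → 2 ≤ h → ¬ p ∣ Nat.card G →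
  ¬ Group.IsSolvable G → Irr G → AllHomog G → (∀ L : Subgroup G, ¬ Cfsg.IsComponent L) → False

/-- A normal `SL(2,5)`. -/
def SL5Row : Prop := ∀ (p : ℕ) [Fact p.Prime] (V : Type u) [AddCommGroup V] [Module (ZMod p) V] [Finite V]
  (G : Subgroup (V ≃ₗ[ZMod p] V)) (h : ℕ), p ≠ 2 → Half G h → 2 ≤ h → ¬ p ∣ Nat.card G → Irr G → AllHomog G →
  ∀ S ≤ G, (∀ g ∈ G, ∀ s ∈ S, g * s * g⁻¹ ∈ S) → Nonempty (S ≃* Matrix.SpecialLinearGroup (Fin 2) (ZMod 5)) →
  Lst p V

/-- The inputs of the assembly. -/
structure Ext : Prop where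
  her : HerHyp.{u}
  qs : QSRow.{u}
  comps : CompsRow.{u}
  e1 : E1Row.{u}
  sl5 : SL5Row.{u}

variable {p : ℕ} [Fact p.Prime] {V : Type u} [AddCommGroup V] [Module (ZMod p) V] [Finite V]

theorem nontrivial_of_insoluble {G : Subgroup (V ≃ₗ[ZMod p] V)} (hins : ¬ Group.IsSolvable G) : Nontrivial V := by
  by_contra hn
  rw [not_nontrivial_iff_subsingleton] at hn
  apply hins
  have : Subsingleton G := ⟨fun a b => Subtype.ext (LinearEquiv.ext fun v => Subsingleton.elim _ _)⟩
  infer_instance

theorem allHomog (hHer : HerHyp.{u}) (hp2 : p ≠ 2) {G : Subgroup (V ≃ₗ[ZMod p] V)} {h : ℕ} (hh : Half G h)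
    (h2 : 2 ≤ h) (hG : ¬ p ∣ Nat.card G) (hins : ¬ Group.IsSolvable G) : AllHomog G := by
  have hnt := nontrivial_of_insoluble hins
  have hirr := irr_of_half hG hh h2
  intro N hN hnorm
  rcases clifford hirr hnorm with h1 | ⟨B, hB⟩
  · exact h1
  · exact (hB.imp_false hHer hp2 hh h2 hG hirr hins).elim

/-- the restriction of a faithful normal subgroup -/
theorem exists_image {G E : Subgroup (V ≃ₗ[ZMod p] V)} (hE : E ≤ G) {M : Submodule (ZMod p) V} (hM : NIrr E M)
    (hf : ∀ n ∈ E, (∀ v ∈ M, n v = v) → n = 1) :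
    ∃ X ≤ rs G M, Nonempty (E ≃* X) := by
  have hst : ∀ x ∈ E, x ∈ stb G M := by
    intro x hx
    refine ⟨hE hx, fun v => ⟨fun hv => hM.inv x hx v hv, fun hv => ?_⟩⟩
    have := hM.inv x⁻¹ (E.inv_mem hx) _ hv
    have e : x⁻¹ (x v) = v := by
      change (x⁻¹ * x) v = v
      rw [inv_mul_cancel]; rfl
    rwa [e] at this
  let f : E →* (M ≃ₗ[ZMod p] M) := (res G M).comp (Subgroup.inclusion hst)
  have hinj : Function.Injective f := by
    rw [injective_iff_map_eq_one]
    intro x hx
    apply Subtype.ext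
    apply hf x.1 x.2
    intro v hv
    have h1 := congrArg (fun e : M ≃ₗ[ZMod p] M => (e ⟨v, hv⟩ : V)) hx
    exact h1
  refine ⟨f.range, ?_, ⟨MonoidHom.ofInjective hinj⟩⟩
  rintro _ ⟨x, rfl⟩
  exact ⟨_, rfl⟩

/-- the setting of the quasisimple rows -/
theorem exists_QS [Nontrivial V] {G E : Subgroup (V ≃ₗ[ZMod p] V)} {h : ℕ} (hh : Half G h) (h2 : 2 ≤ h)
    (hG : ¬ p ∣ Nat.card G) (hEG : E ≤ G) (hEnorm : ∀ g ∈ G, ∀ s ∈ E, g * s * g⁻¹ ∈ E)
    (hEq : Cfsg.IsQuasisimple E) (hEirr : Irr E) :
    ∃ (K : Type u) (_ : Field K) (_ : Module K V), QS p K V G E h := by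
  refine ⟨Module.End (env E) V, endField hEirr, endModule hEirr, ?_⟩
  refine @QS.mk p _ (Module.End (env E) V) (endField hEirr) V _ _ (endModule hEirr) G E h hh h2 hG hEG hEnorm
    hEq.1.commutator_eq_top hEq.2 ?_ ?_ ?_ hEirr
  · by_contra hc
    push Not at hc
    apply quasisimple_not_isSolvable hEq
    exact Group.isSolvable_of_comm (fun a b => Subtype.ext (hc a.1 a.2 b.1 b.2))
  · intro l hl c v
    exact (c.map_smul (⟨(l : V →ₗ[ZMod p] V), Algebra.subset_adjoin ⟨l, hl, rfl⟩⟩ : env E) v).symm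
  · intro f hf
    exact ⟨endOf f hf, fun v => rfl⟩

/-- **The induction.** -/
theorem main (X : Ext.{u}) : ∀ (n : ℕ) (p : ℕ) [Fact p.Prime] (hp2 : p ≠ 2) (V : Type u) [AddCommGroup V]
    [Module (ZMod p) V] [Finite V], Nat.card V = n → ∀ (G : Subgroup (V ≃ₗ[ZMod p] V)) (h : ℕ), Half G h → 2 ≤ h →
    ¬ p ∣ Nat.card G → ¬ Group.IsSolvable G →
    ∃ S ≤ G, (∀ g ∈ G, ∀ s ∈ S, g * s * g⁻¹ ∈ S) ∧ Nonempty (S ≃* SL25) ∧ Lst p V := by
  intro n
  induction n using Nat.strong_induction_on with
  | _ n ih =>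
  intro p _ hp2 V _ _ _ hV G h hh h2 hG hins
  classical
  have hnt := nontrivial_of_insoluble hins
  have hirr := irr_of_half hG hh h2
  have hhom := allHomog X.her hp2 hh h2 hG hins
  by_cases hcomp : ∃ L : Subgroup G, Cfsg.IsComponent L
  swap
  · push Not at hcomp
    exact (X.e1 p V G h hp2 hh h2 hG hins hirr hhom hcomp).elim
  obtain ⟨L₀, hL₀⟩ := hcomp
  have hL₀p : ⁅L₀, L₀⁆ = L₀ := by
    have := hL₀.2.1
    exact Subgroup.isPerfect_iff.1 this
  have hL₀n : L₀ ≠ ⊥ := by
    have := quasisimple_nontrivial hL₀.2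
    exact (Subgroup.nontrivial_iff_ne_bot L₀).1 this
  set E₀ : Subgroup G := Subgroup.normalClosure (L₀ : Set G) with hE₀
  have hE₀n : E₀.Normal := Subgroup.normalClosure_normal
  have hLE : L₀ ≤ E₀ := Subgroup.le_normalClosure
  have hE₀p : ⁅E₀, E₀⁆ = E₀ := by
    refine le_antisymm (Subgroup.commutator_le_right E₀ E₀) ?_
    have hn : (⁅E₀, E₀⁆ : Subgroup G).Normal := inferInstance
    refine Subgroup.normalClosure_le_normal ?_
    intro x hx
    have h1 : x ∈ ⁅L₀, L₀⁆ := by rw [hL₀p]; exact hx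
    exact Subgroup.commutator_mono hLE hLE h1
  set E : Subgroup (V ≃ₗ[ZMod p] V) := E₀.map G.subtype with hE
  have hEG : E ≤ G := Subgroup.map_subtype_le E₀
  have hEnorm : ∀ g ∈ G, ∀ s ∈ E, g * s * g⁻¹ ∈ E := by
    rintro g hg _ ⟨s, hs, rfl⟩
    refine ⟨(⟨g, hg⟩ : G) * s * (⟨g, hg⟩ : G)⁻¹, ?_, rfl⟩
    exact hE₀n.conj_mem s hs ⟨g, hg⟩
  have hEp : ⁅E, E⁆ = E := by rw [hE, ← Subgroup.map_commutator, hE₀p]
  have hEne : E ≠ ⊥ := by
    intro hb
    rw [hE, Subgroup.map_eq_bot_iff_of_injective _ G.subtype_injective] at hb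
    apply hL₀n
    rw [eq_bot_iff, ← hb]
    exact hLE
  have hEhom : Homog E := hhom E hEG hEnorm
  have hEfaith : ∀ M : Submodule (ZMod p) V, NIrr E M → ∀ n ∈ E, (∀ v ∈ M, n v = v) → n = 1 :=
    fun M hM n hn h => hEhom.faithful hirr hEnorm hM hn h
  have hiso : Nonempty (E ≃* SL25) := by
    by_cases hEirr : Irr E
    · by_cases hLn : L₀.Normal
      · -- one component
        have hEL : E₀ = L₀ := Subgroup.normalClosure_eq_self L₀
        have hEL' : E = L₀.map G.subtype := by rw [hE, hEL]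
        have hEq : Cfsg.IsQuasisimple E := by
          rw [hEL']
          exact isQuasisimple_of_mulEquiv (L₀.equivMapOfInjective G.subtype G.subtype_injective) hL₀.2
        obtain ⟨K, hK1, hK2, hQS⟩ := exists_QS hh h2 hG hEG hEnorm hEq hEirr
        have hfr := X.qs p V K G E h hQS
        have hpE : ¬ p ∣ Nat.card E := fun hd => hG (hd.trans (Subgroup.card_dvd_of_le hEG))
        have hsr := semireg_of_two (K := K) hQS.lin hQS.perf hpE hfr
        have hfpf := fpf_of_semireg E (fun g hg v hv hgv => hsr g hg v hv hgv)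
        have htop : ⁅(⊤ : Subgroup E), ⊤⁆ = ⊤ := hQS.perf
        have htne : (⊤ : Subgroup E) ≠ ⊥ := by
          intro hb
          apply hEne
          rw [← Subgroup.card_eq_one, ← Subgroup.card_top, hb, Subgroup.card_bot]
        obtain ⟨e⟩ := hfpf.perfect ⊤ htop htne
        exact ⟨Subgroup.topEquiv.symm.trans e⟩
      · -- several components
        exfalso
        let C : Set (Subgroup G) := {K | ∃ g : G, K = L₀.map (MulAut.conj g).toMonoidHom}
        have hCfin : Finite C := inferInstance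
        let e : Fin (Nat.card C) ≃ C := (Finite.equivFin C).symm
        have hCcomp : ∀ K : C, Cfsg.IsComponent K.1 := by
          rintro ⟨_, g, rfl⟩
          exact isComponent_conj g hL₀
        have hL₀C : L₀ ∈ C := by
          refine ⟨1, ?_⟩
          rw [map_one]
          exact (Subgroup.map_id L₀).symm
        have hconjC : ∀ (g : G) (K : C), K.1.map (MulAut.conj g).toMonoidHom ∈ C := by
          rintro g ⟨_, k, rfl⟩
          refine ⟨g * k, ?_⟩
          rw [Subgroup.map_map]
          congr 1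
        have hk : 2 ≤ Nat.card C := by
          have : ∃ g : G, L₀.map (MulAut.conj g).toMonoidHom ≠ L₀ := by
            by_contra hc
            push Not at hc
            apply hLn
            constructor
            intro l hl g
            have : MulAut.conj g l ∈ L₀.map (MulAut.conj g).toMonoidHom := ⟨l, hl, rfl⟩
            rw [hc g] at this
            exact this
          obtain ⟨g, hg⟩ := this
          have : Nontrivial C := ⟨⟨⟨_, g, rfl⟩, ⟨L₀, hL₀C⟩, fun h => hg (congrArg Subtype.val h)⟩⟩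
          exact Finite.one_lt_card
        refine X.comps p V G h hp2 hh h2 hG (Nat.card C) hk (fun i => (e i).1.map G.subtype) ?_ ?_ ?_ ?_ ?_ ?_ ?_
        · intro i j hij
          have := Subgroup.map_injective G.subtype_injective hij
          exact e.injective (Subtype.ext this)
        · intro i
          exact Subgroup.map_subtype_le _
        · intro i
          exact isQuasisimple_of_mulEquiv ((e i).1.equivMapOfInjective G.subtype G.subtype_injective) (hCcomp (e i)).2
        · rintro i j hij _ ⟨x, hx, rfl⟩ _ ⟨y, hy, rfl⟩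
          have hne : (e i).1 ≠ (e j).1 := fun h => hij (e.injective (Subtype.ext h))
          have h1 := component_commutator_eq_bot_of_ne (hCcomp (e i)) (hCcomp (e j)) hne
          have h3 : ⁅x, y⁆ ∈ ⁅(e i).1, (e j).1⁆ := Subgroup.commutator_mem_commutator hx hy
          rw [h1, Subgroup.mem_bot, commutatorElement_eq_one_iff_mul_comm] at h3
          exact congrArg Subtype.val h3
        · intro g hg i
          obtain ⟨j, hj⟩ := e.surjective ⟨_, hconjC ⟨g, hg⟩ (e i)⟩
          refine ⟨j, ?_⟩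
          rintro _ ⟨x, hx, rfl⟩
          refine ⟨⟨g, hg⟩ * x * ⟨g, hg⟩⁻¹, ?_, rfl⟩
          have : (e j).1 = (e i).1.map (MulAut.conj (⟨g, hg⟩ : G)).toMonoidHom := congrArg Subtype.val hj
          rw [SetLike.mem_coe, this]
          exact ⟨x, hx, rfl⟩
        · intro i j
          obtain ⟨a, ha⟩ := (e i).2
          obtain ⟨b, hb⟩ := (e j).2
          refine ⟨(b * a⁻¹ : G).1, (b * a⁻¹ : G).2, ?_⟩
          rintro _ ⟨x, hx, rfl⟩
          refine ⟨(b * a⁻¹) * x * (b * a⁻¹)⁻¹, ?_, rfl⟩
          rw [SetLike.mem_coe, ha] at hx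
          obtain ⟨l, hl, rfl⟩ := hx
          rw [SetLike.mem_coe, hb]
          refine ⟨l, hl, ?_⟩
          change b * l * b⁻¹ = (b * a⁻¹) * (a * l * a⁻¹) * (b * a⁻¹)⁻¹
          group
        · intro W hW
          refine hEirr W ?_
          have hle : E ≤ ⨆ i, (e i).1.map G.subtype := by
            rw [hE, Subgroup.map_le_iff_le_comap, hE₀, Subgroup.normalClosure, Subgroup.closure_le]
            intro x hx
            obtain ⟨l, hl, hconj⟩ := Group.mem_conjugatesOfSet_iff.1 hx
            obtain ⟨g, hg⟩ := isConj_iff.1 hconj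
            obtain ⟨j, hj⟩ := e.surjective ⟨L₀.map (MulAut.conj g).toMonoidHom, g, rfl⟩
            have h1 : (e j).1 = L₀.map (MulAut.conj g).toMonoidHom := congrArg Subtype.val hj
            have h3 : G.subtype x ∈ (e j).1.map G.subtype := by
              refine ⟨x, ?_, rfl⟩
              rw [SetLike.mem_coe, h1]
              exact ⟨l, hl, hg⟩
            exact (le_iSup (fun i => (e i).1.map G.subtype) j) h3
          exact fun g hg v hv => hW g (hle hg) v hv
    · -- reducible
      have hex : ∃ W : Submodule (ZMod p) V, (∀ g ∈ E, ∀ v ∈ W, g v ∈ W) ∧ W ≠ ⊥ ∧ W ≠ ⊤ := by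
        by_contra hc
        push Not at hc
        apply hEirr
        intro W hW
        by_cases hb : W = ⊥
        · exact Or.inl hb
        · exact Or.inr (hc W hW hb)
      obtain ⟨W, hW, hWb, hWt⟩ := hex
      obtain ⟨M, hMW, hM⟩ := exists_nirr E hWb hW
      have hMt : M ≠ ⊤ := fun h => hWt (top_le_iff.1 (h ▸ hMW))
      have hst := stab_of_irred (G := G) E hEnorm hM.inv hM.irr
      obtain ⟨h', hh'1, hh'2⟩ := half_rs hh hst hM.ne
      obtain ⟨Y, hYP, ⟨eY⟩⟩ := exists_image hEG hM (hEfaith M hM)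
      have hYp : ⁅Y, Y⁆ = Y := by
        rw [← Subgroup.isPerfect_iff]
        have hEperf : Group.IsPerfect E := Subgroup.isPerfect_iff.2 hEp
        exact Group.IsPerfect.ofSurjective (f := eY.toMonoidHom) eY.surjective
      have hYne : Y ≠ ⊥ := by
        intro hb
        apply hEne
        rw [← Subgroup.card_eq_one, Nat.card_congr eY.toEquiv, hb, Subgroup.card_bot]
      have hPins : ¬ Group.IsSolvable (rs G M) := by
        intro hs
        apply not_solvable_of_perfect hYp hYne
        exact Group.isSolvable_of_isSolvable_injective (f := Subgroup.inclusion hYP) (Subgroup.inclusion_injective hYP)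
      have hPp : ¬ p ∣ Nat.card (rs G M) := fun hd => hG (hd.trans (card_rs_dvd M))
      have hMnt : Nontrivial M := Submodule.nontrivial_iff_ne_bot.2 hM.ne
      have hcardM : Nat.card M < n := by
        rw [← hV, card_eq_pow (p := p), card_eq_pow (p := p) V]
        exact Nat.pow_lt_pow_right (Fact.out : p.Prime).one_lt (Submodule.finrank_lt hMt)
      have h'pos : 1 ≤ h' := by
        rcases Nat.eq_zero_or_pos h' with h0 | h0
        · rw [h0, mul_zero] at hh'1; omega
        · exact h0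
      rcases Nat.lt_or_ge 1 h' with h'2 | h'1
      · -- induction
        obtain ⟨S', hS'G, hS'n, ⟨eS⟩, hlst⟩ := ih (Nat.card M) hcardM p hp2 M rfl (rs G M) h' hh'2 h'2 hPp hPins
        have hPhom := allHomog X.her hp2 hh'2 h'2 hPp hPins
        have hPirr := irr_of_half hPp hh'2 h'2
        have hYS := perf_of_lst hS'G hS'n eS hlst
          (fun M' hM' n hn h => (hPhom S' hS'G hS'n).faithful hPirr hS'n hM' hn h) hYP hYp hYne
        subst hYS
        exact ⟨eY.trans eS⟩
      · -- semiregular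
        have h'eq : h' = 1 := by omega
        subst h'eq
        have hfpf : H348.HasFPF Y := by
          refine fpf_of_semireg Y ?_
          intro g hg v hv hgv
          have h1 := hh'2 v hv
          have h3 : (⟨g, hYP hg⟩ : rs G M) ∈ stabilizer (rs G M) v := hgv
          rw [Subgroup.card_eq_one] at h1
          rw [h1, Subgroup.mem_bot] at h3
          exact congrArg Subtype.val h3
        have htop : ⁅(⊤ : Subgroup Y), ⊤⁆ = ⊤ := (Subgroup.isPerfect_iff.2 hYp).commutator_eq_top
        have htne : (⊤ : Subgroup Y) ≠ ⊥ := by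
          intro hb
          apply hYne
          rw [← Subgroup.card_eq_one, ← Subgroup.card_top, hb, Subgroup.card_bot]
        obtain ⟨e⟩ := hfpf.perfect ⊤ htop htne
        exact ⟨eY.trans (Subgroup.topEquiv.symm.trans e)⟩
  exact ⟨E, hEG, hEnorm, hiso, X.sl5 p V G h hp2 hh h2 hG hirr hhom E hEG hEnorm hiso⟩

end Cfsg.Agent.H960.HT
end
end

-- part: H960/HT/Fin
section
set_option linter.all false
open scoped Cfsg.Agent.FastGrp

/-! S3540: the final statement from the inputs `Ext` and Feit–Thompson. -/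

set_option autoImplicit false
set_option linter.unusedSectionVars false
set_option linter.unusedVariables false

namespace Cfsg.Agent.H960.HT

open MulAction Cfsg.Agent.H828.HT Cfsg.Agent.PermutationGroups.AutSL25

universe u w

/-- Feit–Thompson -/
def FT : Prop := ∀ (Y : Type u) [Group Y] [Finite Y], Odd (Nat.card Y) → Group.IsSolvable Y

/-- a group of orbits of equal length as a `Half` group -/
theorem exists_half {p : ℕ} [Fact p.Prime] {V : Type u} [AddCommGroup V] [Module (ZMod p) V] [Finite V] [Nontrivial V]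
    {G : Type w} [Group G] [Finite G] (ρ : G →* (V ≃ₗ[ZMod p] V))
    (hhalf : ∀ v w : V, v ≠ 0 → w ≠ 0 →
      Nat.card {u : V | ∃ g : G, ρ g v = u} = Nat.card {u : V | ∃ g : G, ρ g w = u}) :
    ∃ h, 1 ≤ h ∧ Half ρ.range h := by
  classical
  obtain ⟨v₀, hv₀⟩ := exists_ne (0 : V)
  have horb : ∀ v : V, (orbit ρ.range v : Set V) = {u : V | ∃ g : G, ρ g v = u} := by
    intro v
    ext u
    constructor
    · rintro ⟨⟨_, g, rfl⟩, rfl⟩
      exact ⟨g, rfl⟩
    · rintro ⟨g, rfl⟩
      exact ⟨⟨ρ g, g, rfl⟩, rfl⟩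
  have hcard : ∀ v : V, Nat.card {u : V | ∃ g : G, ρ g v = u} * Nat.card (stabilizer ρ.range v) =
      Nat.card ρ.range := by
    intro v
    have h1 := Nat.card_congr (MulAction.orbitProdStabilizerEquivGroup ρ.range v)
    rw [Nat.card_prod, horb] at h1
    exact h1
  refine ⟨Nat.card (stabilizer ρ.range v₀), Nat.card_pos, ?_⟩
  intro v hv
  have h1 := hcard v
  rw [← hcard v₀, hhalf v v₀ hv hv₀] at h1
  have hpos : 0 < Nat.card {u : V | ∃ g : G, ρ g v₀ = u} := by
    have : Nonempty {u : V | ∃ g : G, ρ g v₀ = u} := ⟨⟨v₀, 1, by rw [map_one]; rfl⟩⟩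
    exact Nat.card_pos
  exact Nat.eq_of_mul_eq_mul_left hpos h1

/-- **S3540 from the inputs.** -/
theorem final (X : Ext.{u}) (hFT : FT.{u}) (p : ℕ) [Fact p.Prime] {V : Type u} [AddCommGroup V] [Module (ZMod p) V]
    [Finite V] [Nontrivial V] {G : Type w} [Group G] [Finite G] (hsol : ¬ Group.IsSolvable G) (hcop : ¬ p ∣ Nat.card G)
    (ρ : G →* (V ≃ₗ[ZMod p] V)) (hρ : Function.Injective ρ)
    (hhalf : ∀ v w : V, v ≠ 0 → w ≠ 0 →
      Nat.card {u : V | ∃ g : G, ρ g v = u} = Nat.card {u : V | ∃ g : G, ρ g w = u}) :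
    (∀ v : V, v ≠ 0 → ∀ g : G, ρ g v = v → g = 1) ∨
    ((∃ N : Subgroup G, N.Normal ∧ Nonempty (↥N ≃* Matrix.SpecialLinearGroup (Fin 2) (ZMod 5))) ∧
      ((Module.finrank (ZMod p) V = 2 ∧ (p = 11 ∨ p = 19 ∨ p = 29)) ∨
        (Module.finrank (ZMod p) V = 4 ∧ p = 13))) := by
  classical
  obtain ⟨h, h1, hh⟩ := exists_half ρ hhalf
  have e : G ≃* ρ.range := MonoidHom.ofInjective hρ
  have hcard : Nat.card ρ.range = Nat.card G := (Nat.card_congr e.toEquiv).symm
  have hG : ¬ p ∣ Nat.card ρ.range := by rw [hcard]; exact hcop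
  have hins : ¬ Group.IsSolvable ρ.range := by
    intro hs
    exact hsol (Group.isSolvable_of_surjective (f := e.symm.toMonoidHom) e.symm.surjective)
  rcases Nat.lt_or_ge 1 h with h2 | h2
  · right
    have hp2 : p ≠ 2 := by
      rintro rfl
      apply hins
      apply hFT
      rw [← Nat.not_even_iff_odd, even_iff_two_dvd]
      exact hG
    obtain ⟨S, hSG, hSn, ⟨eS⟩, hl⟩ := main X (Nat.card V) p hp2 V rfl ρ.range h hh h2 hG hins
    refine ⟨⟨S.comap ρ, ?_, ?_⟩, hl⟩
    · constructor
      intro n hn g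
      change ρ (g * n * g⁻¹) ∈ S
      rw [map_mul, map_mul, map_inv]
      exact hSn (ρ g) ⟨g, rfl⟩ (ρ n) hn
    · have h3 : (S.comap ρ).map ρ = S := Subgroup.map_comap_eq_self hSG
      have e1 := (S.comap ρ).equivMapOfInjective ρ hρ
      rw [h3] at e1
      exact ⟨e1.trans eS⟩
  · left
    have h1' : h = 1 := by omega
    subst h1'
    intro v hv g hg
    have h3 := hh v hv
    rw [Subgroup.card_eq_one] at h3
    have h4 : (⟨ρ g, g, rfl⟩ : ρ.range) ∈ stabilizer ρ.range v := hg
    rw [h3, Subgroup.mem_bot] at h4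
    have h5 : ρ g = 1 := congrArg Subtype.val h4
    exact (map_eq_one_iff ρ hρ).1 h5

end Cfsg.Agent.H960.HT
end

-- part: H960/HT/Her
section
prune_inst 0x3010630505400000001c000040001cc7b3000190000b00004866034206808c4020020620b820001000000844003c004813cc00200200000000000400011c058100800002a0080000000006000000000000000000010000000000000000000000200000000
set_option linter.all false
open scoped Cfsg.Agent.FastGrp

/-! `HerHyp` from Hering's theorem S3695 and Feit–Thompson. -/

set_option autoImplicit false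
set_option linter.unusedSectionVars false
set_option linter.unusedVariables false

namespace Cfsg.Agent.H960.HT

open MulAction Cfsg.Agent.H828.HT
open scoped commutatorElement

universe u

/-- the statement S3695 for `K : Type` -/
def HerStmt : Prop := ∀ {K : Type} {V : Type u} [Field K] [Fintype K] [AddCommGroup V] [Module K V] [Finite V]
    (q n : ℕ) (hq : Fintype.card K = q) (hn : Module.finrank K V = n) (h1 : 1 ≤ n)
    (H : Subgroup (Equiv.Perm V)) (hadd : ∀ h ∈ H, ∀ v w : V, h (v + w) = h v + h w)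
    (hsemi : ∀ h ∈ H, ∃ σ : K ≃+* K, ∀ (c : K) (v : V), h (c • v) = σ c • h v)
    (htrans : ∀ v w : V, v ≠ 0 → w ≠ 0 → ∃ h ∈ H, ∃ c : K, h v = c • w),
    (∃ (a b : ℕ) (F : Type) (_ : Field F) (_ : Fintype F), a * b = n ∧ Fintype.card F = q ^ b ∧
      ∃ N : Subgroup H, N.Normal ∧
        ((2 ≤ a ∧ Nonempty (N ≃* Matrix.SpecialLinearGroup (Fin a) F)) ∨
         (∃ m : ℕ, a = 2 * m ∧ 1 ≤ m ∧ Nonempty (N ≃* Matrix.symplecticGroup (Fin m) F)) ∨
         (a = 6 ∧ q % 2 = 0 ∧ 4 ≤ Fintype.card F ∧ Nonempty (N ≃* Cfsg.Lie.chevG2.group F)) ∨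
         (a = 6 ∧ Fintype.card F = 2 ∧ ∃ (E : Type) (_ : Field E) (_ : Fintype E), Fintype.card E = 9 ∧ Nonempty (N ≃* Cfsg.PSU 3 E 3)))) ∨
    (∃ (F : Type) (_ : Field F) (_ : Fintype F) (e : V ≃+ F), Fintype.card F = q ^ n ∧
      ∀ h ∈ H, ∃ (c : F) (σ : F ≃+* F), ∀ v : V, e (h v) = c * σ (e v)) ∨
    (n = 2 ∧ (q = 5 ∨ q = 7 ∨ q = 11 ∨ q = 23) ∧ ∃ N : Subgroup H, N.Normal ∧ Nonempty (N ≃* QuaternionGroup 2)) ∨
    (n = 2 ∧ (q = 9 ∨ q = 11 ∨ q = 19 ∨ q = 29 ∨ q = 59) ∧
      ∃ N : Subgroup H, N.Normal ∧ Nonempty (N ≃* Matrix.SpecialLinearGroup (Fin 2) (ZMod 5))) ∨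
    (n = 4 ∧ q = 2 ∧ (Nonempty (H ≃* alternatingGroup (Fin 6)) ∨ Nonempty (H ≃* alternatingGroup (Fin 7)))) ∨
    (n = 4 ∧ q = 3 ∧ ((∃ N : Subgroup H, N.Normal ∧ Nat.card N = 32 ∧ Nat.card H ∣ 32 * 120) ∨
      ∃ N : Subgroup H, N.Normal ∧ Nonempty (N ≃* Matrix.SpecialLinearGroup (Fin 2) (ZMod 5)))) ∨
    (n = 6 ∧ q = 3 ∧ Nonempty (H ≃* Matrix.SpecialLinearGroup (Fin 2) (ZMod 13)))

/-- transvections have order `p` -/
theorem dvd_card_sl {p : ℕ} [Fact p.Prime] {F : Type} [Field F] [Fintype F] [CharP F p] {a : ℕ} (ha : 2 ≤ a) :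
    p ∣ Nat.card (Matrix.SpecialLinearGroup (Fin a) F) := by
  classical
  let i : Fin a := ⟨0, by omega⟩
  let j : Fin a := ⟨1, by omega⟩
  have hij : i ≠ j := by simp [i, j]
  have hmul : ∀ c d : F, Matrix.transvection i j c * Matrix.transvection i j d = Matrix.transvection i j (c + d) :=
    fun c d => Matrix.transvection_mul_transvection_same i j hij c d
  let f : Multiplicative F →* Matrix.SpecialLinearGroup (Fin a) F :=
    { toFun := fun c => ⟨Matrix.transvection i j (Multiplicative.toAdd c), Matrix.det_transvection_of_ne i j hij _⟩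
      map_one' := by
        apply Subtype.ext
        change Matrix.transvection i j (0 : F) = 1
        exact Matrix.transvection_zero i j
      map_mul' := by
        intro x y
        apply Subtype.ext
        exact (hmul _ _).symm }
  have hf : Function.Injective f := by
    intro x y h
    have h1 : Matrix.transvection i j (Multiplicative.toAdd x) = Matrix.transvection i j (Multiplicative.toAdd y) :=
      congrArg Subtype.val h
    have h2 := congrFun (congrFun h1 i) j
    simp [Matrix.transvection, Matrix.one_apply_ne hij] at h2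
    exact h2
  have h1 := Subgroup.card_dvd_of_injective f hf
  refine dvd_trans ?_ h1
  have h2 : Nat.card (Multiplicative F) = Fintype.card F :=
    (Nat.card_congr Multiplicative.toAdd).trans Nat.card_eq_fintype_card
  rw [h2]
  obtain ⟨n, hp, hn⟩ := FiniteField.card F p
  rw [hn]
  exact dvd_pow_self p n.pos.ne'

theorem dvd_card_sp {p : ℕ} [Fact p.Prime] {F : Type} [Field F] [Fintype F] [CharP F p] {m : ℕ} (hm : 1 ≤ m) :
    p ∣ Nat.card (Matrix.symplecticGroup (Fin m) F) := by
  classical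
  let A : F → Matrix (Fin m ⊕ Fin m) (Fin m ⊕ Fin m) F := fun c => Matrix.fromBlocks 1 (c • 1) 0 1
  have hA : ∀ c, A c ∈ Matrix.symplecticGroup (Fin m) F := by
    intro c
    rw [SymplecticGroup.mem_iff]
    simp only [A, Matrix.J, Matrix.fromBlocks_multiply, Matrix.fromBlocks_transpose, _root_.MulZeroClass.mul_zero, _root_.mul_one, _root_.zero_add, _root_.mul_neg, _root_.add_zero, _root_.neg_zero, _root_.Matrix.transpose_one, _root_.Matrix.transpose_zero, _root_.Matrix.transpose_smul, _root_.Algebra.mul_smul_comm, _root_.smul_neg, _root_.add_neg_cancel, _root_.smul_zero]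
  have hmul : ∀ c d : F, A c * A d = A (c + d) := by
    intro c d
    simp only [A, Matrix.fromBlocks_multiply, add_smul, add_comm, _root_.mul_one, _root_.MulZeroClass.mul_zero, _root_.zero_add, _root_.Algebra.mul_smul_comm, _root_.add_zero, _root_.smul_zero]
  let f : Multiplicative F →* Matrix.symplecticGroup (Fin m) F :=
    { toFun := fun c => ⟨A (Multiplicative.toAdd c), hA _⟩
      map_one' := by
        apply Subtype.ext
        change A 0 = 1
        simp [A, Matrix.fromBlocks_one]
      map_mul' := by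
        intro x y
        apply Subtype.ext
        exact (hmul _ _).symm }
  have hf : Function.Injective f := by
    intro x y h
    have h1 : A (Multiplicative.toAdd x) = A (Multiplicative.toAdd y) := congrArg Subtype.val h
    have h2 := congrFun (congrFun h1 (Sum.inl ⟨0, hm⟩)) (Sum.inr ⟨0, hm⟩)
    simp [A] at h2
    exact h2
  have h1 := Subgroup.card_dvd_of_injective f hf
  refine dvd_trans ?_ h1
  have h2 : Nat.card (Multiplicative F) = Fintype.card F :=
    (Nat.card_congr Multiplicative.toAdd).trans Nat.card_eq_fintype_card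
  rw [h2]
  obtain ⟨n, hp, hn⟩ := FiniteField.card F p
  rw [hn]
  exact dvd_pow_self p n.pos.ne'

/-- one-dimensional semilinear groups are soluble -/
theorem solvable_gamma {U : Type u} [AddCommGroup U] {F : Type} [Field F] [Fintype F] (e : U ≃+ F)
    (H : Subgroup (Equiv.Perm U)) (hH : ∀ h ∈ H, ∃ (c : F) (σ : F ≃+* F), ∀ v : U, e (h v) = c * σ (e v)) :
    Group.IsSolvable H := by
  classical
  have hne : ∀ h : H, ∀ (c : F) (σ : F ≃+* F), (∀ v : U, e (h.1 v) = c * σ (e v)) → c ≠ 0 := by
    intro h c σ hc h0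
    subst h0
    have h1 : ∀ v w : U, v = w := by
      intro v w
      apply h.1.injective
      apply e.injective
      rw [hc, hc, zero_mul, zero_mul]
    have h2 := h1 (e.symm 1) (e.symm 0)
    exact one_ne_zero (e.symm.injective h2)
  let K : Subgroup H :=
    { carrier := {h | ∃ c : F, ∀ v : U, e (h.1 v) = c * e v}
      one_mem' := ⟨1, fun v => by rw [one_mul]; rfl⟩
      mul_mem' := by
        rintro a b ⟨c, hc⟩ ⟨d, hd⟩
        refine ⟨c * d, fun v => ?_⟩
        change e (a.1 (b.1 v)) = _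
        rw [hc, hd, mul_assoc]
      inv_mem' := by
        rintro a ⟨c, hc⟩
        have hc0 := hne a c (RingEquiv.refl F) (fun v => by rw [hc]; rfl)
        refine ⟨c⁻¹, fun v => ?_⟩
        have h1 := hc ((a⁻¹ : H).1 v)
        have h2 : a.1 ((a⁻¹ : H).1 v) = v := by
          change (a * a⁻¹ : H).1 v = v
          rw [mul_inv_cancel]; rfl
        rw [h2] at h1
        rw [h1, inv_mul_cancel_left₀ hc0] }
  have hcomm : ∀ a b : H, ⁅a, b⁆ ∈ K := by
    intro a b
    obtain ⟨c, σ, hc⟩ := hH a.1 a.2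
    obtain ⟨d, τ, hd⟩ := hH b.1 b.2
    have hc0 := hne a c σ hc
    have hd0 := hne b d τ hd
    -- `a b = k b a`
    refine ⟨c * σ d * (d * τ c)⁻¹, fun v => ?_⟩
    have h1 : ∀ w, e ((a * b : H).1 w) = c * σ d * (d * τ c)⁻¹ * e ((b * a : H).1 w) := by
      intro w
      change e (a.1 (b.1 w)) = _ * e (b.1 (a.1 w))
      rw [hc, hd, hd, hc, map_mul, map_mul]
      have h2 : σ (τ (e w)) = τ (σ (e w)) := by
        have := Cfsg.Agent.Lib.AutSL2Out.ringEquiv_comm σ τ
        exact congrArg (fun f : F ≃+* F => f (e w)) this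
      rw [h2]
      have hx : d * τ c ≠ 0 := mul_ne_zero hd0 ((map_ne_zero τ).2 hc0)
      have hτc : τ c ≠ 0 := (map_ne_zero τ).2 hc0
      field_simp
    have h3 := h1 ((b * a : H)⁻¹.1 v)
    have h4 : (b * a : H).1 ((b * a : H)⁻¹.1 v) = v := by
      change ((b * a) * (b * a)⁻¹ : H).1 v = v
      rw [mul_inv_cancel]; rfl
    rw [h4] at h3
    rw [← h3]
    have h5 : (⁅a, b⁆ : H) = (a * b) * (b * a)⁻¹ := by rw [commutatorElement_def]; group
    rw [h5]
    rfl
  have hKn : K.Normal := by
    constructor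
    intro k hk g
    have : g * k * g⁻¹ = ⁅g, k⁆ * k := by rw [commutatorElement_def]; group
    rw [this]
    exact K.mul_mem (hcomm g k) hk
  have h1 : Group.IsSolvable K := by
    refine Group.isSolvable_of_comm ?_
    rintro ⟨a, c, hc⟩ ⟨b, d, hd⟩
    apply Subtype.ext
    apply Subtype.ext
    apply Equiv.ext
    intro v
    apply e.injective
    change e (a.1 (b.1 v)) = e (b.1 (a.1 v))
    rw [hc, hd, hd, hc]
    ring
  have h2 : Group.IsSolvable (H ⧸ K) := by
    refine Group.isSolvable_of_comm ?_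
    intro x y
    obtain ⟨x, rfl⟩ := QuotientGroup.mk_surjective x
    obtain ⟨y, rfl⟩ := QuotientGroup.mk_surjective y
    rw [← QuotientGroup.mk_mul, ← QuotientGroup.mk_mul, eq_comm, QuotientGroup.eq]
    have := hcomm x⁻¹ y⁻¹
    rw [commutatorElement_def] at this
    have e1 : (y * x)⁻¹ * (x * y) = x⁻¹ * y⁻¹ * x⁻¹⁻¹ * y⁻¹⁻¹ := by group
    rw [e1]; exact this
  refine Group.isSolvable_of_ker_le_range K.subtype (QuotientGroup.mk' K) ?_
  rw [QuotientGroup.ker_mk', Subgroup.range_subtype]

/-- an element of order 3 -/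
theorem three_dvd_sl (R : Type) [CommRing R] [Nontrivial R] [Finite R] :
    3 ∣ Nat.card (Matrix.SpecialLinearGroup (Fin 2) R) := by
  classical
  let A : Matrix.SpecialLinearGroup (Fin 2) R := ⟨!![0, -1; 1, -1], by rw [Matrix.det_fin_two_of]; ring⟩
  have h3 : A ^ 3 = 1 := by
    apply Subtype.ext
    change (!![0, -1; 1, -1] : Matrix (Fin 2) (Fin 2) R) ^ 3 = 1
    rw [pow_succ, pow_two]
    ext i j
    (revert i j; simp only [Matrix.mul_apply, Fin.sum_univ_two, _root_.Fin.forall_fin_succ, _root_.Matrix.cons_mul, _root_.Nat.succ_eq_add_one, Nat.reduceAdd, _root_.Matrix.vecMul_cons, _root_.Matrix.head_cons, _root_.zero_smul, _root_.Matrix.tail_cons, _root_.neg_smul, _root_.one_smul, _root_.Matrix.neg_cons, _root_.neg_neg, _root_.Matrix.neg_empty, _root_.Matrix.empty_vecMul, _root_.add_zero, _root_.zero_add, _root_.Matrix.add_cons, _root_.neg_add_cancel, _root_.Matrix.empty_add_empty, _root_.Matrix.empty_mul, _root_.Equiv.symm_apply_apply, _root_.Matrix.of_apply, _root_.Matrix.cons_val',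 _root_.Matrix.cons_val_fin_one, Fin.isValue, _root_.Matrix.cons_val_zero, _root_.Matrix.cons_val_one, _root_.MulZeroClass.mul_zero, _root_.mul_one, _root_.Matrix.cons_val_succ, _root_.mul_neg, _root_.IsEmpty.forall_iff, _root_.and_true, _root_.Matrix.one_apply_eq, _root_.add_neg_cancel, _root_.Fin.succ_zero_eq_one, _root_.ne_eq, _root_.zero_ne_one, _root_.not_false_eq_true, _root_.Matrix.one_apply_ne, _root_.and_self, _root_.Fin.succ_ne_zero, _root_.neg_zero, _root_.true_and])
  have h1 : A ≠ 1 := by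
    intro h
    have h1 : (!![0, -1; 1, -1] : Matrix (Fin 2) (Fin 2) R) = 1 := congrArg Subtype.val h
    have h2 := congrFun (congrFun h1 1) 0
    simp at h2
  have : Fact (Nat.Prime 3) := ⟨Nat.prime_three⟩
  have h2 : orderOf A = 3 := orderOf_eq_prime h3 h1
  rw [← h2]
  exact orderOf_dvd_natCard A

section lin

variable {p : ℕ} [Fact p.Prime] {U : Type u} [AddCommGroup U] [Module (ZMod p) U] [Finite U]

/-- additive permutations are linear -/
def lin (H : Subgroup (Equiv.Perm U)) (hadd : ∀ h ∈ H, ∀ v w : U, h (v + w) = h v + h w) :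
    H →* (U ≃ₗ[ZMod p] U) where
  toFun h :=
    { toFun := h.1
      invFun := h.1.symm
      left_inv := h.1.left_inv
      right_inv := h.1.right_inv
      map_add' := hadd _ h.2
      map_smul' := fun c x => ZMod.map_smul (AddMonoidHom.mk' h.1 (hadd _ h.2)) c x }
  map_one' := rfl
  map_mul' _ _ := rfl

theorem lin_injective (H : Subgroup (Equiv.Perm U)) (hadd : ∀ h ∈ H, ∀ v w : U, h (v + w) = h v + h w) :
    Function.Injective (lin (p := p) H hadd) := by
  intro a b h
  apply Subtype.ext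
  apply Equiv.ext
  intro v
  exact congrArg (fun f : U ≃ₗ[ZMod p] U => f v) h

/-- a `p'`-group in dimension 2 that is not commutative is irreducible -/
theorem irr_of_dim_two {N : Subgroup (U ≃ₗ[ZMod p] U)} (h2 : Module.finrank (ZMod p) U = 2) (hp : ¬ p ∣ Nat.card N)
    (hnc : ∃ a ∈ N, ∃ b ∈ N, a * b ≠ b * a) : Irr N := by
  classical
  intro W hW
  by_contra hcon
  push Not at hcon
  obtain ⟨K, hK, hKi⟩ := exists_compl hp hW
  have hW0 : 0 < Module.finrank (ZMod p) W := by
    rw [Module.finrank_pos_iff, Submodule.nontrivial_iff_ne_bot]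
    exact hcon.1
  have hK0 : 0 < Module.finrank (ZMod p) K := by
    rw [Module.finrank_pos_iff, Submodule.nontrivial_iff_ne_bot]
    rintro rfl
    apply hcon.2
    have := hK.sup_eq_top
    rwa [sup_bot_eq] at this
  have hsum := Submodule.finrank_add_eq_of_isCompl hK
  have hW1 : Module.finrank (ZMod p) W = 1 := by omega
  have hK1 : Module.finrank (ZMod p) K = 1 := by omega
  have key : ∀ (M : Submodule (ZMod p) U), Module.finrank (ZMod p) M = 1 → (∀ g ∈ N, ∀ v ∈ M, g v ∈ M) →
      ∀ a ∈ N, ∀ b ∈ N, ∀ v ∈ M, a (b v) = b (a v) := by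
    intro M hM hMi a ha b hb v hv
    obtain ⟨m, hm, hspan⟩ := finrank_eq_one_iff'.1 hM
    have hsc : ∀ g ∈ N, ∃ c : ZMod p, ∀ x ∈ M, g x = c • x := by
      intro g hg
      obtain ⟨c, hc⟩ := hspan ⟨g m.1, hMi g hg _ m.2⟩
      refine ⟨c, fun x hx => ?_⟩
      obtain ⟨d, hd⟩ := hspan ⟨x, hx⟩
      have hd' : d • (m : U) = x := congrArg Subtype.val hd
      have hc' : c • (m : U) = g m.1 := congrArg Subtype.val hc
      rw [← hd', map_smul, ← hc', smul_comm]
    obtain ⟨c, hc⟩ := hsc a ha
    obtain ⟨d, hd⟩ := hsc b hb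
    rw [hd v hv, hc v hv, map_smul, map_smul, hc v hv, hd v hv, smul_comm]
  obtain ⟨a, ha, b, hb, hab⟩ := hnc
  apply hab
  apply LinearEquiv.ext
  intro v
  obtain ⟨w, hw, k, hk, rfl⟩ : ∃ w ∈ W, ∃ k ∈ K, w + k = v := by
    have : v ∈ W ⊔ K := by rw [hK.sup_eq_top]; trivial
    exact Submodule.mem_sup.1 this
  change a (b (w + k)) = b (a (w + k))
  rw [map_add, map_add, map_add, map_add, key W hW1 hW a ha b hb w hw, key K hK1 hKi a ha b hb k hk]

/-- dimension 2 with a normal quaternion group: soluble -/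
theorem solvable_of_q8 [Nontrivial U] (H : Subgroup (Equiv.Perm U))
    (hadd : ∀ h ∈ H, ∀ v w : U, h (v + w) = h v + h w)
    (h2 : Module.finrank (ZMod p) U = 2) (hp : ¬ p ∣ Nat.card H) (N : Subgroup H) (hN : N.Normal)
    (e : N ≃* QuaternionGroup 2) : Group.IsSolvable H := by
  classical
  let N' : Subgroup (U ≃ₗ[ZMod p] U) := N.map (lin H hadd)
  have hcard : Nat.card N' = Nat.card N :=
    Nat.card_congr (N.equivMapOfInjective _ (lin_injective H hadd)).toEquiv.symm
  have hp' : ¬ p ∣ Nat.card N' := by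
    rw [hcard]
    exact fun h => hp (h.trans (Subgroup.card_subgroup_dvd_card N))
  have hirr : Irr N' := by
    refine irr_of_dim_two h2 hp' ?_
    refine ⟨lin H hadd (e.symm (QuaternionGroup.a 1)), Subgroup.mem_map_of_mem _ (e.symm _).2,
      lin H hadd (e.symm (QuaternionGroup.xa 0)), Subgroup.mem_map_of_mem _ (e.symm _).2, ?_⟩
    intro h
    rw [← map_mul, ← map_mul] at h
    have h1 := lin_injective H hadd h
    have h3 : (e.symm (QuaternionGroup.a 1) * e.symm (QuaternionGroup.xa 0) : N) =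
        e.symm (QuaternionGroup.xa 0) * e.symm (QuaternionGroup.a 1) := Subtype.ext h1
    rw [← map_mul, ← map_mul] at h3
    have h4 := e.symm.injective h3
    revert h4
    decide
  -- the centraliser
  let c : H →* MulAut N := MulAut.conjNormal
  have hker : Group.IsSolvable c.ker := by
    refine Group.isSolvable_of_comm ?_
    rintro ⟨a, ha⟩ ⟨b, hb⟩
    have hc : ∀ a : H, a ∈ c.ker → ∀ l ∈ N', lin (p := p) H hadd a * l = l * lin H hadd a := by
      rintro a ha _ ⟨n, hn, rfl⟩
      rw [← map_mul, ← map_mul]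
      congr 1
      have h5 : c a = 1 := ha
      have h6 := congrArg (fun f : MulAut N => ((f ⟨n, hn⟩ : N) : H)) h5
      have h7 : a * n * a⁻¹ = n := by
        simpa only [c, MulAut.conjNormal_apply, _root_.MulAut.one_apply] using h6
      rw [mul_inv_eq_iff_eq_mul] at h7
      exact h7
    have h8 := cent_comm hirr (hc a ha) (hc b hb)
    rw [← map_mul, ← map_mul] at h8
    apply Subtype.ext
    exact lin_injective H hadd h8
  have hrange : Group.IsSolvable (MulAut N) := by
    have h9 : Nat.card (MulAut N) = 2 ^ 3 * 3 ^ 1 := by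
      rw [Nat.card_congr (MulAut.congr e).toEquiv, Cfsg.Agent.PermutationGroups.AutQuaternion.card_mulAut]
      norm_num
    have : Finite (MulAut N) := Nat.finite_of_card_ne_zero (by rw [h9]; norm_num)
    exact Cfsg.Agent.S0144.result 2 3 3 1 Nat.prime_two Nat.prime_three h9
  refine Group.isSolvable_of_ker_le_range c.ker.subtype c ?_
  rw [Subgroup.range_subtype]

end lin

/-- **`HerHyp` from the statement S3695 and Feit–Thompson.** -/
theorem herHyp_of (hH : HerStmt.{u}) (hFT : FT.{u}) : HerHyp.{u} := by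
  intro p _ U _ _ _ _ H hadd htr hp hins
  classical
  have hp2 : p ≠ 2 := by
    rintro rfl
    apply hins
    apply hFT
    rw [← Nat.not_even_iff_odd, even_iff_two_dvd]
    exact hp
  have hpr := (Fact.out : p.Prime)
  have h1 : 1 ≤ Module.finrank (ZMod p) U := Module.finrank_pos
  have hN : ∀ N : Subgroup H, ¬ p ∣ Nat.card N :=
    fun N h => hp (h.trans (Subgroup.card_subgroup_dvd_card N))
  rcases hH (K := ZMod p) (V := U) p (Module.finrank (ZMod p) U) (ZMod.card p) rfl h1 H hadd
    (fun h hh => ⟨RingEquiv.refl _, fun c v => ZMod.map_smul (AddMonoidHom.mk' h (hadd _ hh)) c v⟩)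
    (fun v w hv hw => by
      obtain ⟨h, hh, hvw⟩ := htr v w hv hw
      exact ⟨h, hh, 1, by rw [hvw, one_smul]⟩) with
    ⟨a, b, F, _, _, hab, hF, N, hNn, hcase⟩ | ⟨F, _, _, e, hF, he⟩ | ⟨hn2, hq, N, hNn, ⟨e⟩⟩ |
    ⟨hn2, hq, N, hNn, he⟩ | ⟨hn4, hq, -⟩ | ⟨hn4, hq, hcase⟩ | ⟨hn6, hq, ⟨e⟩⟩
  · have : CharP F p := charP_of_card_eq_prime_pow hF
    rcases hcase with ⟨ha, ⟨e⟩⟩ | ⟨m, ham, hm, ⟨e⟩⟩ | ⟨-, hq2, -⟩ | ⟨-, h2, -⟩
    · exfalso
      apply hN N
      rw [Nat.card_congr e.toEquiv]
      exact dvd_card_sl ha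
    · exfalso
      apply hN N
      rw [Nat.card_congr e.toEquiv]
      exact dvd_card_sp hm
    · exfalso
      exact hp2 ((Nat.prime_dvd_prime_iff_eq Nat.prime_two hpr).1 (Nat.dvd_of_mod_eq_zero hq2)).symm
    · exfalso
      rw [h2] at hF
      have hb : b ≠ 0 := by rintro rfl; norm_num at hF
      have : p ∣ 2 := by rw [hF]; exact dvd_pow_self p hb
      exact hp2 ((Nat.prime_dvd_prime_iff_eq hpr Nat.prime_two).1 this)
  · exact absurd (solvable_gamma e H he) hins
  · exact absurd (solvable_of_q8 (p := p) H hadd hn2 hp N hNn e) hins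
  · refine ⟨hn2, ?_, N, hNn, he⟩
    rcases hq with rfl | h
    · exfalso; revert hpr; norm_num
    · exact h
  · exact absurd hq hp2
  · exfalso
    subst hq
    rcases hcase with ⟨N, -, -, hd⟩ | ⟨N, hNn, ⟨e⟩⟩
    · apply hins
      have h3 : Nat.Coprime (Nat.card H) 3 := by
        rw [Nat.coprime_comm, Nat.Prime.coprime_iff_not_dvd Nat.prime_three]
        exact hp
      have h4 : Nat.card H ∣ 2 ^ 8 * 5 ^ 1 := by
        have h5 : Nat.card H ∣ 2 ^ 8 * 5 ^ 1 * 3 := by
          have : 32 * 120 = 2 ^ 8 * 5 ^ 1 * 3 := by norm_num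
          rw [← this]; exact hd
        exact h3.dvd_of_dvd_mul_right h5
      obtain ⟨d₁, d₂, h6, h7, h8⟩ := exists_dvd_and_dvd_of_dvd_mul h4
      obtain ⟨i, -, rfl⟩ := (Nat.dvd_prime_pow Nat.prime_two).mp h6
      obtain ⟨j, -, rfl⟩ := (Nat.dvd_prime_pow Nat.prime_five).mp h7
      exact Cfsg.Agent.S0144.result 2 5 i j Nat.prime_two Nat.prime_five h8
    · apply hN N
      rw [Nat.card_congr e.toEquiv]
      have : Fact (Nat.Prime 5) := ⟨Nat.prime_five⟩
      exact three_dvd_sl (ZMod 5)
  · exfalso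
    subst hq
    apply hp
    rw [Nat.card_congr e.toEquiv]
    have : Fact (Nat.Prime 13) := ⟨by norm_num⟩
    exact three_dvd_sl (ZMod 13)

end Cfsg.Agent.H960.HT
end
end
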